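import Mathlib
import Cfsg.Agent.S0308
import Cfsg.Agent.S0309
import Cfsg.Agent.S1026
import Cfsg.Agent.S1036
import Cfsg.Agent.S1037
import Cfsg.Agent.S1038
import Cfsg.Agent.S1040
import Cfsg.Agent.S1042
import Cfsg.Agent.S1043
import Cfsg.Agent.S1053
import Cfsg.Agent.ChevalleyStructure.BruhatSplit
import Cfsg.Agent.ChevalleyStructure.TwistedFix
import Cfsg.Agent.GpExc.Field
set_option linter.all false

-- merged: Cfsg.Agent.BpExc.FixNorm
section

/-!
# The fixed points of an endomorphism normalise the group generated by the fixed root elements (helper95)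

`D` in the list, `k` any field, `U`, `V`, `T`, `N` the standard subgroups of `D.group k`.

* `exists_form`, `form_unique` : `g = u m v` with `u ∈ U`, `m ∈ N`, `v ∈ U ∩ m⁻¹ V m`, uniquely;
* `form_fix` : for `σ` preserving `U`, `V`, `N` the factors of a fixed element are fixed;
* `le_normalizer` : if `K0` contains `U ∩ Fix σ`, `V ∩ Fix σ` and is generated by fixed elements `s` with
  `m s m⁻¹ ∈ U V` for every `m ∈ N`, then `D.group k ∩ Fix σ` normalises `K0`.
-/

set_option autoImplicit false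

namespace Cfsg.Agent.BpExc.FixNorm

open Cfsg.Lie Cfsg.Agent.ChevalleyStructure Cfsg.Agent.ChevalleyStructure.Elts
open Cfsg.Agent.ChevalleyStructure.TwistedFix

universe u

variable {D : ChevalleyDatum} (hD : InList D) {k : Type u} [Field k]

section Basic

include hD

theorem diag_norm {t u : GL D.Idx k} (ht : t ∈ D.diagonalSubgroup k) (hu : u ∈ D.posUnipotent k) :
    t * u * t⁻¹ ∈ D.posUnipotent k :=
  (Subgroup.mem_normalizer_iff.1 ((Cfsg.Agent.S1036.result (F := k) D hD).1 ht) u).1 hu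

theorem diag_norm_neg {t v : GL D.Idx k} (ht : t ∈ D.diagonalSubgroup k) (hv : v ∈ D.negUnipotent k) :
    t * v * t⁻¹ ∈ D.negUnipotent k := by
  have h : D.negUnipotent k ≤ (D.negUnipotent k).comap (MulAut.conj t).toMonoidHom := by
    rw [negUnipotent_le_iff hD]
    intro r hr c
    obtain ⟨c', -, hc⟩ := BNChev.diagonal_conj hD ht hr.1
    rw [Subgroup.mem_comap]
    show t * xG hD r c * t⁻¹ ∈ _
    rw [hc]
    exact xG_mem_negUnipotent hD hr _
  exact h hv

theorem mem_borel_iff {b : GL D.Idx k} : b ∈ D.borelSubgroup k ↔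
    ∃ u ∈ D.posUnipotent k, ∃ t ∈ D.diagonalSubgroup k, b = u * t := by
  constructor
  · intro hb
    have h1 : D.diagonalSubgroup k ≤ Subgroup.normalizer (D.posUnipotent k : Set (GL D.Idx k)) :=
      (Cfsg.Agent.S1036.result (F := k) D hD).1
    have hb' : b ∈ D.posUnipotent k ⊔ D.diagonalSubgroup k := hb
    rw [← SetLike.mem_coe, Subgroup.coe_mul_of_right_le_normalizer_left _ _ h1] at hb'
    obtain ⟨u, hu, t, ht, e⟩ := hb'
    exact ⟨u, hu, t, ht, e.symm⟩
  · rintro ⟨u, hu, t, ht, rfl⟩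
    exact mul_mem ((le_sup_left : D.posUnipotent k ≤ D.borelSubgroup k) hu)
      ((le_sup_right : D.diagonalSubgroup k ≤ D.borelSubgroup k) ht)

/-- `T` is normal in `N`. -/
theorem mono_norm {m t : GL D.Idx k} (hm : m ∈ D.monomialSubgroup k) (ht : t ∈ D.diagonalSubgroup k) :
    m * t * m⁻¹ ∈ D.diagonalSubgroup k := by
  have h := (Cfsg.Agent.S1038.result (F := k) D hD).conj_mem ⟨t, diagonal_le_monomial D k ht⟩ ht ⟨m, hm⟩
  exact h

theorem pos_inf_neg_diag {u v t v' : GL D.Idx k} (hu : u ∈ D.posUnipotent k) (hv : v ∈ D.negUnipotent k)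
    (ht : t ∈ D.diagonalSubgroup k) (hv' : v' ∈ D.negUnipotent k) (h : u = v * t * v') : u = 1 := by
  have h1 : u ∈ D.borelSubgroup k ⊓ (D.negUnipotent k ⊔ D.diagonalSubgroup k) := by
    refine ⟨(le_sup_left : D.posUnipotent k ≤ D.borelSubgroup k) hu, ?_⟩
    rw [h]
    exact mul_mem (mul_mem (Subgroup.mem_sup_left hv) (Subgroup.mem_sup_right ht)) (Subgroup.mem_sup_left hv')
  rw [(Cfsg.Agent.S1037.result (F := k) D hD).2] at h1
  have h2 : u ∈ D.posUnipotent k ⊓ D.diagonalSubgroup k := ⟨hu, h1⟩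
  rw [(Cfsg.Agent.S1036.result (F := k) D hD).2, Subgroup.mem_bot] at h2
  exact h2

theorem pos_neg_eq_one {u : GL D.Idx k} (hu : u ∈ D.posUnipotent k) (hv : u ∈ D.negUnipotent k) : u = 1 :=
  pos_inf_neg_diag hD hu hv (one_mem _) (one_mem _) (by rw [mul_one, mul_one])

theorem neg_diag_eq_one {u : GL D.Idx k} (hu : u ∈ D.negUnipotent k) (hv : u ∈ D.diagonalSubgroup k) : u = 1 := by
  have h1 : u ∈ D.borelSubgroup k ⊓ D.negUnipotent k :=
    ⟨(le_sup_right : D.diagonalSubgroup k ≤ D.borelSubgroup k) hv, hu⟩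
  rw [(Cfsg.Agent.S1037.result (F := k) D hD).1, Subgroup.mem_bot] at h1
  exact h1

/-- **Bruhat form.** -/
theorem exists_form {g : GL D.Idx k} (hg : g ∈ D.group k) : ∃ u ∈ D.posUnipotent k, ∃ m ∈ D.monomialSubgroup k,
    ∃ v ∈ D.posUnipotent k, g = u * m * v ∧ m * v * m⁻¹ ∈ D.negUnipotent k := by
  obtain ⟨P, hPB, hPN, -⟩ := Cfsg.Agent.S1042.result (F := k) D hD
  obtain ⟨n, hn, hgn⟩ := Cfsg.Agent.S0308.result P ⟨g, hg⟩
  rw [DoubleCoset.mem_doubleCoset] at hgn
  obtain ⟨b, hb, b', hb', e⟩ := hgn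
  rw [hPB] at hb hb'
  rw [hPN] at hn
  have e' : g = (b : GL D.Idx k) * (n : GL D.Idx k) * (b' : GL D.Idx k) := congrArg Subtype.val e
  have hn' : (n : GL D.Idx k) ∈ D.monomialSubgroup k := hn
  have hbb : (b : GL D.Idx k) ∈ D.borelSubgroup k := hb
  have hbb' : (b' : GL D.Idx k) ∈ D.borelSubgroup k := hb'
  obtain ⟨u, hu, t, ht, eb⟩ := (mem_borel_iff hD).1 hbb
  obtain ⟨u', hu', t', ht', eb'⟩ := (mem_borel_iff hD).1 hbb'
  obtain ⟨a, ha, c, hc, eu, hna⟩ := BruhatSplit.split hD hn' hu'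
  set n0 : GL D.Idx k := (n : GL D.Idx k) with hn0
  have hc1 : c ∈ D.posUnipotent k := BruhatSplit.Um_le _ hc
  have hc2 := BruhatSplit.Um_conj_mem hc
  refine ⟨u * (t * (n0 * a * n0⁻¹) * t⁻¹), mul_mem hu (diag_norm hD ht hna), t * n0 * t',
    mul_mem (mul_mem (diagonal_le_monomial D k ht) hn') (diagonal_le_monomial D k ht'), t'⁻¹ * c * t', ?_, ?_, ?_⟩
  · have h1 := diag_norm hD (inv_mem ht') hc1
    rwa [inv_inv] at h1
  · rw [e', eb, eb', eu]
    group
  · have h1 : t * n0 * t' * (t'⁻¹ * c * t') * (t * n0 * t')⁻¹ = t * (n0 * c * n0⁻¹) * t⁻¹ := by group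
    rw [h1]
    exact diag_norm_neg hD ht hc2

theorem bruhat {m m' b b' : GL D.Idx k} (hm : m ∈ D.monomialSubgroup k)
    (hm' : m' ∈ D.monomialSubgroup k) (hb : b ∈ D.borelSubgroup k)
    (hb' : b' ∈ D.borelSubgroup k) (h : m = b * m' * b') : m⁻¹ * m' ∈ D.diagonalSubgroup k := by
  obtain ⟨P, hPB, hPN, _⟩ := Cfsg.Agent.S1042.result (F := k) D hD
  obtain ⟨hBG, hNG, _⟩ := Cfsg.Agent.S1043.result (F := k) D hD
  have h1 : (⟨m, hNG hm⟩ : ↥(D.group k)) ∈ P.N := by rw [hPN]; exact hm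
  have h2 : (⟨m', hNG hm'⟩ : ↥(D.group k)) ∈ P.N := by rw [hPN]; exact hm'
  have h3 := (Cfsg.Agent.S0309.result P h1 h2).1 (DoubleCoset.doubleCoset_eq_of_mem (by
    rw [DoubleCoset.mem_doubleCoset]
    refine ⟨⟨b, hBG hb⟩, ?_, ⟨b', hBG hb'⟩, ?_, Subtype.ext h⟩
    · rw [hPB]; exact hb
    · rw [hPB]; exact hb'))
  rw [hPB] at h3
  have h4 : m⁻¹ * m' ∈ D.borelSubgroup k ⊓ D.monomialSubgroup k := ⟨h3, (D.monomialSubgroup k).mul_mem ((D.monomialSubgroup k).inv_mem hm) hm'⟩
  rwa [(Cfsg.Agent.S1040.result (F := k) D hD).2] at h4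

/-- **Uniqueness of the Bruhat form.** -/
theorem form_unique {u m v u' m' v' : GL D.Idx k} (hu : u ∈ D.posUnipotent k) (hm : m ∈ D.monomialSubgroup k)
    (hv : v ∈ D.posUnipotent k) (hmv : m * v * m⁻¹ ∈ D.negUnipotent k)
    (hu' : u' ∈ D.posUnipotent k) (hm' : m' ∈ D.monomialSubgroup k)
    (hv' : v' ∈ D.posUnipotent k) (hmv' : m' * v' * m'⁻¹ ∈ D.negUnipotent k)
    (h : u * m * v = u' * m' * v') : u = u' ∧ m = m' ∧ v = v' := by
  have hUB : D.posUnipotent k ≤ D.borelSubgroup k := le_sup_left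
  have h1 : m' = (u'⁻¹ * u) * m * (v * v'⁻¹) := by
    have : m' = u'⁻¹ * (u' * m' * v') * v'⁻¹ := by group
    rw [this, ← h]
    group
  have h2 : m'⁻¹ * m ∈ D.diagonalSubgroup k :=
    bruhat hD hm' hm (hUB ((D.posUnipotent k).mul_mem ((D.posUnipotent k).inv_mem hu') hu))
      (hUB ((D.posUnipotent k).mul_mem hv ((D.posUnipotent k).inv_mem hv'))) h1
  -- `m' m⁻¹ ∈ T`
  have h3 : m' * m⁻¹ ∈ D.diagonalSubgroup k := by
    have h4 := mono_norm hD hm' h2
    have h5 : m' * (m'⁻¹ * m) * m'⁻¹ = m * m'⁻¹ := by group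
    rw [h5] at h4
    have h6 := inv_mem h4
    rwa [mul_inv_rev, inv_inv] at h6
  have h7 : u'⁻¹ * u = (m' * v' * m'⁻¹) * (m' * m⁻¹) * (m * v⁻¹ * m⁻¹) := by
    have h8 : u'⁻¹ * u = m' * (v * v'⁻¹)⁻¹ * m⁻¹ := by
      rw [h1]; group
    rw [h8]
    group
  have h9 : m * v⁻¹ * m⁻¹ ∈ D.negUnipotent k := by
    have := inv_mem hmv
    rwa [mul_inv_rev, mul_inv_rev, inv_inv, ← mul_assoc] at this
  have h10 := pos_inf_neg_diag hD (mul_mem (inv_mem hu') hu) hmv' h3 h9 h7
  have h11 : u = u' := (inv_mul_eq_one.1 h10).symm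
  have h12 : m' * m⁻¹ = 1 := by
    rw [h10] at h7
    have h13 : m' * m⁻¹ = (m' * v' * m'⁻¹)⁻¹ * (m * v⁻¹ * m⁻¹)⁻¹ := by
      have : m' * m⁻¹ = (m' * v' * m'⁻¹)⁻¹ * ((m' * v' * m'⁻¹) * (m' * m⁻¹) * (m * v⁻¹ * m⁻¹)) *
          (m * v⁻¹ * m⁻¹)⁻¹ := by group
      rw [this, ← h7]
      group
    refine neg_diag_eq_one hD ?_ h3
    rw [h13]
    exact mul_mem (inv_mem hmv') (inv_mem h9)
  have h14 : m = m' := (mul_inv_eq_one.1 h12).symm
  subst h11 h14
  refine ⟨rfl, rfl, ?_⟩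
  exact mul_left_cancel h

/-- The factors of a fixed element are fixed. -/
theorem form_fix {σ : GL D.Idx k →* GL D.Idx k} (hU : ∀ u ∈ D.posUnipotent k, σ u ∈ D.posUnipotent k)
    (hV : ∀ u ∈ D.negUnipotent k, σ u ∈ D.negUnipotent k)
    (hN : ∀ u ∈ D.monomialSubgroup k, σ u ∈ D.monomialSubgroup k) {g : GL D.Idx k} (hg : g ∈ D.group k)
    (hσ : σ g = g) : ∃ u ∈ D.posUnipotent k, σ u = u ∧ ∃ m ∈ D.monomialSubgroup k, σ m = m ∧
      ∃ v ∈ D.posUnipotent k, σ v = v ∧ g = u * m * v := by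
  obtain ⟨u, hu, m, hm, v, hv, e, hmv⟩ := exists_form hD hg
  have h1 : σ u * σ m * σ v = u * m * v := by
    rw [← map_mul, ← map_mul, ← e, hσ]
  have h2 : σ m * σ v * (σ m)⁻¹ ∈ D.negUnipotent k := by
    rw [← map_inv, ← map_mul, ← map_mul]
    exact hV _ hmv
  obtain ⟨a, b, c⟩ := form_unique hD (hU u hu) (hN m hm) (hU v hv) h2 hu hm hv hmv h1
  exact ⟨u, hu, a, m, hm, b, v, hv, c, e⟩

/-- **The fixed points normalise the group generated by the fixed root elements.** -/
theorem le_normalizer {σ : GL D.Idx k →* GL D.Idx k} (hU : ∀ u ∈ D.posUnipotent k, σ u ∈ D.posUnipotent k)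
    (hV : ∀ u ∈ D.negUnipotent k, σ u ∈ D.negUnipotent k)
    (hN : ∀ u ∈ D.monomialSubgroup k, σ u ∈ D.monomialSubgroup k) {K0 : Subgroup (GL D.Idx k)}
    (hKU : ∀ u ∈ D.posUnipotent k, σ u = u → u ∈ K0) (hKV : ∀ u ∈ D.negUnipotent k, σ u = u → u ∈ K0)
    {S : Set (GL D.Idx k)} (hS : K0 ≤ Subgroup.closure S) (hfix : ∀ s ∈ S, σ s = s)
    (hsplit : ∀ s ∈ S, ∀ m ∈ D.monomialSubgroup k, ∃ a ∈ D.posUnipotent k, ∃ b ∈ D.negUnipotent k,
      m * s * m⁻¹ = a * b) {g : GL D.Idx k} (hg : g ∈ D.group k) (hσ : σ g = g) :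
    g ∈ Subgroup.normalizer (K0 : Set (GL D.Idx k)) := by
  have key : ∀ m ∈ D.monomialSubgroup k, σ m = m → ∀ x ∈ K0, m * x * m⁻¹ ∈ K0 := by
    intro m hm hσm x hx
    have h1 : K0 ≤ K0.comap (MulAut.conj m).toMonoidHom := by
      refine hS.trans ((Subgroup.closure_le _).2 ?_)
      intro s hs
      show m * s * m⁻¹ ∈ K0
      obtain ⟨a, ha, b, hb, e⟩ := hsplit s hs m hm
      have h2 : σ (m * s * m⁻¹) = m * s * m⁻¹ := by
        rw [map_mul, map_mul, map_inv, hσm, hfix s hs]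
      rw [e, map_mul] at h2
      have h3 : a⁻¹ * σ a = b * (σ b)⁻¹ := by
        rw [inv_mul_eq_iff_eq_mul, ← mul_assoc, ← h2]; group
      have h4 : a⁻¹ * σ a = 1 := pos_neg_eq_one hD (mul_mem (inv_mem ha) (hU a ha))
        (by rw [h3]; exact mul_mem hb (inv_mem (hV b hb)))
      have h5 : σ a = a := (inv_mul_eq_one.1 h4).symm
      have h6 : σ b = b := by
        rw [h5] at h2
        exact mul_left_cancel h2
      rw [e]
      exact mul_mem (hKU a ha h5) (hKV b hb h6)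
    exact h1 hx
  obtain ⟨u, hu, hσu, m, hm, hσm, v, hv, hσv, e⟩ := form_fix hD hU hV hN hg hσ
  have hK : K0 ≤ Subgroup.normalizer (K0 : Set (GL D.Idx k)) := Subgroup.le_normalizer
  have hmN : m ∈ Subgroup.normalizer (K0 : Set (GL D.Idx k)) := by
    rw [Subgroup.mem_normalizer_iff]
    intro x
    refine ⟨fun hx => key m hm hσm x hx, fun hx => ?_⟩
    have h1 := key m⁻¹ (inv_mem hm) (by rw [map_inv, hσm]) _ hx
    have h2 : m⁻¹ * (m * x * m⁻¹) * m⁻¹⁻¹ = x := by group
    rwa [h2] at h1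
  rw [e]
  exact mul_mem (mul_mem (hK (hKU u hu hσu)) hmN) (hK (hKU v hv hσv))

end Basic

/-! ### Splitting commuting products of root elements -/

section Split

/-- A commuting product of elements of `U ∪ V` is in `U V`. -/
theorem split_list {Γ : Type*} [Group Γ] {U V : Subgroup Γ} : ∀ {l : List Γ}, (∀ y ∈ l, y ∈ U ∨ y ∈ V) →
    l.Pairwise (fun a b => Commute a b) →
    ∃ a ∈ U, ∃ b ∈ V, l.prod = a * b ∧ ∀ z, (∀ y ∈ l, Commute z y) → Commute z a ∧ Commute z b := by
  intro l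
  induction l with
  | nil =>
    intro _ _
    exact ⟨1, one_mem _, 1, one_mem _, by simp, fun z _ => ⟨Commute.one_right z, Commute.one_right z⟩⟩
  | cons y l ih =>
    intro h hc
    rw [List.pairwise_cons] at hc
    obtain ⟨a, ha, b, hb, e, hz⟩ := ih (fun x hx => h x (List.mem_cons_of_mem _ hx)) hc.2
    obtain ⟨hya, hyb⟩ := hz y hc.1
    rcases h y List.mem_cons_self with hy | hy
    · refine ⟨y * a, mul_mem hy ha, b, hb, by rw [List.prod_cons, e, mul_assoc], fun z hz' => ?_⟩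
      obtain ⟨h1, h2⟩ := hz z fun x hx => hz' x (List.mem_cons_of_mem _ hx)
      exact ⟨(hz' y List.mem_cons_self).mul_right h1, h2⟩
    · refine ⟨a, ha, y * b, mul_mem hy hb, by rw [List.prod_cons, e, ← mul_assoc, hya.eq, mul_assoc],
        fun z hz' => ?_⟩
      obtain ⟨h1, h2⟩ := hz z fun x hx => hz' x (List.mem_cons_of_mem _ hx)
      exact ⟨h1, (hz' y List.mem_cons_self).mul_right h2⟩

/-- conjugates of root elements by monomial elements are in `U` or in `V` -/
theorem conj_cases {m : GL D.Idx k} (hm : m ∈ D.monomialSubgroup k) {r : ℕ} (hr : r < D.nroots) (t : k) :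
    m * xG hD r t * m⁻¹ ∈ D.posUnipotent k ∨ m * xG hD r t * m⁻¹ ∈ D.negUnipotent k := by
  obtain ⟨π, hπ⟩ := (BNChev.acts_of_mem hD hm).1
  obtain ⟨h1, -, h3⟩ := hπ r hr
  obtain ⟨u, hu⟩ := h3 t
  rw [hu]
  have hG := RootComb.good_of_mem hD
  by_cases h : D.nroots / 2 ≤ π r
  · exact Or.inl (xG_mem_posUnipotent hD (hG.isPosRoot_iff.2 ⟨h, h1⟩) u)
  · exact Or.inr (xG_mem_negUnipotent hD (hG.isNegRoot_iff.2 (by omega)) u)

/-- The splitting of the conjugates of a commuting product of root elements. -/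
theorem conj_split {w : List (ℕ × k)} (hw : ∀ p ∈ w, p.1 < D.nroots)
    (hc : w.Pairwise fun p q => Commute (xG hD p.1 p.2) (xG hD q.1 q.2)) {m : GL D.Idx k}
    (hm : m ∈ D.monomialSubgroup k) : ∃ a ∈ D.posUnipotent k, ∃ b ∈ D.negUnipotent k,
      m * wordG hD w * m⁻¹ = a * b := by
  have h1 : m * wordG hD w * m⁻¹ = (w.map fun p => m * xG hD p.1 p.2 * m⁻¹).prod := by
    unfold wordG
    induction w with
    | nil => simp
    | cons p w ih =>
      rw [List.pairwise_cons] at hc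
      rw [List.map_cons, List.map_cons, List.prod_cons, List.prod_cons,
        ← ih (fun q hq => hw q (List.mem_cons_of_mem _ hq)) hc.2]
      group
  rw [h1]
  obtain ⟨a, ha, b, hb, e, -⟩ := split_list (U := D.posUnipotent k) (V := D.negUnipotent k)
    (l := w.map fun p => m * xG hD p.1 p.2 * m⁻¹)
    (fun y hy => by
      obtain ⟨p, hp, rfl⟩ := List.mem_map.1 hy
      exact conj_cases hD hm (hw p hp) p.2)
    (List.pairwise_map.2 (hc.imp fun {p q} h => by
      show m * xG hD p.1 p.2 * m⁻¹ * (m * xG hD q.1 q.2 * m⁻¹) = m * xG hD q.1 q.2 * m⁻¹ * (m * xG hD p.1 p.2 * m⁻¹)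
      have e1 : m * xG hD p.1 p.2 * m⁻¹ * (m * xG hD q.1 q.2 * m⁻¹) = m * (xG hD p.1 p.2 * xG hD q.1 q.2) * m⁻¹ := by
        group
      have e2 : m * xG hD q.1 q.2 * m⁻¹ * (m * xG hD p.1 p.2 * m⁻¹) = m * (xG hD q.1 q.2 * xG hD p.1 p.2) * m⁻¹ := by
        group
      rw [e1, e2, h.eq]))
  exact ⟨a, ha, b, hb, e⟩

end Split

end Cfsg.Agent.BpExc.FixNorm

end

-- merged: Cfsg.Agent.BpExc.Emb
section

/-!
# The Chevalley group over a subfield inside the fixed points of a field endomorphism (helper95)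

`f : F →+* k` fields, `φ : k →+* k` with `Fix φ = range f`. The group `D.group F`, embedded in `D.group k`, is normalised
by the fixed points of `φ` (acting entrywise) on `D.group k`.
-/

set_option autoImplicit false

namespace Cfsg.Agent.BpExc.Emb

open Cfsg.Lie Cfsg.Agent.ChevalleyStructure Cfsg.Agent.ChevalleyStructure.Elts
open Cfsg.Agent.ChevalleyStructure.TwistedFix Cfsg.Agent.GpExc.Field Cfsg.Agent.BpExc.FixNorm

universe u v w

variable {D : ChevalleyDatum} (hD : InList D) {F : Type u} [Field F] {k : Type v} [Field k] (f : F →+* k)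

theorem glMap_wordG (w : List (ℕ × F)) : glMap D f (wordG hD w) = wordG hD (w.map fun p => (p.1, f p.2)) := by
  unfold wordG
  rw [map_list_prod, List.map_map, List.map_map]
  congr 1
  refine List.map_congr_left fun p _ => ?_
  show glMap D f (xG hD p.1 p.2) = xG hD p.1 (f p.2)
  rw [glMap_xG]

theorem glMap_nG' (r : ℕ) (c : F) : glMap D f (nG hD r c) = nG hD r (f c) := by
  rw [nG_def, nG_def, map_mul, map_mul, glMap_xG, glMap_xG, map_neg, map_inv₀]

theorem glMap_hG' (r : ℕ) (c : F) : glMap D f (hG hD r c) = hG hD r (f c) := by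
  rw [hG_def, hG_def, map_mul, glMap_nG', glMap_nG', map_neg, map_one]

include hD in
theorem glMap_pos {u : GL D.Idx F} (hu : u ∈ D.posUnipotent F) : glMap D f u ∈ D.posUnipotent k := by
  have h : D.posUnipotent F ≤ (D.posUnipotent k).comap (glMap D f) := by
    rw [posUnipotent_le_iff hD]
    intro r hr t
    rw [Subgroup.mem_comap, glMap_xG]
    exact xG_mem_posUnipotent hD hr _
  exact h hu

include hD in
theorem glMap_neg {u : GL D.Idx F} (hu : u ∈ D.negUnipotent F) : glMap D f u ∈ D.negUnipotent k := by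
  have h : D.negUnipotent F ≤ (D.negUnipotent k).comap (glMap D f) := by
    rw [negUnipotent_le_iff hD]
    intro r hr t
    rw [Subgroup.mem_comap, glMap_xG]
    exact xG_mem_negUnipotent hD hr _
  exact h hu

include hD in
theorem glMap_mono {u : GL D.Idx F} (hu : u ∈ D.monomialSubgroup F) : glMap D f u ∈ D.monomialSubgroup k := by
  have h : D.monomialSubgroup F ≤ (D.monomialSubgroup k).comap (glMap D f) := by
    rw [monomial_le_iff hD]
    refine ⟨fun r hr t ht => ?_, fun r hr => ?_⟩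
    · rw [Subgroup.mem_comap, glMap_hG']
      exact diagonal_le_monomial D k (hG_mem_diagonal hD hr ((map_ne_zero f).2 ht))
    · rw [Subgroup.mem_comap, glMap_nG', map_one]
      exact nG_one_mem_monomial hD hr
  exact h hu

variable {f}

include hD in
/-- **Descent of unipotent elements.** -/
theorem exists_of_fix {ψ : k →+* k} (hψ : ∀ t, ψ t = t → t ∈ Set.range f) {u : GL D.Idx k}
    (hu : u ∈ D.posUnipotent k) (h : glMap D ψ u = u) : ∃ u0 ∈ D.posUnipotent F, glMap D f u0 = u := by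
  obtain ⟨t, ⟨ht0, ht⟩, huniq⟩ := (Cfsg.Agent.S1026.result (F := k) D hD).1 u hu
  have hu' : u = wordG hD (D.posRoots.map fun r => (r, t r)) := (eq_wordG_iff hD _ _).2 ht
  have h1 : (fun r => ψ (t r)) = t := by
    refine huniq _ ⟨fun r hr => ?_, ?_⟩
    · show ψ (t r) = 0
      rw [ht0 r hr, map_zero]
    · rw [← h, hu', glMap_wordG, List.map_map, coe_wordG]
      rfl
  have h2 : ∀ r, ∃ s : F, f s = t r := fun r => hψ _ (congrFun h1 r)
  choose s hs using h2
  refine ⟨wordG hD (D.posRoots.map fun r => (r, s r)), ?_, ?_⟩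
  · obtain ⟨g, hg, e⟩ := (Cfsg.Agent.S1026.result (F := F) D hD).2 s
    have : g = wordG hD (D.posRoots.map fun r => (r, s r)) := (eq_wordG_iff hD _ _).2 e
    rwa [← this]
  · rw [glMap_wordG, List.map_map, hu']
    congr 1
    refine List.map_congr_left fun r _ => ?_
    show (r, f (s r)) = (r, t r)
    rw [hs]

/-- the fixed points of the `|F|`-power map -/
theorem mem_range_of_pow [Fintype F] (f : F →+* k) {t : k} (ht : t ^ Fintype.card F = t) : t ∈ Set.range f := by
  classical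
  have hq : 1 < Fintype.card F := Fintype.one_lt_card
  have hp0 : (Polynomial.X ^ Fintype.card F - Polynomial.X : Polynomial k) ≠ 0 :=
    FiniteField.X_pow_card_sub_X_ne_zero k hq
  have h1 : Finset.univ.image f ⊆ (Polynomial.X ^ Fintype.card F - Polynomial.X : Polynomial k).roots.toFinset := by
    intro y hy
    obtain ⟨x, -, rfl⟩ := Finset.mem_image.1 hy
    rw [Multiset.mem_toFinset, Polynomial.mem_roots hp0, Polynomial.IsRoot, Polynomial.eval_sub,
      Polynomial.eval_pow, Polynomial.eval_X, ← map_pow, FiniteField.pow_card, sub_self]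
  have h2 : (Polynomial.X ^ Fintype.card F - Polynomial.X : Polynomial k).roots.toFinset.card ≤
      (Finset.univ.image f).card := by
    rw [Finset.card_image_of_injective _ f.injective, Finset.card_univ]
    refine (Multiset.toFinset_card_le _).trans ((Polynomial.card_roots' _).trans ?_)
    rw [FiniteField.X_pow_card_sub_X_natDegree_eq k hq]
  have h3 := Finset.eq_of_subset_of_card_le h1 h2
  have h4 : t ∈ (Polynomial.X ^ Fintype.card F - Polynomial.X : Polynomial k).roots.toFinset := by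
    rw [Multiset.mem_toFinset, Polynomial.mem_roots hp0, Polynomial.IsRoot, Polynomial.eval_sub,
      Polynomial.eval_pow, Polynomial.eval_X, ht, sub_self]
  rw [← h3] at h4
  obtain ⟨x, -, hx⟩ := Finset.mem_image.1 h4
  exact ⟨x, hx⟩

/-! ### The monomial subgroup -/

include hD in
/-- Elements of `N(k)` are elements of `N(F)` up to the torus. -/
theorem mono_decomp (f : F →+* k) {n : GL D.Idx k} (hn : n ∈ D.monomialSubgroup k) :
    ∃ m ∈ D.monomialSubgroup F, ∃ t ∈ D.diagonalSubgroup k, n = glMap D f m * t := by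
  let M : Subgroup (GL D.Idx k) :=
    { carrier := {n | ∃ m ∈ D.monomialSubgroup F, ∃ t ∈ D.diagonalSubgroup k, n = glMap D f m * t}
      mul_mem' := by
        rintro _ _ ⟨m, hm, t, ht, rfl⟩ ⟨m', hm', t', ht', rfl⟩
        refine ⟨m * m', mul_mem hm hm', (glMap D f m')⁻¹ * t * glMap D f m' * t', mul_mem ?_ ht', ?_⟩
        · have h1 := mono_norm hD (inv_mem (glMap_mono hD f hm')) ht
          rwa [inv_inv] at h1
        · rw [map_mul]
          group
      one_mem' := ⟨1, one_mem _, 1, one_mem _, by rw [map_one, mul_one]⟩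
      inv_mem' := by
        rintro _ ⟨m, hm, t, ht, rfl⟩
        refine ⟨m⁻¹, inv_mem hm, glMap D f m * t⁻¹ * (glMap D f m)⁻¹, mono_norm hD (glMap_mono hD f hm) (inv_mem ht), ?_⟩
        rw [map_inv]
        group }
  have h : D.monomialSubgroup k ≤ M := by
    refine NConj.monomial_le_of hD (fun t ht => ⟨1, one_mem _, t, ht, by rw [map_one, one_mul]⟩) fun i hi => ?_
    refine ⟨nG hD (D.simple i) 1, nG_one_mem_monomial hD ((RootComb.good_of_mem hD).simple_lt hi), 1, one_mem _, ?_⟩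
    rw [mul_one, glMap_nG', map_one]
  exact h hn

include hD in
/-- A representative of the longest element over the small field. -/
theorem exists_long (f : F →+* k) : ∃ m ∈ D.monomialSubgroup F, ∀ v ∈ D.negUnipotent k,
    (glMap D f m)⁻¹ * v * glMap D f m ∈ D.posUnipotent k := by
  obtain ⟨n, hn, e⟩ := Cfsg.Agent.S1053.result (F := k) D hD
  obtain ⟨m, hm, t, ht, rfl⟩ := mono_decomp hD f hn
  refine ⟨m, hm, fun v hv => ?_⟩
  rw [← e] at hv
  obtain ⟨u, hu, rfl⟩ := hv
  have h1 : (glMap D f m)⁻¹ * (MulAut.conj (glMap D f m * t)).toMonoidHom u * glMap D f m = t * u * t⁻¹ := by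
    show (glMap D f m)⁻¹ * (glMap D f m * t * u * (glMap D f m * t)⁻¹) * glMap D f m = _
    group
  rw [h1]
  exact diag_norm hD ht hu

/-! ### The main theorem -/

include hD in
/-- **(i1), untwisted**: the fixed points of `φ` normalise the image of `D.group F`. -/
theorem mem_normalizer {f : F →+* k} {φ : k →+* k} (hφ : ∀ t, φ t = t ↔ t ∈ Set.range f) {g : GL D.Idx k}
    (hg : g ∈ D.group k) (h : glMap D φ g = g) :
    g ∈ Subgroup.normalizer ((D.group F).map (glMap D f) : Set (GL D.Idx k)) := by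
  have hφf : ∀ t, φ (f t) = f t := fun t => (hφ _).2 ⟨t, rfl⟩
  have hcomp : ∀ x : GL D.Idx F, glMap D φ (glMap D f x) = glMap D f x := by
    intro x
    apply Units.ext
    rw [coe_glMap, coe_glMap]
    ext i j
    exact hφf _
  have hU : ∀ u ∈ D.posUnipotent k, glMap D φ u = u → u ∈ (D.group F).map (glMap D f) := by
    intro u hu hu'
    obtain ⟨u0, hu0, e⟩ := exists_of_fix (f := f) hD (fun t ht => (hφ t).1 ht) hu hu'
    exact ⟨u0, posUnipotent_le_group hD F hu0, e⟩
  refine le_normalizer hD (σ := glMap D φ) (fun u hu => glMap_pos hD φ hu) (fun u hu => glMap_neg hD φ hu)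
    (fun u hu => glMap_mono hD φ hu) hU ?_ (S := {s | ∃ r < D.nroots, ∃ t : F, s = xG hD r (f t)}) ?_ ?_ ?_ hg h
  · intro v hv hv'
    obtain ⟨m, hm, hmv⟩ := exists_long hD f
    have hmK : glMap D f m ∈ (D.group F).map (glMap D f) := ⟨m, monomial_le_group hD F hm, rfl⟩
    have h1 := hU _ (hmv v hv) (by rw [map_mul, map_mul, map_inv, hcomp, hv'])
    have h2 := mul_mem (mul_mem hmK h1) (inv_mem hmK)
    have h3 : glMap D f m * ((glMap D f m)⁻¹ * v * glMap D f m) * (glMap D f m)⁻¹ = v := by group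
    rwa [h3] at h2
  · rw [Subgroup.map_le_iff_le_comap, group_le_iff hD]
    intro r hr t
    rw [Subgroup.mem_comap, glMap_xG]
    exact Subgroup.subset_closure ⟨r, hr, t, rfl⟩
  · rintro _ ⟨r, hr, t, rfl⟩
    rw [glMap_xG, hφf]
  · rintro _ ⟨r, hr, t, rfl⟩ m hm
    rcases conj_cases hD hm hr (f t) with h1 | h1
    · exact ⟨_, h1, 1, one_mem _, (mul_one _).symm⟩
    · exact ⟨1, one_mem _, _, h1, (one_mul _).symm⟩

theorem fix_iff_range [Fintype F] {f : F →+* k} {φ : k →+* k} (hφ : ∀ t, φ t = t ^ Fintype.card F) (t : k) :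
    φ t = t ↔ t ∈ Set.range f := by
  constructor
  · intro h
    exact mem_range_of_pow f ((hφ t).symm.trans h)
  · rintro ⟨s, rfl⟩
    rw [hφ, ← map_pow, FiniteField.pow_card]

/-- **(i1), untwisted, inside `D.group k`.** `σ` = any automorphism of `D.group k` acting as the entrywise
`|F|`-power map. -/
theorem conj_mem_range [Fintype F] {f : F →+* k} {φ : k →+* k} (hφ : ∀ t, φ t = t ^ Fintype.card F)
    {σ : ↥(D.group k) → ↥(D.group k)} (hσ : ∀ y, ((σ y : ↥(D.group k)) : GL D.Idx k) = glMap D φ (y : GL D.Idx k))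
    {y : ↥(D.group k)} (hy : σ y = y) {n : ↥(D.group k)} (hn : n ∈ (emb hD f).range) :
    y * n * y⁻¹ ∈ (emb hD f).range := by
  have h1 := mem_normalizer hD (f := f) (fix_iff_range hφ) y.2 (by rw [← hσ, hy])
  obtain ⟨x, rfl⟩ := hn
  have h2 : (glMap D f (x : GL D.Idx F) : GL D.Idx k) ∈ (D.group F).map (glMap D f) := ⟨x, x.2, rfl⟩
  obtain ⟨z, hz, e⟩ := (Subgroup.mem_normalizer_iff.1 h1 _).1 h2
  exact ⟨⟨z, hz⟩, Subtype.ext e⟩

theorem emb_fix [Fintype F] {f : F →+* k} {φ : k →+* k} (hφ : ∀ t, φ t = t ^ Fintype.card F)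
    {σ : ↥(D.group k) → ↥(D.group k)} (hσ : ∀ y, ((σ y : ↥(D.group k)) : GL D.Idx k) = glMap D φ (y : GL D.Idx k))
    (x : ↥(D.group F)) : σ (emb hD f x) = emb hD f x := by
  apply Subtype.ext
  rw [hσ]
  apply Units.ext
  rw [coe_glMap, coe_emb, coe_glMap]
  ext i j
  exact (fix_iff_range hφ _).2 ⟨_, rfl⟩

end Cfsg.Agent.BpExc.Emb

end
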