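import Mathlib
import Cfsg.Agent.BpExc.Emb
import Cfsg.Agent.Nodes.RGDFold
set_option linter.all false

-- merged: Cfsg.Agent.BpExc.EmbTw
section

/-!
# The twisted groups inside the fixed points of a Steinberg endomorphism (helper95)

`f : F →+* k` fields, `F` finite, `G ≤ GL(F)` a twisted group (`FoldGrp`), `σ` the endomorphism of `GL(k)` extending the
endomorphism `σ0` of `GL(F)`. The image of `G` is normalised by the fixed points of `σ` on `D.group k`.
-/

set_option autoImplicit false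
set_option maxHeartbeats 400000
set_option linter.unusedSectionVars false
set_option linter.unusedVariables false

namespace Cfsg.Agent.BpExc.EmbTw

open CoxeterSystem Cfsg.Agent.ChevalleyStructure.CoxeterGeom Cfsg.Agent.Tits.Roots Cfsg.Agent.Tits.Core
  Cfsg.Agent.Nodes.Reps Cfsg.Agent.Nodes.BNOf
  Cfsg.Agent.Nodes.RGDTwGen Cfsg.Agent.Nodes.RGDChev Cfsg.Agent.Nodes.RGDFold
open Cfsg.Lie Cfsg.Agent.ChevalleyStructure Cfsg.Agent.ChevalleyStructure.Elts
  Cfsg.Agent.ChevalleyStructure.TwistedU Cfsg.Agent.ChevalleyStructure.TwistedFix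
  Cfsg.Agent.ChevalleyStructure.TwistedFixOrbit
open Cfsg.Agent.GpExc.Field Cfsg.Agent.BpExc.FixNorm Cfsg.Agent.BpExc.Emb

universe u v w

/-! ### Endomorphisms permuting the root groups -/

section Std

variable {D : ChevalleyDatum} (hD : InList D) {k : Type v} [Field k]

/-- `σ` permutes the root groups, preserving positivity and opposition. -/
def Std (φ : k →+* k) (σ : GL D.Idx k →* GL D.Idx k) : Prop :=
  ∀ r < D.nroots, ∃ s < D.nroots, (D.IsPosRoot r → D.IsPosRoot s) ∧ (D.IsNegRoot r → D.IsNegRoot s) ∧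
    ∃ ε : k, ε ≠ 0 ∧ (∀ t, σ (xG hD r t) = xG hD s (ε * φ t)) ∧
      (∀ t, σ (xG hD (D.neg r) t) = xG hD (D.neg s) (ε⁻¹ * φ t))

variable {hD}

theorem nG_mem_mono (hD : InList D) {r : ℕ} (hr : r < D.nroots) {c : k} (hc : c ≠ 0) :
    nG hD r c ∈ D.monomialSubgroup k := by
  have h1 : nG hD r (-1 : k) = (nG hD r 1)⁻¹ := by
    rw [nG_def, nG_def, mul_inv_rev, mul_inv_rev, xG_inv, xG_inv, ← mul_assoc]
    norm_num
  have h2 : nG hD r c = hG hD r c * nG hD r 1 := by
    rw [hG_def, h1]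
    group
  rw [h2]
  exact mul_mem (diagonal_le_monomial D k (hG_mem_diagonal hD hr hc)) (nG_one_mem_monomial hD hr)

theorem Std.pos {φ : k →+* k} {σ : GL D.Idx k →* GL D.Idx k} (h : Std hD φ σ) {u : GL D.Idx k}
    (hu : u ∈ D.posUnipotent k) : σ u ∈ D.posUnipotent k := by
  have h1 : D.posUnipotent k ≤ (D.posUnipotent k).comap σ := by
    rw [posUnipotent_le_iff hD]
    intro r hr t
    obtain ⟨s, -, hs, -, ε, -, h2, -⟩ := h r hr.1
    rw [Subgroup.mem_comap, h2]
    exact xG_mem_posUnipotent hD (hs hr) _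
  exact h1 hu

theorem Std.neg {φ : k →+* k} {σ : GL D.Idx k →* GL D.Idx k} (h : Std hD φ σ) {u : GL D.Idx k}
    (hu : u ∈ D.negUnipotent k) : σ u ∈ D.negUnipotent k := by
  have h1 : D.negUnipotent k ≤ (D.negUnipotent k).comap σ := by
    rw [negUnipotent_le_iff hD]
    intro r hr t
    obtain ⟨s, -, -, hs, ε, -, h2, -⟩ := h r hr.1
    rw [Subgroup.mem_comap, h2]
    exact xG_mem_negUnipotent hD (hs hr) _
  exact h1 hu

theorem Std.mono {φ : k →+* k} {σ : GL D.Idx k →* GL D.Idx k} (h : Std hD φ σ) {u : GL D.Idx k}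
    (hu : u ∈ D.monomialSubgroup k) : σ u ∈ D.monomialSubgroup k := by
  have key : ∀ r < D.nroots, ∃ s < D.nroots, ∃ ε : k, ε ≠ 0 ∧ ∀ c, σ (nG hD r c) = nG hD s (ε * φ c) := by
    intro r hr
    obtain ⟨s, hs, -, -, ε, hε, h2, h3⟩ := h r hr
    refine ⟨s, hs, ε, hε, fun c => ?_⟩
    rw [nG_def, nG_def, map_mul, map_mul, h2, h3, map_neg, map_inv₀, mul_inv, mul_neg]
  have h1 : D.monomialSubgroup k ≤ (D.monomialSubgroup k).comap σ := by
    rw [monomial_le_iff hD]
    refine ⟨fun r hr t ht => ?_, fun r hr => ?_⟩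
    · obtain ⟨s, hs, ε, hε, h2⟩ := key r hr
      rw [Subgroup.mem_comap, hG_def, map_mul, h2, h2]
      exact mul_mem (nG_mem_mono hD hs (mul_ne_zero hε ((map_ne_zero φ).2 ht)))
        (nG_mem_mono hD hs (mul_ne_zero hε ((map_ne_zero φ).2 (neg_ne_zero.2 one_ne_zero))))
    · obtain ⟨s, hs, ε, hε, h2⟩ := key r hr
      rw [Subgroup.mem_comap, h2]
      exact nG_mem_mono hD hs (mul_ne_zero hε ((map_ne_zero φ).2 one_ne_zero))
  exact h1 hu

end Std

/-! ### The theorem -/

section Main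

variable {D : ChevalleyDatum} {l m : ℕ} {M' : CoxeterMatrix (Fin l)} {hp : IsType D l M'}
  {M : CoxeterMatrix (Fin m)} {A : Fin m → Fin m → ℤ} (h : IsCartan M A)
  {J : Fin m → List (Fin l)} {L : List (List ℕ)}
  {F : Type u} [Field F] [Finite F] {k : Type v} [Field k] {f : F →+* k}
  {σ0 : GL D.Idx F →* GL D.Idx F} {ρ ρ' : ℕ → ℕ} {fF : ℕ → F → F} {G : Subgroup (GL D.Idx F)}

theorem pos_iff (FD : FoldData D M A J L) {r : ℕ} (hp : IsType D l M') : D.IsPosRoot r ↔ r ∈ L.flatten := by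
  refine ⟨fun hr => ?_, fun hr => FD.isPos r hr⟩
  rcases FD.negL r hr.1 with h1 | h1
  · exact h1
  · exfalso
    have hG := RootComb.good_of_mem hp.inList
    have h2 := hG.isPosRoot_iff.1 (FD.isPos _ h1)
    have h3 := hG.isPosRoot_iff.1 hr
    have h4 := hG.neg_eq hr.1
    have h5 := hG.nroots_eq
    omega

/-- The unipotent fixed points lie in the twisted group. -/
theorem pos_fix_le (FD : FoldData D M A J L) (FG : FoldGrp hp F J L σ0 ρ ρ' fF G) (h : IsCartan M A)
    {u : GL D.Idx F} (hu : u ∈ D.posUnipotent F) (hσ : σ0 u = u) : u ∈ G := by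
  obtain ⟨p, hp'⟩ := CharP.exists F
  have : Fact p.Prime := ⟨CharP.char_is_prime F p⟩
  have h1 : D.posUnipotent F ≤ rspan (xG (F := F) hp.inList) {k | k ∈ L.flatten} := by
    rw [posUnipotent_le_iff hp.inList]
    intro r hr t
    exact mem_rspan _ (S := {k | k ∈ L.flatten}) ((pos_iff FD hp).1 hr) t
  refine FG.setup.fix_le ?_ ⟨h1 hu, hσ⟩
  intro o ho
  rcases List.eq_nil_or_concat o with rfl | ⟨o', r, rfl⟩
  · have : rspan (xG (F := F) hp.inList) {k | k ∈ ([] : List ℕ)} ≤ ⊥ := rspan_le _ (by simp)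
    exact inf_le_left.trans (this.trans bot_le)
  · have hr : r ∈ o' ++ [r] := by simp
    have hrL : r ∈ L.flatten := List.mem_flatten.2 ⟨_, ho, by simp⟩
    have hrn := FD.ltL hrL
    have h2 := R_le M.toCoxeterSystem h FD FG p
      ((FD.isRoot_iff (cs := M.toCoxeterSystem) (h := h) hp.checked (fun i r hr => wp_lt hp (J i) hr) _).2 ⟨r, hrn, rfl⟩)
    rwa [R_eq (o := o'.concat r) (fun s hs => (FD.clsL _ ho r (by simp) s hs).symm)
      (fun s hs => FD.ltL (List.mem_flatten.2 ⟨_, ho, hs⟩))] at h2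

theorem G_le_group (FD : FoldData D M A J L) (FG : FoldGrp hp F J L σ0 ρ ρ' fF G) : G ≤ D.group F := by
  refine FG.gen.trans (iSup_le fun i => sup_le ?_ ?_)
  · exact inf_le_left.trans (rspan_le _ fun s _ t => xG_mem_group hp.inList s t)
  · exact inf_le_left.trans (rspan_le _ fun s _ t => xG_mem_group hp.inList s t)

/-- A relative root element is a commuting product of root elements. -/
theorem exists_word (FD : FoldData D M A J L) (FG : FoldGrp hp F J L σ0 ρ ρ' fF G) {i : Fin m}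
    {x : GL D.Idx F} (hx : x ∈ R D hp F J σ0 (sr i)) : ∃ w : List (ℕ × F), x = wordG hp.inList w ∧
      (∀ q ∈ w, q.1 < D.nroots) ∧ w.Pairwise fun p q => Commute (xG hp.inList p.1 p.2) (xG hp.inList q.1 q.2) := by
  obtain ⟨r, hr, hVr⟩ := FD.base i
  have hrL : r ∈ L.flatten := (FD.posL r hr).2 fun j => by rw [hVr]; exact sr_nonneg i j
  obtain ⟨o, ho, hro⟩ := List.mem_flatten.1 hrL
  have hlt : ∀ s ∈ o, s < D.nroots := fun s hs => FD.ltL (List.mem_flatten.2 ⟨o, ho, hs⟩)
  rw [R_eq (o := o) (fun s hs => by rw [← hVr]; exact (FD.clsL o ho r hro s hs).symm) hlt] at hx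
  have hnd : o.Nodup := (List.nodup_flatten.1 FG.setup.nodup).1 o ho
  obtain ⟨t, rfl⟩ := exists_lprod FG.setup.hadd hnd (good_of_commute (FG.setup.comm o ho)) hx.1
  refine ⟨o.map fun r => (r, t r), ?_, ?_, ?_⟩
  · unfold wordG lprod
    rw [List.map_map]
    rfl
  · intro q hq
    obtain ⟨s, hs, rfl⟩ := List.mem_map.1 hq
    exact hlt s hs
  · rw [List.pairwise_map]
    exact (FG.setup.comm o ho).imp fun h1 => h1 _ _

/-- `m s m⁻¹ ∈ U V` for the images `s` of the relative root elements. -/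
theorem split_word {w : List (ℕ × F)} (hw : ∀ q ∈ w, q.1 < D.nroots)
    (hc : w.Pairwise fun p q => Commute (xG hp.inList p.1 p.2) (xG hp.inList q.1 q.2)) {n : GL D.Idx k}
    (hn : n ∈ D.monomialSubgroup k) : ∃ a ∈ D.posUnipotent k, ∃ b ∈ D.negUnipotent k,
      n * glMap D f (wordG hp.inList w) * n⁻¹ = a * b := by
  rw [glMap_wordG]
  refine conj_split hp.inList ?_ ?_ hn
  · intro q hq
    obtain ⟨s, hs, rfl⟩ := List.mem_map.1 hq
    exact hw s hs
  · rw [List.pairwise_map]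
    refine hc.imp fun {p q} h1 => ?_
    have h2 := h1.map (glMap D f)
    rwa [glMap_xG, glMap_xG] at h2

/-- Words in the relative reflections over `k`. -/
theorem conj_wordProd (FD : FoldData D M A J L) (ω : List (Fin m)) : ∀ r < D.nroots, ∃ s < D.nroots,
    V D J s = rep M.toCoxeterSystem h (M.toCoxeterSystem.wordProd ω) (V D J r) ∧
      cj ((ω.map fun i => nI hp k (J i)).prod) (D.rootSubgroup k r) = D.rootSubgroup k s := by
  induction ω with
  | nil =>
    intro r hr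
    refine ⟨r, hr, ?_, ?_⟩
    · rw [wordProd_nil, map_one, Module.End.one_apply]
    · rw [List.map_nil, List.prod_nil]; exact cj_one _
  | cons i ω ih =>
    intro r hr
    obtain ⟨s, hs, h1, h2⟩ := ih r hr
    refine ⟨wp D (J i) s, wp_lt hp (J i) hs, ?_, ?_⟩
    · rw [wordProd_cons, rep_mul_apply, ← h1, rep_refl, FD.wp_V s hs]
    · rw [List.map_cons, List.prod_cons, cj_mul, h2, cj_nI hp k (J i) hs]

theorem glMap_nI (i : Fin m) : glMap D f (nI hp F (J i)) = nI hp k (J i) := by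
  unfold nI
  rw [map_list_prod, List.map_map]
  congr 1
  refine List.map_congr_left fun j _ => ?_
  show glMap D f (nn hp F j) = nn hp k j
  unfold nn
  rw [glMap_nG', map_one]

/-- A representative of the relative longest element. -/
theorem exists_long (FD : FoldData D M A J L) (FG : FoldGrp hp F J L σ0 ρ ρ' fF G) (f : F →+* k) (h : IsCartan M A) :
    ∃ g ∈ G, ∀ v ∈ D.negUnipotent k, glMap D f g * v * (glMap D f g)⁻¹ ∈ D.posUnipotent k := by
  have : Finite M.Group := finite_W (hp := hp) M.toCoxeterSystem h FD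
  obtain ⟨w0, hw0⟩ := RGD.exists_inv_eq_pos (cs := M.toCoxeterSystem) (h := h)
  obtain ⟨ω, hω⟩ := M.toCoxeterSystem.wordProd_surjective w0⁻¹
  refine ⟨(ω.map fun i => nI hp F (J i)).prod, Subgroup.list_prod_mem _ fun g hg => ?_, ?_⟩
  · obtain ⟨i, -, rfl⟩ := List.mem_map.1 hg
    exact FG.nG i
  · intro v hv
    have e : glMap D f (ω.map fun i => nI hp F (J i)).prod = (ω.map fun i => nI hp k (J i)).prod := by
      rw [map_list_prod, List.map_map]
      congr 1
      refine List.map_congr_left fun i _ => ?_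
      exact glMap_nI i
    rw [e]
    have h1 : D.negUnipotent k ≤ (D.posUnipotent k).comap
        (MulAut.conj ((ω.map fun i => nI hp k (J i)).prod)).toMonoidHom := by
      rw [negUnipotent_le_iff hp.inList]
      intro r hr t
      obtain ⟨s, hs, hV, hcj⟩ := conj_wordProd h (hp := hp) (k := k) FD ω r hr.1
      have h2 : (ω.map fun i => nI hp k (J i)).prod * xG hp.inList r t * ((ω.map fun i => nI hp k (J i)).prod)⁻¹ ∈
          D.rootSubgroup k s := by
        rw [← hcj, conj_mem_cj]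
        exact xG_mem_rootSubgroup hp.inList r t
      obtain ⟨c, hc⟩ := (mem_rootSubgroup_iff hp.inList _ _).1 h2
      rw [Subgroup.mem_comap]
      show (ω.map fun i => nI hp k (J i)).prod * xG hp.inList r t * ((ω.map fun i => nI hp k (J i)).prod)⁻¹ ∈ _
      rw [hc]
      refine xG_mem_posUnipotent hp.inList ?_ c
      -- `V r < 0`, so `V s > 0`
      have hneg : D.neg r ∈ L.flatten := by
        rcases FD.negL r hr.1 with h3 | h3
        · exfalso
          have h4 := (RootComb.good_of_mem hp.inList).isPosRoot_iff.1 (FD.isPos r h3)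
          have h5 := (RootComb.good_of_mem hp.inList).isNegRoot_iff.1 hr
          omega
        · exact h3
      have hVneg : IsRoot M.toCoxeterSystem h (V D J (D.neg r)) ∧ 0 ≤ V D J (D.neg r) := by
        refine ⟨(FD.isRoot_iff hp.checked (fun i r hr => wp_lt hp (J i) hr) _).2 ⟨_, FD.ltL hneg, rfl⟩, ?_⟩
        intro i
        exact (FD.posL _ (FD.ltL hneg)).1 hneg i
      have h6 : V D J (D.neg r) ∈ RGD.Inv M.toCoxeterSystem h w0 := by
        rw [hw0]; exact hVneg
      have h7 := h6.2.2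
      rw [V_neg hp.checked hr.1, map_neg, neg_nonpos, ← hω, ← hV] at h7
      exact (pos_iff FD hp).2 ((FD.posL s hs).2 fun i => h7 i)
    exact h1 hv

/-- The endomorphism `σ` of `GL(k)` extends `σ0`. -/
theorem natural (hp : IsType D l M') {σ : GL D.Idx k →* GL D.Idx k}
    (hnat : ∀ r < D.nroots, ∀ t : F, σ (xG hp.inList r (f t)) = glMap D f (σ0 (xG hp.inList r t)))
    {x : GL D.Idx F} (hx : x ∈ D.group F) : σ (glMap D f x) = glMap D f (σ0 x) := by
  have h1 : D.group F ≤ MonoidHom.eqLocus (σ.comp (glMap D f)) ((glMap D f).comp σ0) := by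
    rw [group_le_iff hp.inList]
    intro r hr t
    show σ (glMap D f (xG hp.inList r t)) = glMap D f (σ0 (xG hp.inList r t))
    rw [glMap_xG]
    exact hnat r hr t
  exact h1 hx

/-- The image of `G` is fixed by `σ`. -/
theorem map_fix (FD : FoldData D M A J L) (FG : FoldGrp hp F J L σ0 ρ ρ' fF G) {σ : GL D.Idx k →* GL D.Idx k}
    (hnat : ∀ r < D.nroots, ∀ t : F, σ (xG hp.inList r (f t)) = glMap D f (σ0 (xG hp.inList r t)))
    {x : GL D.Idx F} (hx : x ∈ G) : σ (glMap D f x) = glMap D f x := by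
  rw [natural hp hnat (G_le_group FD FG hx)]
  have h1 : σ0 x = x := FG.G_le hx
  rw [h1]

/-- The unipotent fixed points over `k` lie in the image of `G`. -/
theorem pos_fix_mem (FD : FoldData D M A J L) (FG : FoldGrp hp F J L σ0 ρ ρ' fF G) (h : IsCartan M A)
    {σ : GL D.Idx k →* GL D.Idx k}
    (hnat : ∀ r < D.nroots, ∀ t : F, σ (xG hp.inList r (f t)) = glMap D f (σ0 (xG hp.inList r t)))
    {τ : GL D.Idx k →* GL D.Idx k} (hτ : ∀ g, σ g = g → τ g = g) {ψ : k →+* k}
    (hτψ : ∀ r < D.nroots, ∀ t : k, τ (xG hp.inList r t) = xG hp.inList r (ψ t))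
    (hψ : ∀ t, ψ t = t → t ∈ Set.range f) {u : GL D.Idx k} (hu : u ∈ D.posUnipotent k) (hu' : σ u = u) :
    u ∈ G.map (glMap D f) := by
  have hτg : ∀ x ∈ D.group k, τ x = glMap D ψ x := by
    have h1 : D.group k ≤ MonoidHom.eqLocus τ (glMap D ψ) := by
      rw [group_le_iff hp.inList]
      intro r hr t
      show τ (xG hp.inList r t) = glMap D ψ (xG hp.inList r t)
      rw [glMap_xG]
      exact hτψ r hr t
    exact fun x hx => h1 hx
  have h1 : glMap D ψ u = u := by
    rw [← hτg u (posUnipotent_le_group hp.inList k hu), hτ u hu']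
  obtain ⟨u0, hu0, e⟩ := exists_of_fix (f := f) hp.inList hψ hu h1
  refine ⟨u0, pos_fix_le FD FG h hu0 ?_, e⟩
  apply glMap_injective D f
  rw [← natural hp hnat (posUnipotent_le_group hp.inList F hu0), e, hu']

/-- **(i1), twisted.** -/
theorem mem_normalizer (FD : FoldData D M A J L) (FG : FoldGrp hp F J L σ0 ρ ρ' fF G) (h : IsCartan M A)
    {φ : k →+* k} {σ : GL D.Idx k →* GL D.Idx k} (hS : Std hp.inList φ σ)
    (hnat : ∀ r < D.nroots, ∀ t : F, σ (xG hp.inList r (f t)) = glMap D f (σ0 (xG hp.inList r t)))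
    {τ : GL D.Idx k →* GL D.Idx k} (hτ : ∀ g, σ g = g → τ g = g) {ψ : k →+* k}
    (hτψ : ∀ r < D.nroots, ∀ t : k, τ (xG hp.inList r t) = xG hp.inList r (ψ t))
    (hψ : ∀ t, ψ t = t → t ∈ Set.range f) {g : GL D.Idx k} (hg : g ∈ D.group k) (hσ : σ g = g) :
    g ∈ Subgroup.normalizer (G.map (glMap D f) : Set (GL D.Idx k)) := by
  obtain ⟨p, hp'⟩ := CharP.exists F
  have : Fact p.Prime := ⟨CharP.char_is_prime F p⟩
  have hnat' : ∀ x ∈ D.group F, σ (glMap D f x) = glMap D f (σ0 x) := fun x hx => natural hp hnat hx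
  have hGfix : ∀ x ∈ G, σ (glMap D f x) = glMap D f x := fun x hx => map_fix FD FG hnat hx
  have hU : ∀ u ∈ D.posUnipotent k, σ u = u → u ∈ G.map (glMap D f) := fun u hu hu' =>
    pos_fix_mem FD FG h hnat hτ hτψ hψ hu hu'
  refine le_normalizer hp.inList (σ := σ) (fun u hu => hS.pos hu) (fun u hu => hS.neg hu)
    (fun u hu => hS.mono hu) hU ?_
    (S := {s | ∃ i : Fin m, ∃ x, (x ∈ R D hp F J σ0 (sr i) ∨ x ∈ R D hp F J σ0 (-sr i)) ∧ s = glMap D f x})
    ?_ ?_ ?_ hg hσ
  · intro v hv hv'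
    obtain ⟨g0, hg0, hgv⟩ := exists_long FD FG f h
    have hgK : glMap D f g0 ∈ G.map (glMap D f) := ⟨g0, hg0, rfl⟩
    have h1 := hU _ (hgv v hv) (by rw [map_mul, map_mul, map_inv, hGfix g0 hg0, hv'])
    have h2 := mul_mem (mul_mem (inv_mem hgK) h1) hgK
    have h3 : (glMap D f g0)⁻¹ * (glMap D f g0 * v * (glMap D f g0)⁻¹) * glMap D f g0 = v := by group
    rwa [h3] at h2
  · rw [Subgroup.map_le_iff_le_comap]
    refine FG.gen.trans (iSup_le fun i => sup_le ?_ ?_)
    · intro x hx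
      exact Subgroup.subset_closure ⟨i, x, Or.inl hx, rfl⟩
    · intro x hx
      exact Subgroup.subset_closure ⟨i, x, Or.inr hx, rfl⟩
  · rintro _ ⟨i, x, hx, rfl⟩
    have hxG : x ∈ D.group F ∧ σ0 x = x := by
      rcases hx with hx | hx
      · exact ⟨(rspan_le _ fun s _ t => xG_mem_group hp.inList s t) hx.1, hx.2⟩
      · exact ⟨(rspan_le _ fun s _ t => xG_mem_group hp.inList s t) hx.1, hx.2⟩
    rw [hnat' x hxG.1, hxG.2]
  · rintro _ ⟨i, x, hx | hx, rfl⟩ n hn
    · obtain ⟨w, rfl, hw, hc⟩ := exists_word FD FG hx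
      exact split_word (hp := hp) hw hc hn
    · -- conjugate by the reflection
      have hcj : cj (nI hp F (J i)) (R D hp F J σ0 (-sr i)) = R D hp F J σ0 (sr i) := by
        have h1 := (twIn M.toCoxeterSystem h FD FG p).cj_n i (-sr i)
        rw [map_neg, rep_simple_sr, _root_.neg_neg] at h1
        exact h1
      have hx' : nI hp F (J i) * x * (nI hp F (J i))⁻¹ ∈ R D hp F J σ0 (sr i) := by
        rw [← hcj, conj_mem_cj]; exact hx
      obtain ⟨w, hw0, hw, hc⟩ := exists_word FD FG hx'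
      have hn' : n * (glMap D f (nI hp F (J i)))⁻¹ ∈ D.monomialSubgroup k :=
        mul_mem hn (inv_mem (glMap_mono hp.inList f (nI_mem hp F (J i))))
      obtain ⟨a, ha, b, hb, e⟩ := split_word (hp := hp) (f := f) hw hc hn'
      refine ⟨a, ha, b, hb, ?_⟩
      rw [← e, ← hw0, map_mul, map_mul, map_inv]
      group

end Main

end Cfsg.Agent.BpExc.EmbTw

end

-- merged: Cfsg.Agent.BpExc.EmbSplit
section

/-!
# `Y^σ = K · T^σ` (helper95)

`Y = D.group k`, `k` any field. The fixed points of `σ` on `Y` are products of elements of the (twisted) group over the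
small field and of elements of the torus of `Y`.
-/

set_option autoImplicit false
set_option maxHeartbeats 400000
set_option linter.unusedSectionVars false
set_option linter.unusedVariables false

namespace Cfsg.Agent.BpExc.EmbSplit

open CoxeterSystem Cfsg.Agent.ChevalleyStructure.CoxeterGeom Cfsg.Agent.Tits.Roots Cfsg.Agent.Tits.Core
  Cfsg.Agent.Nodes.Reps Cfsg.Agent.Nodes.BNOf
  Cfsg.Agent.Nodes.RGDTwGen Cfsg.Agent.Nodes.RGDChev Cfsg.Agent.Nodes.RGDFold
open Cfsg.Lie Cfsg.Agent.ChevalleyStructure Cfsg.Agent.ChevalleyStructure.Elts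
  Cfsg.Agent.ChevalleyStructure.NPerm Cfsg.Agent.ChevalleyStructure.CoxeterGeomTypes
  Cfsg.Agent.ChevalleyStructure.TwistedU Cfsg.Agent.ChevalleyStructure.TwistedFix
open Cfsg.Agent.GpExc.Field Cfsg.Agent.BpExc.FixNorm Cfsg.Agent.BpExc.Emb Cfsg.Agent.BpExc.EmbTw

universe u v w

/-! ### The Weyl group element of a monomial element, over any field -/

section Rel

variable {D : ChevalleyDatum} {l : ℕ} {M' : CoxeterMatrix (Fin l)} (hp : IsType D l M') {k : Type v} [Field k]
  {W : Type*} [Group W] (cs : CoxeterSystem M' W)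

/-- `m` acts on the roots as `w`. -/
def Rel (w : W) (m : GL D.Idx k) : Prop :=
  ∃ hm : m ∈ D.monomialSubgroup k, ∀ r : Fin D.nroots,
    vec D l ((permHom hp.inList k ⟨m, hm⟩ r : Fin D.nroots) : ℕ) = rep cs hp.isCartan w (vec D l r)

variable {hp cs}

theorem Rel.mul {v w : W} {g m : GL D.Idx k} (hg : Rel hp cs v g) (hm : Rel hp cs w m) :
    Rel hp cs (v * w) (g * m) := by
  obtain ⟨h1, h2⟩ := hg
  obtain ⟨h3, h4⟩ := hm
  refine ⟨mul_mem h1 h3, fun r => ?_⟩
  have e : (⟨g * m, mul_mem h1 h3⟩ : ↥(D.monomialSubgroup k)) = ⟨g, h1⟩ * ⟨m, h3⟩ := rfl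
  rw [e, map_mul, Equiv.Perm.mul_apply, h2, h4, ← rep_mul_apply]

theorem Rel.inv {w : W} {m : GL D.Idx k} (hm : Rel hp cs w m) : Rel hp cs w⁻¹ m⁻¹ := by
  obtain ⟨h3, h4⟩ := hm
  refine ⟨inv_mem h3, fun r => ?_⟩
  have e : (⟨m⁻¹, inv_mem h3⟩ : ↥(D.monomialSubgroup k)) = (⟨m, h3⟩)⁻¹ := rfl
  have h5 := h4 ((permHom hp.inList k ⟨m, h3⟩)⁻¹ r)
  have h6 : permHom hp.inList k ⟨m, h3⟩ ((permHom hp.inList k ⟨m, h3⟩)⁻¹ r) = r := Equiv.apply_symm_apply _ r
  rw [h6] at h5
  rw [e, map_inv, h5, rep_inv_apply]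

theorem rel_one_of_mem {t : GL D.Idx k} (ht : t ∈ D.diagonalSubgroup k) : Rel hp cs (1 : W) t := by
  refine ⟨diagonal_le_monomial D k ht, fun r => ?_⟩
  have h1 : (⟨t, diagonal_le_monomial D k ht⟩ : ↥(D.monomialSubgroup k)) ∈ (permHom hp.inList k).ker := by
    rw [ker_permHom, Subgroup.mem_subgroupOf]
    exact ht
  rw [MonoidHom.mem_ker.1 h1, map_one, Module.End.one_apply]
  rfl

theorem mem_of_rel_one {t : GL D.Idx k} (ht : Rel hp cs (1 : W) t) : t ∈ D.diagonalSubgroup k := by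
  obtain ⟨h1, h2⟩ := ht
  have h3 : (⟨t, h1⟩ : ↥(D.monomialSubgroup k)) ∈ (permHom hp.inList k).ker := by
    rw [MonoidHom.mem_ker]
    apply Equiv.ext
    intro r
    have h4 := h2 r
    rw [map_one, Module.End.one_apply] at h4
    exact Fin.ext (vec_inj hp (Fin.is_lt _) r.2 h4)
  rwa [ker_permHom, Subgroup.mem_subgroupOf] at h3

theorem rel_nn (i : Fin l) : Rel hp cs (cs.simple i) (nn hp k i) := by
  refine ⟨nn_mem_monomial hp i, fun r => ?_⟩
  rw [permHom_nG hp.inList (lt_rank hp i) _ (coe_nG _ _ _), ← rep_vec hp cs i r.2]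

variable (hp cs) in
theorem exists_rel {m : GL D.Idx k} (hm : m ∈ D.monomialSubgroup k) : ∃ w : W, Rel hp cs w m := by
  let S : Subgroup (GL D.Idx k) :=
    { carrier := {m | ∃ w : W, Rel hp cs w m}
      mul_mem' := by
        rintro _ _ ⟨v, hv⟩ ⟨w, hw⟩
        exact ⟨v * w, hv.mul hw⟩
      one_mem' := ⟨1, rel_one_of_mem (one_mem _)⟩
      inv_mem' := by
        rintro _ ⟨v, hv⟩
        exact ⟨v⁻¹, hv.inv⟩ }
  have h : D.monomialSubgroup k ≤ S := by
    refine NConj.monomial_le_of hp.inList (fun t ht => ⟨1, rel_one_of_mem ht⟩) fun i hi => ?_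
    have hi' : i < l := by rw [← hp.rank_eq]; exact hi
    exact ⟨cs.simple ⟨i, hi'⟩, rel_nn ⟨i, hi'⟩⟩
  exact h hm

theorem Rel.mono {w : W} {m : GL D.Idx k} (h : Rel hp cs w m) : m ∈ D.monomialSubgroup k := h.1

/-- The conjugates of the simple root elements. -/
theorem Rel.conj {w : W} {m : GL D.Idx k} (h : Rel hp cs w m) (j : Fin l) : ∃ s < D.nroots,
    vec D l s = rep cs hp.isCartan w (sr j) ∧ ∀ t : k, ∃ u : k, m * xG hp.inList (D.simple j) t * m⁻¹ = xG hp.inList s u := by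
  obtain ⟨hm, h1⟩ := h
  have hj : D.simple j < D.nroots := (RootComb.good_of_mem hp.inList).simple_lt (lt_rank hp j)
  refine ⟨permHom hp.inList k ⟨m, hm⟩ ⟨D.simple j, hj⟩, Fin.is_lt _, ?_, fun t => ?_⟩
  · rw [h1]
    show rep cs hp.isCartan w (vec D l (D.simple j)) = _
    rw [vec_simple hp]
  · have h2 := conj_permHom hp.inList ⟨m, hm⟩ ⟨D.simple j, hj⟩
    have h3 : m * xG hp.inList (D.simple j) t * m⁻¹ ∈ D.rootSubgroup k (permHom hp.inList k ⟨m, hm⟩ ⟨D.simple j, hj⟩) := by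
      rw [← h2]
      exact ⟨xG hp.inList (D.simple j) t, xG_mem_rootSubgroup hp.inList _ t, rfl⟩
    exact (mem_rootSubgroup_iff hp.inList _ _).1 h3

theorem pos_iff_vec (hp : IsType D l M') {s : ℕ} (hs : s < D.nroots) : D.IsPosRoot s ↔ 0 ≤ vec D l s := by
  rw [RootVec.isPosRoot_iff hp.checked]
  constructor
  · rintro ⟨-, h⟩ i
    exact h i (lt_rank hp i)
  · intro h
    refine ⟨hs, fun i hi => ?_⟩
    have hi' : i < l := by rw [← hp.rank_eq]; exact hi
    exact h ⟨i, hi'⟩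

theorem neg_iff_vec (hp : IsType D l M') {s : ℕ} (hs : s < D.nroots) : D.IsNegRoot s ↔ vec D l s ≤ 0 := by
  have h1 : D.neg s < D.nroots := neg_lt hp.inList hs
  rw [← RootVec.isPosRoot_neg_iff hp.checked hs, pos_iff_vec hp h1, vec_neg hp hs]
  exact neg_nonneg

theorem Rel.conj_neg {w : W} {m : GL D.Idx k} (h : Rel hp cs w m) {j : Fin l} (hj : rep cs hp.isCartan w (sr j) ≤ 0)
    (t : k) : m * xG hp.inList (D.simple j) t * m⁻¹ ∈ D.negUnipotent k := by
  obtain ⟨s, hs, e, h1⟩ := h.conj j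
  obtain ⟨u, hu⟩ := h1 t
  rw [hu]
  exact xG_mem_negUnipotent hp.inList ((neg_iff_vec hp hs).2 (by rw [e]; exact hj)) u

theorem Rel.conj_pos {w : W} {m : GL D.Idx k} (h : Rel hp cs w m) {j : Fin l} (hj : 0 ≤ rep cs hp.isCartan w (sr j))
    (t : k) : m * xG hp.inList (D.simple j) t * m⁻¹ ∈ D.posUnipotent k := by
  obtain ⟨s, hs, e, h1⟩ := h.conj j
  obtain ⟨u, hu⟩ := h1 t
  rw [hu]
  exact xG_mem_posUnipotent hp.inList ((pos_iff_vec hp hs).2 (by rw [e]; exact hj)) u

end Rel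

/-! ### The descent -/

section Descent

variable {D : ChevalleyDatum} {l m : ℕ} {M' : CoxeterMatrix (Fin l)} {hp : IsType D l M'}
  {J : Fin m → List (Fin l)} {k : Type v} [Field k] {W : Type*} [Group W] {cs : CoxeterSystem M' W}

/-- Removing a commuting block of right descents. -/
theorem block_descent (o : List (Fin l)) : (o.Pairwise fun j j' => j ≠ j' ∧ M' j j' = 2) → ∀ {w : W} {g : GL D.Idx k},
    Rel hp cs w g → (∀ j ∈ o, rep cs hp.isCartan w (sr j) ≤ 0) →
    ∃ w' : W, Rel hp cs w' (g * (nI hp k o)⁻¹) ∧ cs.length w' + o.length ≤ cs.length w ∧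
      ∀ j, (∀ j' ∈ o, j ≠ j' ∧ M' j j' = 2) → rep cs hp.isCartan w' (sr j) = rep cs hp.isCartan w (sr j) := by
  induction o with
  | nil =>
    intro _ w g hw _
    refine ⟨w, ?_, by simp, fun j _ => rfl⟩
    have e : nI hp k [] = 1 := rfl
    rwa [e, inv_one, mul_one]
  | cons j o ih =>
    intro hc w g hw hneg
    rw [List.pairwise_cons] at hc
    obtain ⟨w', h1, h2, h3⟩ := ih hc.2 hw fun j' hj' => hneg j' (List.mem_cons_of_mem _ hj')
    have h4 : rep cs hp.isCartan w' (sr j) ≤ 0 := by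
      rw [h3 j hc.1]
      exact hneg j List.mem_cons_self
    have h5 : cs.length (w' * cs.simple j) < cs.length w' := by
      by_contra h6
      have h7 : cs.length w' < cs.length (w' * cs.simple j) := by
        have := cs.length_mul_simple w' j
        omega
      exact ((isRoot_sr cs hp.isCartan j).act w').not_pos_neg (nonneg_of_lt cs hp.isCartan w' j h7) h4
    refine ⟨w' * cs.simple j, ?_, ?_, ?_⟩
    · have h6 := h1.mul (rel_nn (hp := hp) (cs := cs) (k := k) j).inv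
      rw [cs.inv_simple] at h6
      have e : g * (nI hp k (j :: o))⁻¹ = g * (nI hp k o)⁻¹ * (nn hp k j)⁻¹ := by
        rw [nI_cons, mul_inv_rev, mul_assoc]
      rw [e]
      exact h6
    · rw [List.length_cons]
      omega
    · intro j' hj'
      have h6 := hj' j List.mem_cons_self
      have h7 : rep cs hp.isCartan (cs.simple j) (sr j') = sr j' := by
        have h8 : M' j j' = 2 := by rw [M'.symmetric]; exact h6.2
        have h9 : pairing (cartanOf D l) j (sr j') = cartanOf D l j j' := by rw [sr, pairing_single, mul_one]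
        rw [rep_simple_eq, h9, cartan_zero (h := hp.isCartan) (Ne.symm h6.1) h8, zero_smul, sub_zero]
      rw [rep_mul_apply, h7]
      exact h3 j' fun j'' hj'' => hj' j'' (List.mem_cons_of_mem _ hj'')

theorem iterate_map (σ : GL D.Idx k →* GL D.Idx k) (a : ℕ) (x y : GL D.Idx k) :
    σ^[a] (x * y) = σ^[a] x * σ^[a] y := by
  induction a generalizing x y with
  | zero => rfl
  | succ a ih => rw [Function.iterate_succ_apply, map_mul, ih]; rfl

theorem iterate_inv (σ : GL D.Idx k →* GL D.Idx k) (a : ℕ) (x : GL D.Idx k) :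
    σ^[a] x⁻¹ = (σ^[a] x)⁻¹ := by
  induction a generalizing x with
  | zero => rfl
  | succ a ih => rw [Function.iterate_succ_apply, map_inv, ih]; rfl

/-- The blocks are the orbits of `σ` on the simple root groups. -/
structure Blk (hp : IsType D l M') (J : Fin m → List (Fin l)) (σ : GL D.Idx k →* GL D.Idx k) : Prop where
  cov : ∀ j : Fin l, ∃ i, j ∈ J i
  comm : ∀ i, (J i).Pairwise fun j j' => j ≠ j' ∧ M' j j' = 2
  orb : ∀ i, ∀ j ∈ J i, ∀ j' ∈ J i, ∃ (a : ℕ) (c c' : k), c' ≠ 0 ∧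
    σ^[a] (xG hp.inList (D.simple j) c) = xG hp.inList (D.simple j') c'

/-- the sign of `w` is constant on blocks -/
theorem neg_of_orbit {σ : GL D.Idx k →* GL D.Idx k} (hV : ∀ u ∈ D.negUnipotent k, σ u ∈ D.negUnipotent k)
    (B : Blk hp J σ) {w : W} {g : GL D.Idx k} (hw : Rel hp cs w g) (hσ : σ g = g) {i : Fin m} {j j' : Fin l}
    (hj : j ∈ J i) (hj' : j' ∈ J i) (h0 : rep cs hp.isCartan w (sr j) ≤ 0) : rep cs hp.isCartan w (sr j') ≤ 0 := by
  rcases ((isRoot_sr cs hp.isCartan j').act w).pos_or_neg with h1 | h1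
  · exfalso
    obtain ⟨a, c, c', hc', e⟩ := B.orb i j hj j' hj'
    have h2 := hw.conj_neg h0 c
    have h3 : σ^[a] (g * xG hp.inList (D.simple j) c * g⁻¹) ∈ D.negUnipotent k := by
      clear e
      induction a with
      | zero => exact h2
      | succ a ih => rw [Function.iterate_succ_apply']; exact hV _ ih
    have hσa : σ^[a] g = g := Function.iterate_fixed hσ a
    rw [iterate_map, iterate_map, iterate_inv, hσa, e] at h3
    have h4 := hw.conj_pos h1 c'
    have h5 := pos_neg_eq_one hp.inList h4 h3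
    have h6 : xG hp.inList (D.simple j') c' = 1 := by
      have : xG hp.inList (D.simple j') c' = g⁻¹ * (g * xG hp.inList (D.simple j') c' * g⁻¹) * g := by group
      rw [this, h5]; group
    exact hc' ((xG_eq_one_iff hp.inList (simple_lt hp.inList (lt_rank hp j')) c').1 h6)
  · exact h1

/-- **The fixed monomial elements** are products of the `nI` and of a torus element. -/
theorem exists_mono {σ : GL D.Idx k →* GL D.Idx k} (hV : ∀ u ∈ D.negUnipotent k, σ u ∈ D.negUnipotent k)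
    (B : Blk hp J σ) (hn : ∀ i, σ (nI hp k (J i)) = nI hp k (J i)) {g : GL D.Idx k}
    (hg : g ∈ D.monomialSubgroup k) (hσ : σ g = g) :
    ∃ x ∈ Subgroup.closure (Set.range fun i => nI hp k (J i)), ∃ t ∈ D.diagonalSubgroup k, g = x * t := by
  obtain ⟨w, hw⟩ := exists_rel hp M'.toCoxeterSystem hg
  induction hlen : M'.toCoxeterSystem.length w using Nat.strong_induction_on generalizing w g with
  | _ n ih =>
    by_cases h1 : w = 1
    · subst h1
      exact ⟨1, one_mem _, g, mem_of_rel_one hw, (one_mul g).symm⟩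
    · obtain ⟨j, hj⟩ := M'.toCoxeterSystem.exists_rightDescent_of_ne_one h1
      obtain ⟨i, hi⟩ := B.cov j
      have h2 : rep M'.toCoxeterSystem hp.isCartan w (sr j) ≤ 0 := nonpos_of_lt _ _ w j hj
      obtain ⟨w', h3, h4, -⟩ := block_descent (J i) (B.comm i) hw fun j' hj' =>
        neg_of_orbit hV B hw hσ hi hj' h2
      have hpos : 0 < (J i).length := List.length_pos_of_mem hi
      have h5 : σ (g * (nI hp k (J i))⁻¹) = g * (nI hp k (J i))⁻¹ := by
        rw [map_mul, map_inv, hσ, hn]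
      obtain ⟨x, hx, t, ht, e⟩ := ih (M'.toCoxeterSystem.length w') (by omega) h3.mono h5 w' h3 rfl
      refine ⟨x * nI hp k (J i), mul_mem hx (Subgroup.subset_closure ⟨i, rfl⟩), (nI hp k (J i))⁻¹ * t * nI hp k (J i),
        ?_, ?_⟩
      · have h6 := mono_norm hp.inList (inv_mem (nI_mem hp k (J i))) ht
        rwa [inv_inv] at h6
      · have h7 : g = g * (nI hp k (J i))⁻¹ * nI hp k (J i) := by group
        rw [h7, e]
        group

end Descent

/-! ### The splitting -/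

section Main

variable {D : ChevalleyDatum} (hD : InList D) {k : Type v} [Field k]

include hD in
/-- `Y^σ = K0 · T` once the fixed monomial elements are in `K0 · T`. -/
theorem split_of_mono {σ : GL D.Idx k →* GL D.Idx k} (hU : ∀ u ∈ D.posUnipotent k, σ u ∈ D.posUnipotent k)
    (hV : ∀ u ∈ D.negUnipotent k, σ u ∈ D.negUnipotent k)
    (hN : ∀ u ∈ D.monomialSubgroup k, σ u ∈ D.monomialSubgroup k) {K0 : Subgroup (GL D.Idx k)}
    (hKU : ∀ u ∈ D.posUnipotent k, σ u = u → u ∈ K0) (hfix : ∀ x ∈ K0, σ x = x)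
    (hM : ∀ m ∈ D.monomialSubgroup k, σ m = m → ∃ x ∈ K0, ∃ t ∈ D.diagonalSubgroup k, m = x * t)
    {g : GL D.Idx k} (hg : g ∈ D.group k) (hσ : σ g = g) :
    ∃ x ∈ K0, ∃ t ∈ D.diagonalSubgroup k, g = x * t := by
  obtain ⟨u, hu, hσu, m, hm, hσm, v, hv, hσv, e⟩ := form_fix hD hU hV hN hg hσ
  obtain ⟨x, hx, t, ht, e'⟩ := hM m hm hσm
  have hσt : σ t = t := by
    have h1 : t = x⁻¹ * m := by rw [e']; group
    rw [h1, map_mul, map_inv, hfix x hx, hσm]
  have h2 := diag_norm hD ht hv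
  have h3 : t * v * t⁻¹ ∈ K0 := hKU _ h2 (by rw [map_mul, map_mul, map_inv, hσt, hσv])
  refine ⟨u * x * (t * v * t⁻¹), mul_mem (mul_mem (hKU u hu hσu) hx) h3, t, ht, ?_⟩
  rw [e, e']
  group

variable {F : Type u} [Field F] {f : F →+* k}

include hD in
/-- **`Y^φ = K T`, untwisted.** -/
theorem untw_split {φ : k →+* k} (hφ : ∀ t, φ t = t ↔ t ∈ Set.range f) {g : GL D.Idx k}
    (hg : g ∈ D.group k) (h : glMap D φ g = g) :
    ∃ x ∈ D.group F, ∃ t ∈ D.diagonalSubgroup k, g = glMap D f x * t := by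
  have hφf : ∀ t, φ (f t) = f t := fun t => (hφ _).2 ⟨t, rfl⟩
  have hcomp : ∀ x : GL D.Idx F, glMap D φ (glMap D f x) = glMap D f x := by
    intro x
    apply Units.ext
    rw [coe_glMap, coe_glMap]
    ext i j
    exact hφf _
  obtain ⟨y, ⟨x, hx, rfl⟩, t, ht, e⟩ := split_of_mono hD (σ := glMap D φ) (fun u hu => glMap_pos hD φ hu)
    (fun u hu => glMap_neg hD φ hu) (fun u hu => glMap_mono hD φ hu) (K0 := (D.group F).map (glMap D f))
    (fun u hu hu' => by
      obtain ⟨u0, hu0, e⟩ := exists_of_fix (f := f) hD (fun t ht => (hφ t).1 ht) hu hu'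
      exact ⟨u0, posUnipotent_le_group hD F hu0, e⟩)
    (by rintro _ ⟨x, -, rfl⟩; exact hcomp x)
    (fun m hm _ => by
      obtain ⟨m0, hm0, t, ht, e⟩ := mono_decomp hD f hm
      exact ⟨glMap D f m0, ⟨m0, monomial_le_group hD F hm0, rfl⟩, t, ht, e⟩) hg h
  exact ⟨x, hx, t, ht, e⟩

end Main

section Tw

variable {D : ChevalleyDatum} {l m : ℕ} {M' : CoxeterMatrix (Fin l)} {hp : IsType D l M'}
  {M : CoxeterMatrix (Fin m)} {A : Fin m → Fin m → ℤ}
  {J : Fin m → List (Fin l)} {L : List (List ℕ)}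
  {F : Type u} [Field F] [Finite F] {k : Type v} [Field k] {f : F →+* k}
  {σ0 : GL D.Idx F →* GL D.Idx F} {ρ ρ' : ℕ → ℕ} {fF : ℕ → F → F} {G : Subgroup (GL D.Idx F)}

/-- **`Y^σ = K T`, twisted.** -/
theorem tw_split (FD : FoldData D M A J L) (FG : FoldGrp hp F J L σ0 ρ ρ' fF G) (h : IsCartan M A)
    {φ : k →+* k} {σ : GL D.Idx k →* GL D.Idx k} (hS : Std hp.inList φ σ) (B : Blk hp J σ)
    (hnat : ∀ r < D.nroots, ∀ t : F, σ (xG hp.inList r (f t)) = glMap D f (σ0 (xG hp.inList r t)))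
    {τ : GL D.Idx k →* GL D.Idx k} (hτ : ∀ g, σ g = g → τ g = g) {ψ : k →+* k}
    (hτψ : ∀ r < D.nroots, ∀ t : k, τ (xG hp.inList r t) = xG hp.inList r (ψ t))
    (hψ : ∀ t, ψ t = t → t ∈ Set.range f) {g : GL D.Idx k} (hg : g ∈ D.group k) (hσ : σ g = g) :
    ∃ x ∈ G, ∃ t ∈ D.diagonalSubgroup k, g = glMap D f x * t := by
  have hn : ∀ i, σ (nI hp k (J i)) = nI hp k (J i) := by
    intro i
    rw [← glMap_nI (F := F) (f := f) i]
    exact map_fix FD FG hnat (FG.nG i)
  obtain ⟨y, ⟨x, hx, rfl⟩, t, ht, e⟩ := split_of_mono hp.inList (σ := σ) (fun u hu => hS.pos hu)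
    (fun u hu => hS.neg hu) (fun u hu => hS.mono hu) (K0 := G.map (glMap D f))
    (fun u hu hu' => pos_fix_mem FD FG h hnat hτ hτψ hψ hu hu')
    (by rintro _ ⟨x, hx, rfl⟩; exact map_fix FD FG hnat hx)
    (fun n hn1 hn2 => by
      obtain ⟨x, hx, t, ht, e⟩ := exists_mono (fun u hu => hS.neg hu) B hn hn1 hn2
      refine ⟨x, ?_, t, ht, e⟩
      have h1 : Subgroup.closure (Set.range fun i => nI hp k (J i)) ≤ G.map (glMap D f) := by
        rw [Subgroup.closure_le]
        rintro _ ⟨i, rfl⟩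
        exact ⟨nI hp F (J i), FG.nG i, glMap_nI i⟩
      exact h1 hx) hg hσ
  exact ⟨x, hx, t, ht, e⟩

/-- iterates of `σ` on root elements -/
theorem iterate_root {N : ℕ} {σ : GL D.Idx k →* GL D.Idx k} {ρ1 : Fin N → Fin N}
    (h1 : ∀ (r : Fin N) (t : k), t ≠ 0 → ∃ c : k, c ≠ 0 ∧ σ (xG hp.inList r.val t) = xG hp.inList (ρ1 r).val c) :
    ∀ (a : ℕ) (r : Fin N) (t : k), t ≠ 0 →
      ∃ c : k, c ≠ 0 ∧ σ^[a] (xG hp.inList r.val t) = xG hp.inList (ρ1^[a] r).val c := by
  intro a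
  induction a with
  | zero => intro r t ht; exact ⟨t, ht, rfl⟩
  | succ a ih =>
    intro r t ht
    obtain ⟨c, hc, e⟩ := h1 r t ht
    obtain ⟨c', hc', e'⟩ := ih (ρ1 r) c hc
    exact ⟨c', hc', by rw [Function.iterate_succ_apply, e, e', Function.iterate_succ_apply]⟩

end Tw

end Cfsg.Agent.BpExc.EmbSplit

end
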