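import Mathlib
import Cfsg.Agent.ChevalleyStructure.Elts
import Cfsg.Agent.ChevalleyStructure.Ring
import Cfsg.Agent.ChevalleyStructure.CorootGcd
import Cfsg.Agent.ChevalleyStructure.Good
import Cfsg.Agent.KFacts.RgdChevCoord
import Cfsg.Agent.BpExc.Fr
set_option linter.all false

-- merged: Cfsg.Agent.LangThm.Rank
section

/-!
# Vanishing ideals and transcendence ranks of points of affine space in domains

`van k v` is the vanishing ideal of a point `v : σ → A` with coordinates in a `k`-algebra `A`, `rk k v` the rank of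
its coordinates in the algebraic matroid.

* `rk_le_of_van_le` : `van k v ≤ van k v' → rk k v' ≤ rk k v` (the rank drops under specialisation);
* `van_eq_of_rk_le` : if `van k v ≤ van k v'` and `rk k v ≤ rk k v'` (finite), then the ideals are equal;
* `rk_le_of_algebraic` : if the coordinates of `v` are algebraic over those of `w`, then `rk k v ≤ rk k w`.
-/

set_option autoImplicit false

namespace Cfsg.Agent.LangThm

open MvPolynomial

universe u v w

variable (k : Type u) [Field k] {σ : Type w} {A : Type v} [CommRing A] [Algebra k A]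

/-- The vanishing ideal of a point with coordinates in a `k`-algebra. -/
noncomputable def van (v : σ → A) : Ideal (MvPolynomial σ k) := RingHom.ker (aeval v : MvPolynomial σ k →ₐ[k] A)

variable {k}

theorem mem_van {v : σ → A} {P : MvPolynomial σ k} : P ∈ van k v ↔ aeval v P = 0 := RingHom.mem_ker

theorem van_prime [IsDomain A] (v : σ → A) : (van k v).IsPrime := RingHom.ker_isPrime _

variable (k)

/-- The rank of the coordinates of a point in the algebraic matroid. -/
noncomputable def rk [IsDomain A] (v : σ → A) : ℕ∞ := (AlgebraicIndependent.matroid k A).eRk (Set.range v)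

variable {k}

theorem algebraicIndepOn_of_van_le {A' : Type*} [CommRing A'] [Algebra k A'] {v : σ → A} {v' : σ → A'}
    (h : van k v ≤ van k v') {J : Set σ} (hJ : AlgebraicIndepOn k v' J) : AlgebraicIndepOn k v J := by
  have hJ' : AlgebraicIndependent k (fun i : J => v' i) := hJ
  show AlgebraicIndependent k (fun i : J => v i)
  rw [algebraicIndependent_iff] at hJ' ⊢
  intro P hP
  apply hJ'
  have h1 : rename (fun i : J => (i : σ)) P ∈ van k v := by
    rw [mem_van, aeval_rename]
    exact hP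
  have h2 := h h1
  rw [mem_van, aeval_rename] at h2
  exact h2

/-- An independent set of coordinates of maximal size. -/
theorem exists_indep [IsDomain A] (v : σ → A) : ∃ J : Set σ, AlgebraicIndepOn k v J ∧ Set.InjOn v J ∧ J.encard = rk k v := by
  unfold rk
  obtain ⟨I, hI, hind, hcard⟩ := Matroid.le_eRk_iff.mp (le_refl ((AlgebraicIndependent.matroid k A).eRk (Set.range v)))
  have hne : I.Nonempty → Nonempty σ := fun ⟨a, ha⟩ => ⟨(hI ha).choose⟩
  rcases I.eq_empty_or_nonempty with rfl | hI0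
  · refine ⟨∅, ?_, Set.injOn_empty _, by rw [← hcard]; simp⟩
    have h1 := (algebraicIndependent_image (R := k) (f := v) (Set.injOn_empty v)).mpr (by
      rw [Set.image_empty]
      exact AlgebraicIndependent.matroid_indep_iff.mp hind)
    exact h1
  have := hne hI0
  choose! j hj using fun a (ha : a ∈ I) => hI ha
  have hinj : Set.InjOn j I := fun a ha b hb hab => by rw [← hj a ha, ← hj b hb, hab]
  have h3 : Set.InjOn v (j '' I) := by
    rintro _ ⟨a, ha, rfl⟩ _ ⟨b, hb, rfl⟩ hab
    rw [hj a ha, hj b hb] at hab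
    rw [hab]
  refine ⟨j '' I, ?_, h3, by rw [hinj.encard_image, hcard]⟩
  have h1 : AlgebraicIndepOn k id I := AlgebraicIndependent.matroid_indep_iff.mp hind
  have h2 : v '' (j '' I) = I := by
    rw [Set.image_image]
    conv_rhs => rw [← Set.image_id I]
    exact Set.image_congr fun a ha => hj a ha
  rw [← h2] at h1
  exact (algebraicIndependent_image h3).mpr h1

theorem indep_image [IsDomain A] {v : σ → A} {J : Set σ} (h : AlgebraicIndepOn k v J) (hi : Set.InjOn v J) :
    (AlgebraicIndependent.matroid k A).Indep (v '' J) :=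
  AlgebraicIndependent.matroid_indep_iff.mpr ((algebraicIndependent_image hi).mp h)

theorem injOn_of_indep {v : σ → A} {J : Set σ} (h : AlgebraicIndepOn k v J) : Set.InjOn v J :=
  fun a ha b hb hab =>
    congrArg Subtype.val ((AlgebraicIndependent.injective h) (a₁ := ⟨a, ha⟩) (a₂ := ⟨b, hb⟩) hab)

theorem encard_le_rk [IsDomain A] {v : σ → A} {J : Set σ} (h : AlgebraicIndepOn k v J) : J.encard ≤ rk k v := by
  rw [← (injOn_of_indep h).encard_image]
  exact Matroid.Indep.encard_le_eRk_of_subset (indep_image h (injOn_of_indep h)) (Set.image_subset_range _ _)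

theorem rk_le_of_van_le [IsDomain A] {A' : Type*} [CommRing A'] [IsDomain A'] [Algebra k A'] {v : σ → A}
    {v' : σ → A'} (h : van k v ≤ van k v') : rk k v' ≤ rk k v := by
  obtain ⟨J, hJ, -, hc⟩ := exists_indep (k := k) v'
  rw [← hc]
  exact encard_le_rk (algebraicIndepOn_of_van_le h hJ)

theorem rk_le_card [IsDomain A] [Finite σ] (v : σ → A) : rk k v ≤ Nat.card σ := by
  obtain ⟨J, hJ, -, hc⟩ := exists_indep (k := k) v
  rw [← hc, ← ENat.card_eq_coe_natCard, ← Set.encard_univ]
  exact Set.encard_le_encard (Set.subset_univ _)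

theorem rk_le_of_algebraic [IsDomain A] {τ : Type*} {v : σ → A} {w : τ → A}
    (h : ∀ i, IsAlgebraic (Algebra.adjoin k (Set.range w)) (v i)) : rk k v ≤ rk k w := by
  unfold rk
  rw [← Matroid.eRk_closure_eq _ (Set.range w)]
  apply Matroid.eRk_mono
  rintro _ ⟨i, rfl⟩
  rw [AlgebraicIndependent.matroid_closure_eq]
  exact h i

theorem van_eq_of_rk_le [IsDomain A] [Finite σ] {A' : Type*} [CommRing A'] [IsDomain A'] [Algebra k A'] {v : σ → A}
    {v' : σ → A'} (h : van k v ≤ van k v') (hr : rk k v ≤ rk k v') : van k v = van k v' := by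
  apply le_antisymm h
  obtain ⟨J, hJ, -, hc⟩ := exists_indep (k := k) v'
  have hJv := algebraicIndepOn_of_van_le h hJ
  have hinj := injOn_of_indep hJv
  have hbas : (AlgebraicIndependent.matroid k A).IsBasis (v '' J) (Set.range v) := by
    refine (indep_image hJv hinj).isBasis_of_eRk_ge (Set.toFinite _) (Set.image_subset_range _ _) ?_
    rw [(indep_image hJv hinj).eRk_eq_encard, hinj.encard_image, hc]
    exact hr
  have halg := (AlgebraicIndependent.matroid_isBasis_iff.mp hbas).2.2
  intro P hP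
  by_contra hPv
  have ha0 : aeval v P ≠ 0 := fun h0 => hPv (mem_van.mpr h0)
  have hmem : ∀ Q : MvPolynomial σ k, IsAlgebraic (Algebra.adjoin k (v '' J)) (aeval v Q) := by
    intro Q
    induction Q using MvPolynomial.induction_on with
    | C a =>
      rw [aeval_C]
      exact isAlgebraic_algebraMap (algebraMap k (Algebra.adjoin k (v '' J)) a)
    | add Q R hQ hR => rw [map_add]; exact hQ.add hR
    | mul_X Q i hQ => rw [map_mul, aeval_X]; exact hQ.mul (halg _ ⟨i, rfl⟩)
  obtain ⟨f, hf0, hf⟩ := (hmem P).exists_nonzero_coeff_and_aeval_eq_zero (mem_nonZeroDivisors_of_ne_zero ha0)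
  have hlift : ∀ c : Algebra.adjoin k (v '' J), ∃ C : MvPolynomial J k, aeval (fun i : J => v i) C = (c : A) := by
    rintro ⟨c, hc⟩
    have h1 : v '' J = Set.range (fun i : J => v i) := by
      rw [Set.image_eq_range]
    rw [h1, Algebra.adjoin_range_eq_range_aeval] at hc
    exact hc
  choose C hC using hlift
  have hQ : (∑ i ∈ Finset.range (f.natDegree + 1), rename (fun i : J => (i : σ)) (C (f.coeff i)) * P ^ i) ∈
      van k v := by
    rw [mem_van, map_sum, ← hf, Polynomial.aeval_eq_sum_range]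
    refine Finset.sum_congr rfl fun i _ => ?_
    rw [map_mul, map_pow, aeval_rename, Subalgebra.smul_def, smul_eq_mul, ← hC]
    rfl
  have hQ' := h hQ
  have hP' := mem_van.mp hP
  rw [mem_van, map_sum, Finset.sum_range_succ'] at hQ'
  simp only [map_mul, map_pow, hP', aeval_rename, pow_succ, mul_zero, Finset.sum_const_zero, zero_add,
    pow_zero, mul_one] at hQ'
  apply hf0
  have h0 : C (f.coeff 0) = 0 := (algebraicIndependent_iff.mp hJ) _ hQ'
  have h1 := hC (f.coeff 0)
  rw [h0, map_zero] at h1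
  exact Subtype.ext h1.symm

end Cfsg.Agent.LangThm

end

-- merged: Cfsg.Agent.LangThm.Dominant
section

/-!
# The image of a polynomial map contains a dense open subset of its closure
-/

set_option autoImplicit false

namespace Cfsg.Agent.LangThm

open MvPolynomial

universe u v w

/-- The image of a polynomial map `v : k^τ → k^σ` contains all points `g` of its closure outside a hypersurface `H = 0`
not containing the closure. -/
theorem exists_open {k : Type u} [Field k] [IsAlgClosed k] {σ : Type v} {τ : Type w} [Finite σ] [Finite τ]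
    (v : σ → MvPolynomial τ k) :
    ∃ H : MvPolynomial σ k, H ∉ van k v ∧ ∀ g : σ → k, van k v ≤ van k g → aeval g H ≠ 0 →
      ∃ s : τ → k, ∀ i, aeval s (v i) = g i := by
  let f : MvPolynomial σ k →ₐ[k] MvPolynomial τ k := aeval v
  have hft : f.toRingHom.FiniteType := by
    apply RingHom.FiniteType.of_comp_finiteType (f := algebraMap k (MvPolynomial σ k))
    have h1 : f.toRingHom.comp (algebraMap k (MvPolynomial σ k)) = algebraMap k (MvPolynomial τ k) :=
      RingHom.ext fun a => f.commutes a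
    rw [h1, RingHom.finiteType_algebraMap]
    infer_instance
  have hfp : f.toRingHom.FinitePresentation := RingHom.FinitePresentation.of_finiteType.mp hft
  obtain ⟨S, hS⟩ := PrimeSpectrum.exists_constructibleSetData_iff.mpr (PrimeSpectrum.isConstructible_range_comap hfp)
  have h0 : (⟨van k v, van_prime v⟩ : PrimeSpectrum (MvPolynomial σ k)) ∈ S.toSet := by
    rw [hS]
    refine ⟨⟨⊥, Ideal.isPrime_bot⟩, ?_⟩
    apply PrimeSpectrum.ext
    rfl
  rw [PrimeSpectrum.ConstructibleSetData.toSet, Set.mem_iUnion₂] at h0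
  obtain ⟨D, hD, h1, h2⟩ := h0
  refine ⟨D.f, fun h => h2 ?_, ?_⟩
  · rw [PrimeSpectrum.mem_zeroLocus, Set.singleton_subset_iff]
    exact h
  intro g hg hgH
  have h3 : (⟨van k g, van_prime g⟩ : PrimeSpectrum (MvPolynomial σ k)) ∈ S.toSet := by
    rw [PrimeSpectrum.ConstructibleSetData.toSet, Set.mem_iUnion₂]
    refine ⟨D, hD, ?_, ?_⟩
    · rw [PrimeSpectrum.mem_zeroLocus] at h1 ⊢
      exact h1.trans hg
    · rw [PrimeSpectrum.mem_zeroLocus, Set.singleton_subset_iff]
      exact fun h => hgH (mem_van.mp h)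
  rw [hS] at h3
  obtain ⟨Q, hQ⟩ := h3
  have hQ' : Ideal.comap f.toRingHom Q.asIdeal = van k g := congrArg PrimeSpectrum.asIdeal hQ
  obtain ⟨M, hM, hQM⟩ := Ideal.exists_le_maximal Q.asIdeal Q.2.ne_top
  obtain ⟨s, hs⟩ := isMaximal_iff_eq_vanishingIdeal_singleton.mp hM
  refine ⟨s, fun i => ?_⟩
  have h4 : (X i - C (g i) : MvPolynomial σ k) ∈ van k g := by
    rw [mem_van, map_sub, aeval_X, aeval_C, Algebra.algebraMap_self, RingHom.id_apply, sub_self]
  rw [← hQ'] at h4
  have h5 := hQM h4
  have h6 : aeval s (f (X i - C (g i))) = 0 := (mem_vanishingIdeal_singleton_iff s _).mp (hs ▸ h5)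
  rw [map_sub, map_sub, aeval_X, show f (C (g i)) = C (g i) from f.commutes (g i), aeval_C,
    Algebra.algebraMap_self, RingHom.id_apply, sub_eq_zero] at h6
  exact h6

end Cfsg.Agent.LangThm

end

-- merged: Cfsg.Agent.LangThm.Determined
section

/-!
# A polynomial function which is determined by others is algebraic over them
-/

set_option autoImplicit false

namespace Cfsg.Agent.LangThm

open MvPolynomial

universe u v w

theorem aeval_option {k : Type u} [Field k] {σ : Type v} {B : Type w} [CommRing B] [Algebra k B] (w : Option σ → B)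
    (P : MvPolynomial (Option σ) k) :
    aeval w P = Polynomial.eval₂ (aeval (fun i => w (some i)) : MvPolynomial σ k →ₐ[k] B).toRingHom (w none)
      (optionEquivLeft k σ P) := by
  let φ : Polynomial (MvPolynomial σ k) →+* B :=
    Polynomial.eval₂RingHom (aeval (fun i => w (some i)) : MvPolynomial σ k →ₐ[k] B).toRingHom (w none)
  have h : (aeval w : MvPolynomial (Option σ) k →ₐ[k] B).toRingHom =
      φ.comp (optionEquivLeft k σ).toRingEquiv.toRingHom := by
    apply MvPolynomial.ringHom_ext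
    · intro a
      simp [φ, optionEquivLeft_C]
    · intro i
      cases i with
      | none => simp [φ, optionEquivLeft_X_none]
      | some i => simp [φ, optionEquivLeft_X_some]
  exact DFunLike.congr_fun h P

/-- If `y` takes equal values at any two points where all the `v i` take equal values, then `y` is algebraic over
the `v i`. -/
theorem isAlgebraic_of_determined {k : Type u} [Field k] [IsAlgClosed k] {σ : Type v} {τ : Type w} [Finite σ] [Finite τ]
    (v : σ → MvPolynomial τ k) (y : MvPolynomial τ k)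
    (h : ∀ s s' : τ → k, (∀ i, aeval s (v i) = aeval s' (v i)) → aeval s y = aeval s' y) :
    IsAlgebraic (Algebra.adjoin k (Set.range v)) y := by
  by_contra htr
  let w : Option σ → MvPolynomial τ k := fun i => i.elim y v
  obtain ⟨H, hH, hopen⟩ := exists_open w
  have hcoef : ∀ P : MvPolynomial (Option σ) k, P ∈ van k w ↔
      ∀ n, aeval v ((optionEquivLeft k σ P).coeff n) = 0 := by
    intro P
    rw [mem_van, aeval_option]
    constructor
    · intro h0
      let ψ : MvPolynomial σ k →ₐ[k] Algebra.adjoin k (Set.range v) :=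
        (aeval v).codRestrict _ (fun a => by
          rw [Algebra.adjoin_range_eq_range_aeval]
          exact ⟨a, rfl⟩)
      have h1 : Polynomial.aeval y ((optionEquivLeft k σ P).map ψ.toRingHom) = 0 := by
        rw [Polynomial.aeval_def, Polynomial.eval₂_map]
        exact h0
      have h2 : (optionEquivLeft k σ P).map ψ.toRingHom = 0 := by
        by_contra hne
        exact htr ⟨_, hne, h1⟩
      intro n
      have h3 := congrArg (fun q => Polynomial.coeff q n) h2
      simp only [Polynomial.coeff_map, Polynomial.coeff_zero] at h3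
      exact congrArg Subtype.val h3
    · intro h0
      rw [Polynomial.eval₂_eq_sum_range]
      refine Finset.sum_eq_zero fun i _ => ?_
      rw [show (aeval (fun i => w (some i)) : MvPolynomial σ k →ₐ[k] MvPolynomial τ k).toRingHom
        ((optionEquivLeft k σ P).coeff i) = 0 from h0 i, zero_mul]
  rw [hcoef] at hH
  push Not at hH
  obtain ⟨n, hn⟩ := hH
  obtain ⟨s0, hs0⟩ : ∃ s0 : τ → k, aeval s0 (aeval v ((optionEquivLeft k σ H).coeff n)) ≠ 0 := by
    by_contra hall
    push Not at hall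
    exact hn (MvPolynomial.funext fun s => by rw [map_zero]; exact hall s)
  let g : σ → k := fun i => aeval s0 (v i)
  have hg : ∀ P : MvPolynomial σ k, aeval g P = aeval s0 (aeval v P) := by
    intro P
    rw [← AlgHom.comp_apply]
    congr 1
    apply MvPolynomial.algHom_ext
    intro i
    simp [g]
  let pH : Polynomial k := (optionEquivLeft k σ H).map (aeval g : MvPolynomial σ k →ₐ[k] k).toRingHom
  have hpH : pH ≠ 0 := by
    intro h0
    have h1 := congrArg (fun q => Polynomial.coeff q n) h0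
    simp only [pH, Polynomial.coeff_map, Polynomial.coeff_zero] at h1
    exact hs0 ((hg _).symm.trans h1)
  have hval : ∀ t : k, (∀ P : MvPolynomial (Option σ) k, aeval (fun i : Option σ => i.elim t g) P =
      Polynomial.eval t ((optionEquivLeft k σ P).map (aeval g : MvPolynomial σ k →ₐ[k] k).toRingHom)) := by
    intro t P
    rw [aeval_option, Polynomial.eval_map]
    rfl
  have hle : ∀ t : k, van k w ≤ van k (fun i : Option σ => i.elim t g) := by
    intro t P hP
    rw [hcoef] at hP
    rw [mem_van, hval]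
    have h1 : (optionEquivLeft k σ P).map (aeval g : MvPolynomial σ k →ₐ[k] k).toRingHom = 0 := by
      ext m
      rw [Polynomial.coeff_map, Polynomial.coeff_zero]
      have h2 := hg ((optionEquivLeft k σ P).coeff m)
      rw [hP m, map_zero] at h2
      exact h2
    rw [h1, Polynomial.eval_zero]
  classical
  have hinf : Infinite k := inferInstance
  obtain ⟨t1, ht1⟩ : ∃ t, t ∉ (pH.roots.toFinset : Finset k) := Infinite.exists_notMem_finset _
  obtain ⟨t2, ht2⟩ : ∃ t, t ∉ insert t1 (pH.roots.toFinset : Finset k) := Infinite.exists_notMem_finset _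
  rw [Finset.mem_insert, not_or] at ht2
  have hroot : ∀ t, t ∉ (pH.roots.toFinset : Finset k) → aeval (fun i : Option σ => i.elim t g) H ≠ 0 := by
    intro t ht h0
    rw [hval] at h0
    exact ht (Multiset.mem_toFinset.mpr ((Polynomial.mem_roots hpH).mpr h0))
  obtain ⟨s1, hs1⟩ := hopen _ (hle t1) (hroot t1 ht1)
  obtain ⟨s2, hs2⟩ := hopen _ (hle t2) (hroot t2 ht2.2)
  have h3 := h s1 s2 fun i => (hs1 (some i)).trans (hs2 (some i)).symm
  exact ht2.1 ((hs2 none).symm.trans (h3.symm.trans (hs1 none)))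

end Cfsg.Agent.LangThm

end

-- merged: Cfsg.Agent.LangThm.FrobInt
section

/-!
# If the `q`-th powers of `x_1, …, x_n` are linear combinations of `x_1, …, x_n`, then the `x_i` are integral
-/

set_option autoImplicit false

namespace Cfsg.Agent.LangThm

theorem isIntegral_of_pow_mem {P S σ : Type*} [CommRing P] [CommRing S] [IsDomain S] [Algebra P S] [Finite σ] (x : σ → S) {q : ℕ}
    (hq : 2 ≤ q) (h : ∀ i, x i ^ q ∈ Submodule.span P (Set.range x)) (i : σ) : IsIntegral P (x i) := by
  classical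
  have := Fintype.ofFinite σ
  let m : (σ → ℕ) → S := fun e => ∏ i, x i ^ e i
  let M : Submodule P S := Submodule.span P (m '' {e | ∀ i, e i < q})
  have hmul : ∀ (j : σ) (e : σ → ℕ), x j * m e = m (Function.update e j (e j + 1)) := by
    intro j e
    simp only [m]
    rw [← Finset.mul_prod_erase _ _ (Finset.mem_univ j),
      ← Finset.mul_prod_erase _ (fun i => x i ^ Function.update e j (e j + 1) i) (Finset.mem_univ j),
      Function.update_self, ← mul_assoc, pow_succ']
    congr 1
    refine Finset.prod_congr rfl fun i hi => ?_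
    rw [Function.update_of_ne (Finset.ne_of_mem_erase hi)]
  have hmem : ∀ (D : ℕ) (e : σ → ℕ), ∑ i, e i = D → m e ∈ M := by
    intro D
    induction D using Nat.strong_induction_on with
    | _ D ih =>
      intro e he
      by_cases hlt : ∀ i, e i < q
      · exact Submodule.subset_span ⟨e, hlt, rfl⟩
      · push Not at hlt
        obtain ⟨j, hj⟩ := hlt
        let e' := Function.update e j (e j - q)
        have h1 : m e = x j ^ q * m e' := by
          simp only [m, e']
          rw [← Finset.mul_prod_erase _ _ (Finset.mem_univ j),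
            ← Finset.mul_prod_erase _ (fun i => x i ^ Function.update e j (e j - q) i) (Finset.mem_univ j),
            Function.update_self, ← mul_assoc, ← pow_add, Nat.add_sub_cancel' hj]
          congr 1
          refine Finset.prod_congr rfl fun i hi => ?_
          rw [Function.update_of_ne (Finset.ne_of_mem_erase hi)]
        have hs : ∑ i, e' i + q = D := by
          rw [← he, ← Finset.add_sum_erase _ _ (Finset.mem_univ j), ← Finset.add_sum_erase _ e (Finset.mem_univ j)]
          have h2 : ∑ i ∈ Finset.univ.erase j, e' i = ∑ i ∈ Finset.univ.erase j, e i :=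
            Finset.sum_congr rfl fun i hi => by
              simp only [e']
              rw [Function.update_of_ne (Finset.ne_of_mem_erase hi)]
          rw [h2]
          have h3 : e' j = e j - q := Function.update_self _ _ _
          rw [h3]
          omega
        rw [h1]
        have h4 : ∀ y ∈ Submodule.span P (Set.range x), y * m e' ∈ M := by
          intro y hy
          induction hy using Submodule.span_induction with
          | mem y hy =>
            obtain ⟨l, rfl⟩ := hy
            rw [hmul]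
            refine ih _ ?_ _ rfl
            rw [← Finset.add_sum_erase _ _ (Finset.mem_univ l), Function.update_self]
            have h5 : ∑ i ∈ Finset.univ.erase l, Function.update e' l (e' l + 1) i = ∑ i ∈ Finset.univ.erase l, e' i :=
              Finset.sum_congr rfl fun i hi => by rw [Function.update_of_ne (Finset.ne_of_mem_erase hi)]
            rw [h5]
            have h6 := Finset.add_sum_erase _ e' (Finset.mem_univ l)
            omega
          | zero => rw [zero_mul]; exact M.zero_mem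
          | add y z _ _ hy hz => rw [add_mul]; exact M.add_mem hy hz
          | smul a y _ hy => rw [smul_mul_assoc]; exact M.smul_mem a hy
        exact h4 _ (h j)
  have hfg : M.FG := by
    refine Submodule.fg_span (Set.Finite.image _ ?_)
    exact (Set.finite_Iic (fun _ : σ => q)).subset fun e he i => (he i).le
  have h1 : (1 : S) ∈ M := by
    have := hmem 0 0 (by simp)
    simpa [m] using this
  have hx : ∀ y ∈ M, x i * y ∈ M := by
    intro y hy
    induction hy using Submodule.span_induction with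
    | mem y hy =>
      obtain ⟨e, -, rfl⟩ := hy
      rw [hmul]
      exact hmem _ _ rfl
    | zero => rw [mul_zero]; exact M.zero_mem
    | add y z _ _ hy hz => rw [mul_add]; exact M.add_mem hy hz
    | smul a y _ hy => rw [mul_smul_comm]; exact M.smul_mem a hy
  refine isIntegral_of_smul_mem_submodule M ?_ hfg (x i) hx
  intro h0
  rw [h0, Submodule.mem_bot] at h1
  exact one_ne_zero h1

end Cfsg.Agent.LangThm

end

-- merged: Cfsg.Agent.LangThm.Gen
section

/-!
# Groups generated by polynomial one-parameter families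

`ev f X` is the value at `f : R` of an invertible polynomial matrix `X`; `Gam X R` is the subgroup of `GL N R` generated
by all `ev f (X i)`. `exists_dense` : if `X i (0) = 1`, there is a polynomial family `γ ∈ Gam X (k[s_1, …, s_m])` whose
vanishing ideal vanishes on all of `Gam X k`.
-/

set_option autoImplicit false

namespace Cfsg.Agent.LangThm

open MvPolynomial

universe u

variable {k : Type u} [Field k] {N : Type} [Fintype N] [DecidableEq N] {ι : Type*}

/-- Change of rings for invertible matrices. -/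
noncomputable def mp {R S : Type*} [CommRing R] [CommRing S] [Algebra k R] [Algebra k S] (φ : R →ₐ[k] S) :
    GL N R →* GL N S := Matrix.GeneralLinearGroup.map φ.toRingHom

/-- The value at `f` of an invertible polynomial matrix. -/
noncomputable def ev {R : Type*} [CommRing R] [Algebra k R] (f : R) : GL N (Polynomial k) →* GL N R :=
  mp (Polynomial.aeval f)

/-- The coordinates of an invertible matrix. -/
def co {R : Type*} [CommRing R] (g : GL N R) : N × N → R := fun ij => (g : Matrix N N R) ij.1 ij.2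

theorem co_mp {R S : Type*} [CommRing R] [CommRing S] [Algebra k R] [Algebra k S] (φ : R →ₐ[k] S) (g : GL N R)
    (ij : N × N) : co (mp φ g) ij = φ (co g ij) := rfl

theorem co_injective {R : Type*} [CommRing R] : Function.Injective (co : GL N R → N × N → R) := by
  intro g h hgh
  apply Units.ext
  ext i j
  exact congrFun hgh (i, j)

theorem mp_mp {R S T : Type*} [CommRing R] [CommRing S] [CommRing T] [Algebra k R] [Algebra k S] [Algebra k T]
    (φ : R →ₐ[k] S) (ψ : S →ₐ[k] T) (g : GL N R) : mp ψ (mp φ g) = mp (ψ.comp φ) g := by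
  apply co_injective
  funext ij
  rfl

theorem mp_ev {R S : Type*} [CommRing R] [CommRing S] [Algebra k R] [Algebra k S] (φ : R →ₐ[k] S) (f : R)
    (X : GL N (Polynomial k)) : mp φ (ev f X) = ev (φ f) X := by
  unfold ev
  rw [mp_mp]
  congr 2
  apply Polynomial.algHom_ext
  simp

theorem mp_id {R : Type*} [CommRing R] [Algebra k R] (g : GL N R) : mp (AlgHom.id k R) g = g := by
  apply co_injective
  rfl

variable (X : ι → GL N (Polynomial k))

/-- The group generated by the values of the families `X i`. -/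
noncomputable def Gam (R : Type*) [CommRing R] [Algebra k R] : Subgroup (GL N R) :=
  Subgroup.closure {g | ∃ i f, g = ev f (X i)}

variable {X}

theorem ev_mem {R : Type*} [CommRing R] [Algebra k R] (i : ι) (f : R) : ev f (X i) ∈ Gam X R :=
  Subgroup.subset_closure ⟨i, f, rfl⟩

theorem mp_mem {R S : Type*} [CommRing R] [CommRing S] [Algebra k R] [Algebra k S] (φ : R →ₐ[k] S) {g : GL N R}
    (hg : g ∈ Gam X R) : mp φ g ∈ Gam X S := by
  induction hg using Subgroup.closure_induction with
  | mem g hg =>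
    obtain ⟨i, f, rfl⟩ := hg
    rw [mp_ev]
    exact ev_mem i _
  | one => rw [map_one]; exact one_mem _
  | mul g h _ _ hg hh => rw [map_mul]; exact mul_mem hg hh
  | inv g _ hg => rw [map_inv]; exact inv_mem hg

theorem ev_mem_of {R : Type*} [CommRing R] [Algebra k R] {Y : GL N (Polynomial k)} (hY : Y ∈ Gam X (Polynomial k))
    (f : R) : ev f Y ∈ Gam X R := mp_mem _ hY

/-- Every element of `Gam X k` is joined with `1` by a polynomial path. -/
theorem exists_path (h0 : ∀ i, ev (0 : k) (X i) = 1) {g : GL N k} (hg : g ∈ Gam X k) :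
    ∃ δ ∈ Gam X (Polynomial k), ev (0 : k) δ = 1 ∧ ev (1 : k) δ = g := by
  induction hg using Subgroup.closure_induction with
  | mem g hg =>
    obtain ⟨i, a, rfl⟩ := hg
    refine ⟨ev (Polynomial.C a * Polynomial.X) (X i), ev_mem i _, ?_, ?_⟩
    · have h1 := mp_ev (Polynomial.aeval (0 : k)) (Polynomial.C a * Polynomial.X) (X i)
      rw [show Polynomial.aeval (0 : k) (Polynomial.C a * Polynomial.X) = 0 by simp, h0] at h1
      exact h1
    · have h1 := mp_ev (Polynomial.aeval (1 : k)) (Polynomial.C a * Polynomial.X) (X i)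
      rw [show Polynomial.aeval (1 : k) (Polynomial.C a * Polynomial.X) = a by simp] at h1
      exact h1
  | one => exact ⟨1, one_mem _, map_one _, map_one _⟩
  | mul g h _ _ hg hh =>
    obtain ⟨δ, hδ, h1, h2⟩ := hg
    obtain ⟨δ', hδ', h1', h2'⟩ := hh
    exact ⟨δ * δ', mul_mem hδ hδ', by rw [map_mul, h1, h1', one_mul], by rw [map_mul, h2, h2']⟩
  | inv g _ hg =>
    obtain ⟨δ, hδ, h1, h2⟩ := hg
    exact ⟨δ⁻¹, inv_mem hδ, by rw [map_inv, h1, inv_one], by rw [map_inv, h2]⟩

theorem van_mp_le {R S : Type*} [CommRing R] [CommRing S] [Algebra k R] [Algebra k S] (φ : R →ₐ[k] S) (g : GL N R) :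
    van k (co g) ≤ van k (co (mp φ g)) := by
  intro P hP
  rw [mem_van] at hP ⊢
  have h1 : aeval (co (mp φ g)) P = φ (aeval (co g) P) := by
    rw [← AlgHom.comp_apply]
    congr 1
    apply MvPolynomial.algHom_ext
    intro ij
    simp [co_mp]
  rw [h1, hP, map_zero]

/-- There is a family of maximal rank. -/
theorem exists_max : ∃ (τ : Type) (_ : Finite τ) (γ : GL N (MvPolynomial τ k)), γ ∈ Gam X (MvPolynomial τ k) ∧
    ∀ (τ' : Type) [Finite τ'] (γ' : GL N (MvPolynomial τ' k)), γ' ∈ Gam X (MvPolynomial τ' k) →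
      rk k (co γ') ≤ rk k (co γ) := by
  by_contra hcon
  push Not at hcon
  have key : ∀ n : ℕ, ∃ (τ : Type) (_ : Finite τ) (γ : GL N (MvPolynomial τ k)), γ ∈ Gam X (MvPolynomial τ k) ∧
      (n : ℕ∞) ≤ rk k (co γ) := by
    intro n
    induction n with
    | zero => exact ⟨Empty, inferInstance, 1, one_mem _, by simp⟩
    | succ n ih =>
      obtain ⟨τ, hτ, γ, hγ, hn⟩ := ih
      obtain ⟨τ', hτ', γ', hγ', hlt⟩ := hcon τ hτ γ hγ
      refine ⟨τ', hτ', γ', hγ', ?_⟩
      rw [Nat.cast_succ]
      exact Order.add_one_le_of_lt (lt_of_le_of_lt hn hlt)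
  obtain ⟨τ, hτ, γ, hγ, hn⟩ := key (Nat.card (N × N) + 1)
  have h1 := hn.trans (rk_le_card (k := k) (co γ))
  rw [Nat.cast_le] at h1
  omega

/-- A dense family: every polynomial relation between its coordinates holds on all of `Gam X k`. -/
theorem exists_dense (h0 : ∀ i, ev (0 : k) (X i) = 1) :
    ∃ (τ : Type) (_ : Finite τ) (γ : GL N (MvPolynomial τ k)), γ ∈ Gam X (MvPolynomial τ k) ∧
      (∀ g ∈ Gam X k, van k (co γ) ≤ van k (co g)) := by
  obtain ⟨τ, hτ, γ, hγ, hmax⟩ := exists_max (X := X)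
  refine ⟨τ, hτ, γ, hγ, ?_⟩
  intro g hg
  let e0 : MvPolynomial τ k →ₐ[k] k := aeval fun _ => 0
  have hh : mp e0 γ ∈ Gam X k := mp_mem e0 hγ
  obtain ⟨δ, hδ, hδ0, hδ1⟩ := exists_path h0 (mul_mem (inv_mem hh) hg)
  let i1 : MvPolynomial τ k →ₐ[k] MvPolynomial (Option τ) k := rename some
  let i2 : Polynomial k →ₐ[k] MvPolynomial (Option τ) k := Polynomial.aeval (MvPolynomial.X none)
  let γ' := mp i1 γ * mp i2 δ
  have hγ' : γ' ∈ Gam X (MvPolynomial (Option τ) k) := mul_mem (mp_mem i1 hγ) (mp_mem i2 hδ)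
  let p0 : MvPolynomial (Option τ) k →ₐ[k] MvPolynomial τ k := aeval fun i => i.elim 0 MvPolynomial.X
  have hp0 : mp p0 γ' = γ := by
    rw [map_mul, mp_mp, mp_mp]
    have h1 : p0.comp i1 = AlgHom.id k _ := by
      apply MvPolynomial.algHom_ext
      intro i
      simp [p0, i1]
    have h2 : p0.comp i2 = (Algebra.ofId k (MvPolynomial τ k)).comp (Polynomial.aeval (0 : k)) := by
      apply Polynomial.algHom_ext
      simp [p0, i2]
    rw [h1, h2, mp_id, ← mp_mp]
    have h3 : mp (Polynomial.aeval (0 : k)) δ = 1 := hδ0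
    rw [h3, map_one, mul_one]
  let p1 : MvPolynomial (Option τ) k →ₐ[k] k := aeval fun i => i.elim 1 fun _ => 0
  have hp1 : mp p1 γ' = g := by
    rw [map_mul, mp_mp, mp_mp]
    have h1 : p1.comp i1 = e0 := by
      apply MvPolynomial.algHom_ext
      intro i
      simp [p1, i1, e0]
    have h2 : p1.comp i2 = Polynomial.aeval (1 : k) := by
      apply Polynomial.algHom_ext
      simp [p1, i2]
    rw [h1, h2]
    have h3 : mp (Polynomial.aeval (1 : k)) δ = (mp e0 γ)⁻¹ * g := hδ1
    rw [h3, mul_inv_cancel_left]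
  have h2 : van k (co γ') ≤ van k (co γ) := by
    have := van_mp_le p0 γ'
    rwa [hp0] at this
  have h3 : van k (co γ') = van k (co γ) := van_eq_of_rk_le h2 (hmax _ γ' hγ')
  rw [← h3]
  have := van_mp_le p1 γ'
  rwa [hp1] at this

end Cfsg.Agent.LangThm

end

-- merged: Cfsg.Agent.LangThm.Main
section

/-!
# The Lang–Steinberg theorem

`k` algebraically closed of characteristic `r`, `Gam X k ≤ GL N k` generated by the values `X i (a)` of finitely or
infinitely many invertible polynomial matrices with `X i (0) = 1`, `F` an endomorphism of `Gam X k` with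
`F (X i (a)) = Y i (a)` for polynomial families `Y i ∈ Gam X k[T]`, some power of which is (conjugate by a matrix `J` to)
the entrywise `r^e`-power map, `e > 0`. Then every `a ∈ Gam X k` is of the form `z⁻¹ * F z`.
-/

set_option autoImplicit false

namespace Cfsg.Agent.LangThm

open MvPolynomial

universe u

variable {k : Type u} [Field k] {N : Type} [Fintype N] [DecidableEq N] {ι : Type*}
  {X : ι → GL N (Polynomial k)} {τ : Type}

/-- Specialisation of families. -/
noncomputable def spec (X : ι → GL N (Polynomial k)) (s : τ → k) : ↥(Gam X (MvPolynomial τ k)) →* ↥(Gam X k) :=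
  ((mp (aeval s : MvPolynomial τ k →ₐ[k] k)).comp (Gam X (MvPolynomial τ k)).subtype).codRestrict _
    fun g => mp_mem _ g.2

theorem coe_spec (s : τ → k) (g : ↥(Gam X (MvPolynomial τ k))) :
    (spec X s g : GL N k) = mp (aeval s : MvPolynomial τ k →ₐ[k] k) (g : GL N (MvPolynomial τ k)) := rfl

theorem co_spec (s : τ → k) (g : ↥(Gam X (MvPolynomial τ k))) (ij : N × N) :
    co (spec X s g : GL N k) ij = aeval s (co (g : GL N (MvPolynomial τ k)) ij) := rfl

/-- Constant families. -/
noncomputable def cst (X : ι → GL N (Polynomial k)) (τ : Type) (a : ↥(Gam X k)) : ↥(Gam X (MvPolynomial τ k)) :=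
  ⟨mp (Algebra.ofId k (MvPolynomial τ k)) a, mp_mem _ a.2⟩

theorem spec_cst (s : τ → k) (a : ↥(Gam X k)) : spec X s (cst X τ a) = a := by
  apply Subtype.ext
  show mp (aeval s : MvPolynomial τ k →ₐ[k] k) (mp (Algebra.ofId k (MvPolynomial τ k)) (a : GL N k)) = a
  rw [mp_mp]
  have : (aeval s : MvPolynomial τ k →ₐ[k] k).comp (Algebra.ofId k (MvPolynomial τ k)) = AlgHom.id k k := by
    apply AlgHom.ext
    intro x
    exact (aeval s : MvPolynomial τ k →ₐ[k] k).commutes x
  rw [this, mp_id]

theorem family_ext [Infinite k] {g h : GL N (MvPolynomial τ k)}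
    (H : ∀ s : τ → k, mp (aeval s : MvPolynomial τ k →ₐ[k] k) g = mp (aeval s : MvPolynomial τ k →ₐ[k] k) h) :
    g = h := by
  apply co_injective
  funext ij
  apply MvPolynomial.funext
  intro s
  have := congrFun (congrArg co (H s)) ij
  exact this

theorem van_le_of_forall [Infinite k] {I : Ideal (MvPolynomial (N × N) k)} (hI : ∀ g ∈ Gam X k, I ≤ van k (co g))
    (l : ↥(Gam X (MvPolynomial τ k))) : I ≤ van k (co (l : GL N (MvPolynomial τ k))) := by
  intro P hP
  rw [mem_van]
  apply MvPolynomial.funext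
  intro s
  rw [map_zero]
  have h1 := hI _ (spec X s l).2 hP
  rw [mem_van] at h1
  rw [← h1]
  show (aeval s : MvPolynomial τ k →ₐ[k] k) (aeval (co (l : GL N (MvPolynomial τ k))) P) = _
  rw [← AlgHom.comp_apply]
  congr 1
  apply MvPolynomial.algHom_ext
  intro ij
  simp [co_spec]

/-- The image of a family under `F`. -/
theorem exists_image {F : Monoid.End ↥(Gam X k)} {Y : ι → GL N (Polynomial k)}
    (hY : ∀ i, Y i ∈ Gam X (Polynomial k)) (hF : ∀ i (a : k), (F ⟨ev a (X i), ev_mem i a⟩ : GL N k) = ev a (Y i))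
    (g : ↥(Gam X (MvPolynomial τ k))) : ∃ h : ↥(Gam X (MvPolynomial τ k)), ∀ s, spec X s h = F (spec X s g) := by
  obtain ⟨g, hg⟩ := g
  induction hg using Subgroup.closure_induction with
  | mem g hg =>
    obtain ⟨i, f, rfl⟩ := hg
    refine ⟨⟨ev f (Y i), ev_mem_of (hY i) f⟩, fun s => ?_⟩
    apply Subtype.ext
    have h1 : spec X s ⟨ev f (X i), Subgroup.subset_closure ⟨i, f, rfl⟩⟩ = ⟨ev (aeval s f) (X i), ev_mem i _⟩ :=
      Subtype.ext (mp_ev (aeval s : MvPolynomial τ k →ₐ[k] k) f (X i))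
    rw [h1, hF]
    exact mp_ev (aeval s : MvPolynomial τ k →ₐ[k] k) f (Y i)
  | one => exact ⟨1, fun s => by rw [map_one, show (⟨1, _⟩ : ↥(Gam X (MvPolynomial τ k))) = 1 from rfl, map_one, map_one]⟩
  | mul g h hg' hh' hg hh =>
    obtain ⟨g', hg⟩ := hg
    obtain ⟨h', hh⟩ := hh
    refine ⟨g' * h', fun s => ?_⟩
    rw [map_mul, hg, hh, ← map_mul, ← map_mul]
    rfl
  | inv g hg' hg =>
    obtain ⟨g', hg⟩ := hg
    refine ⟨g'⁻¹, fun s => ?_⟩
    rw [map_inv, hg, ← map_inv, ← map_inv]
    rfl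

theorem exists_image_pow {F : Monoid.End ↥(Gam X k)} {Y : ι → GL N (Polynomial k)}
    (hY : ∀ i, Y i ∈ Gam X (Polynomial k)) (hF : ∀ i (a : k), (F ⟨ev a (X i), ev_mem i a⟩ : GL N k) = ev a (Y i))
    (g : ↥(Gam X (MvPolynomial τ k))) (j : ℕ) :
    ∃ h : ↥(Gam X (MvPolynomial τ k)), ∀ s, spec X s h = (F ^ j) (spec X s g) := by
  induction j with
  | zero => exact ⟨g, fun s => rfl⟩
  | succ j ih =>
    obtain ⟨h, hh⟩ := ih
    obtain ⟨h', hh'⟩ := exists_image hY hF h
    exact ⟨h', fun s => by rw [hh', hh, pow_succ']; rfl⟩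

theorem isAlgebraic_sum {P S κ : Type*} [CommRing P] [IsDomain P] [CommRing S] [IsDomain S] [Algebra P S]
    (t : Finset κ) (f : κ → S) (h : ∀ i ∈ t, IsAlgebraic P (f i)) : IsAlgebraic P (∑ i ∈ t, f i) := by
  classical
  induction t using Finset.induction_on with
  | empty => rw [Finset.sum_empty]; exact isAlgebraic_zero
  | insert a t ha ih =>
    rw [Finset.sum_insert ha]
    exact (h a (Finset.mem_insert_self _ _)).add (ih fun i hi => h i (Finset.mem_insert_of_mem hi))

theorem isAlgebraic_co_mul {P S : Type*} [CommRing P] [IsDomain P] [CommRing S] [IsDomain S] [Algebra P S]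
    {g h : GL N S} (hg : ∀ ij, IsAlgebraic P (co g ij)) (hh : ∀ ij, IsAlgebraic P (co h ij)) (ij : N × N) :
    IsAlgebraic P (co (g * h) ij) := by
  have h1 : co (g * h) ij = ∑ l, co g (ij.1, l) * co h (l, ij.2) := by
    show ((g * h : GL N S) : Matrix N N S) ij.1 ij.2 = _
    rw [Units.val_mul, Matrix.mul_apply]
    rfl
  rw [h1]
  exact isAlgebraic_sum _ _ fun l _ => (hg _).mul (hh _)

/-- The products `λ F(λ) ⋯ F^(j-1)(λ)` of a family `λ = γ⁻¹ a F(γ)`: formula and algebraicity of the entries. -/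
theorem exists_prod [IsAlgClosed k] [Finite τ] {F : Monoid.End ↥(Gam X k)} {Y : ι → GL N (Polynomial k)}
    (hY : ∀ i, Y i ∈ Gam X (Polynomial k)) (hF : ∀ i (a : k), (F ⟨ev a (X i), ev_mem i a⟩ : GL N k) = ev a (Y i))
    (a : ↥(Gam X k)) (γ l : ↥(Gam X (MvPolynomial τ k))) (hl : ∀ s, spec X s l = (spec X s γ)⁻¹ * a * F (spec X s γ))
    (j : ℕ) : ∃ (A : ↥(Gam X k)) (π : ↥(Gam X (MvPolynomial τ k))),
      (∀ s, spec X s π = (spec X s γ)⁻¹ * A * (F ^ j) (spec X s γ)) ∧
      ∀ ij, IsAlgebraic (Algebra.adjoin k (Set.range (co (l : GL N (MvPolynomial τ k)))))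
        (co (π : GL N (MvPolynomial τ k)) ij) := by
  induction j with
  | zero =>
    refine ⟨1, 1, fun s => ?_, fun ij => ?_⟩
    · rw [map_one, mul_one]
      exact (inv_mul_cancel _).symm
    · have h1 : co ((1 : ↥(Gam X (MvPolynomial τ k))) : GL N (MvPolynomial τ k)) ij =
          algebraMap (Algebra.adjoin k (Set.range (co (l : GL N (MvPolynomial τ k))))) (MvPolynomial τ k)
            (if ij.1 = ij.2 then 1 else 0) := by
        show (1 : Matrix N N (MvPolynomial τ k)) ij.1 ij.2 = _
        rw [Matrix.one_apply]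
        split_ifs
        · rw [map_one]
        · rw [map_zero]
      rw [h1]
      exact isAlgebraic_algebraMap _
  | succ j ih =>
    obtain ⟨A, π, hπ, halg⟩ := ih
    obtain ⟨μ, hμ⟩ := exists_image_pow hY hF l j
    refine ⟨A * (F ^ j) a, π * μ, fun s => ?_, ?_⟩
    · have h1 : (F ^ (j + 1)) (spec X s γ) = (F ^ j) (F (spec X s γ)) := by rw [pow_succ]; rfl
      rw [map_mul, hπ, hμ, hl, map_mul, map_mul, map_inv, h1]
      group
    · refine isAlgebraic_co_mul halg fun ij => ?_
      apply isAlgebraic_of_determined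
      intro s s' hss
      have h1 : spec X s l = spec X s' l := by
        apply Subtype.ext
        apply co_injective
        funext ij
        exact hss ij
      have h2 := hμ s
      rw [h1, ← hμ s'] at h2
      exact congrFun (congrArg co (congrArg Subtype.val h2)) ij

/-- The entrywise `r ^ e`-th power map. -/
noncomputable def frob (r e : ℕ) [Fact r.Prime] {R : Type*} [CommRing R] [CharP R r] : GL N R →* GL N R :=
  Matrix.GeneralLinearGroup.map (iterateFrobenius R r e)

theorem co_frob (r e : ℕ) [Fact r.Prime] {R : Type*} [CommRing R] [CharP R r] (g : GL N R) (ij : N × N) :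
    co (frob r e g) ij = co g ij ^ r ^ e := iterateFrobenius_def _ _ _

theorem mp_frob (r e : ℕ) [Fact r.Prime] {R S : Type*} [CommRing R] [CommRing S] [Algebra k R] [Algebra k S]
    [CharP R r] [CharP S r] (φ : R →ₐ[k] S) (g : GL N R) : mp φ (frob r e g) = frob r e (mp φ g) := by
  apply co_injective
  funext ij
  rw [co_mp, co_frob, co_frob, co_mp, map_pow]

theorem rk_le [IsAlgClosed k] [Finite τ] (r e m : ℕ) [Fact r.Prime] [CharP k r] (he : 0 < e)
    {F : Monoid.End ↥(Gam X k)} {Y : ι → GL N (Polynomial k)}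
    (hY : ∀ i, Y i ∈ Gam X (Polynomial k)) (hF : ∀ i (a : k), (F ⟨ev a (X i), ev_mem i a⟩ : GL N k) = ev a (Y i))
    (J : GL N k) (hJ : ∀ g : ↥(Gam X k), (((F ^ m) g : ↥(Gam X k)) : GL N k) = J * frob r e (g : GL N k) * J⁻¹)
    (a : ↥(Gam X k)) (γ l : ↥(Gam X (MvPolynomial τ k)))
    (hl : ∀ s, spec X s l = (spec X s γ)⁻¹ * a * F (spec X s γ)) :
    rk k (co (γ : GL N (MvPolynomial τ k))) ≤ rk k (co (l : GL N (MvPolynomial τ k))) := by
  obtain ⟨A, π, hπ, halg⟩ := exists_prod hY hF a γ l hl m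
  refine le_trans ?_ (rk_le_of_algebraic halg)
  let c : GL N k →* GL N (MvPolynomial τ k) := mp (Algebra.ofId k (MvPolynomial τ k))
  have hc : ∀ (s : τ → k) (g : GL N k), mp (aeval s : MvPolynomial τ k →ₐ[k] k) (c g) = g := by
    intro s g
    show mp (aeval s : MvPolynomial τ k →ₐ[k] k) (mp (Algebra.ofId k (MvPolynomial τ k)) g) = g
    rw [mp_mp]
    have : (aeval s : MvPolynomial τ k →ₐ[k] k).comp (Algebra.ofId k (MvPolynomial τ k)) = AlgHom.id k k :=
      AlgHom.ext fun x => (aeval s : MvPolynomial τ k →ₐ[k] k).commutes x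
    rw [this, mp_id]
  have hid : frob r e (γ : GL N (MvPolynomial τ k)) = c (J⁻¹ * (A : GL N k)⁻¹) * γ * (π * c J) := by
    apply family_ext
    intro s
    have h1 := congrArg Subtype.val (hπ s)
    simp only [Subgroup.coe_mul, InvMemClass.coe_inv, hJ, coe_spec] at h1
    have e1 : ∀ x y : GL N (MvPolynomial τ k), mp (aeval s : MvPolynomial τ k →ₐ[k] k) (x * y) =
        mp (aeval s : MvPolynomial τ k →ₐ[k] k) x * mp (aeval s : MvPolynomial τ k →ₐ[k] k) y := map_mul _
    rw [mp_frob, e1, e1 (c (J⁻¹ * (A : GL N k)⁻¹)), e1 (π : GL N (MvPolynomial τ k)), hc, hc, h1]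
    group
  have hint : ∀ ij, IsIntegral (Algebra.adjoin k (Set.range (co (π : GL N (MvPolynomial τ k)))))
      (co (γ : GL N (MvPolynomial τ k)) ij) := by
    refine isIntegral_of_pow_mem (co (γ : GL N (MvPolynomial τ k))) (q := r ^ e) ?_ ?_
    · exact (Fact.out : r.Prime).two_le.trans (Nat.le_self_pow he.ne' r)
    · intro ij
      have h1 : ∀ g h : GL N (MvPolynomial τ k), ∀ ij : N × N, co (g * h) ij = ∑ l, co g (ij.1, l) * co h (l, ij.2) := by
        intro g h ij
        show ((g * h : GL N (MvPolynomial τ k)) : Matrix N N (MvPolynomial τ k)) ij.1 ij.2 = _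
        rw [Units.val_mul, Matrix.mul_apply]
        rfl
      have hcc : ∀ (g : GL N k) (ij : N × N), co (c g) ij ∈
          Algebra.adjoin k (Set.range (co (π : GL N (MvPolynomial τ k)))) := fun g ij =>
        (Algebra.adjoin k (Set.range (co (π : GL N (MvPolynomial τ k))))).algebraMap_mem (co g ij)
      have hπc : ∀ ij : N × N, co ((π : GL N (MvPolynomial τ k)) * c J) ij ∈
          Algebra.adjoin k (Set.range (co (π : GL N (MvPolynomial τ k)))) := by
        intro ij
        rw [h1]
        exact sum_mem fun l _ => mul_mem (Algebra.subset_adjoin ⟨_, rfl⟩) (hcc _ _)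
      rw [← co_frob, hid, h1]
      refine Submodule.sum_mem _ fun l _ => ?_
      rw [h1, Finset.sum_mul]
      refine Submodule.sum_mem _ fun l' _ => ?_
      have h2 : co (c (J⁻¹ * (A : GL N k)⁻¹)) (ij.1, l') * co (γ : GL N (MvPolynomial τ k)) (l', l) *
          co ((π : GL N (MvPolynomial τ k)) * c J) (l, ij.2) =
          ((⟨co (c (J⁻¹ * (A : GL N k)⁻¹)) (ij.1, l') * co ((π : GL N (MvPolynomial τ k)) * c J) (l, ij.2),
            mul_mem (hcc _ _) (hπc _)⟩ : Algebra.adjoin k (Set.range (co (π : GL N (MvPolynomial τ k))))) •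
            co (γ : GL N (MvPolynomial τ k)) (l', l)) := by
        rw [Subalgebra.smul_def, smul_eq_mul]
        ring
      rw [h2]
      exact Submodule.smul_mem _ _ (Submodule.subset_span ⟨_, rfl⟩)
  exact rk_le_of_algebraic fun ij => (hint ij).isAlgebraic

/-- **The Lang–Steinberg theorem.** -/
theorem lang [IsAlgClosed k] (r e m : ℕ) [Fact r.Prime] [CharP k r] (he : 0 < e)
    (hX : ∀ i, ev (0 : k) (X i) = 1)
    (F : Monoid.End ↥(Gam X k)) {Y : ι → GL N (Polynomial k)}
    (hY : ∀ i, Y i ∈ Gam X (Polynomial k)) (hF : ∀ i (a : k), (F ⟨ev a (X i), ev_mem i a⟩ : GL N k) = ev a (Y i))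
    (J : GL N k) (hJ : ∀ g : ↥(Gam X k), (((F ^ m) g : ↥(Gam X k)) : GL N k) = J * frob r e (g : GL N k) * J⁻¹)
    (a : ↥(Gam X k)) : ∃ z : ↥(Gam X k), a = z⁻¹ * F z := by
  obtain ⟨τ, hτ, γ, hγ, hdense⟩ := exists_dense hX
  obtain ⟨φ, hφ⟩ := exists_image hY hF (⟨γ, hγ⟩ : ↥(Gam X (MvPolynomial τ k)))
  have key : ∀ b : ↥(Gam X k), ∃ l : ↥(Gam X (MvPolynomial τ k)),
      (∀ s, spec X s l = (spec X s ⟨γ, hγ⟩)⁻¹ * b * F (spec X s ⟨γ, hγ⟩)) ∧
      van k (co γ) = van k (co (l : GL N (MvPolynomial τ k))) := by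
    intro b
    refine ⟨⟨γ, hγ⟩⁻¹ * cst X τ b * φ, ?_, ?_⟩
    · intro s
      rw [map_mul, map_mul, map_inv, spec_cst, hφ]
    · refine van_eq_of_rk_le (van_le_of_forall hdense _) ?_
      refine rk_le r e m he hY hF J hJ b ⟨γ, hγ⟩ _ ?_
      intro s
      rw [map_mul, map_mul, map_inv, spec_cst, hφ]
  obtain ⟨l1, hl1, hv1⟩ := key a
  obtain ⟨l2, hl2, hv2⟩ := key 1
  obtain ⟨H1, hH1, ho1⟩ := exists_open (co (l1 : GL N (MvPolynomial τ k)))
  obtain ⟨H2, hH2, ho2⟩ := exists_open (co (l2 : GL N (MvPolynomial τ k)))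
  rw [← hv1] at hH1 ho1
  rw [← hv2] at hH2 ho2
  have hH : H1 * H2 ∉ van k (co γ) := fun h => ((van_prime (co γ)).mem_or_mem h).elim hH1 hH2
  obtain ⟨s, hs⟩ : ∃ s : τ → k, aeval s (aeval (co γ) (H1 * H2)) ≠ 0 := by
    by_contra hall
    push Not at hall
    exact hH (mem_van.mpr (MvPolynomial.funext fun s => by rw [map_zero]; exact hall s))
  have hval : ∀ P : MvPolynomial (N × N) k, aeval (co (spec X s ⟨γ, hγ⟩ : GL N k)) P = aeval s (aeval (co γ) P) := by
    intro P
    rw [← AlgHom.comp_apply]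
    congr 1
    apply MvPolynomial.algHom_ext
    intro ij
    simp [co_spec]
  rw [← hval, map_mul] at hs
  obtain ⟨s1, hs1⟩ := ho1 _ (hdense _ (spec X s ⟨γ, hγ⟩).2) (left_ne_zero_of_mul hs)
  obtain ⟨s2, hs2⟩ := ho2 _ (hdense _ (spec X s ⟨γ, hγ⟩).2) (right_ne_zero_of_mul hs)
  have e1 : spec X s1 l1 = spec X s ⟨γ, hγ⟩ := Subtype.ext (co_injective (funext hs1))
  have e2 : spec X s2 l2 = spec X s ⟨γ, hγ⟩ := Subtype.ext (co_injective (funext hs2))
  have e3 := (hl1 s1).symm.trans (e1.trans (e2.symm.trans (hl2 s2)))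
  refine ⟨spec X s2 ⟨γ, hγ⟩ * (spec X s1 ⟨γ, hγ⟩)⁻¹, ?_⟩
  rw [mul_one] at e3
  rw [map_mul, map_inv, mul_inv_rev, inv_inv]
  calc a = spec X s1 ⟨γ, hγ⟩ * ((spec X s1 ⟨γ, hγ⟩)⁻¹ * a * F (spec X s1 ⟨γ, hγ⟩)) * (F (spec X s1 ⟨γ, hγ⟩))⁻¹ := by
        group
    _ = _ := by
        rw [e3]
        group

end Cfsg.Agent.LangThm

end

-- merged: Cfsg.Agent.LangThm.Chev
section

/-!
# The Lang–Steinberg theorem for the Chevalley groups of the tables

`k` algebraically closed of characteristic `r`, `S` a set of roots, `MM S` the group generated by the root elements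
`x_a(t)`, `a ∈ S`, `t ∈ k`; `J` a matrix with `J X_a J⁻¹ ≤ X_b` (`b ∈ S` depending on `a`). Then every
`m ∈ MM S` is of the form `y⁻¹ * (J * frob y * J⁻¹)`, `y ∈ MM S`, where `frob` is the entrywise `r^e`-power, `e > 0`.
-/

set_option autoImplicit false

namespace Cfsg.Agent.LangThm

open Cfsg.Lie Cfsg.Agent.ChevalleyStructure.Elts Cfsg.Agent.ChevalleyStructure.Ring

universe u

variable {k : Type u} [Field k] {D : ChevalleyDatum} (hD : InList D)

include hD in
theorem xR_mul_poly (r : ℕ) (f g : Polynomial k) :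
    xR D (Polynomial k) r f * xR D (Polynomial k) r g = xR D (Polynomial k) r (f + g) := by
  apply Matrix.map_injective (IsFractionRing.injective (Polynomial k) (FractionRing (Polynomial k)))
  show ((xR D (Polynomial k) r f * xR D (Polynomial k) r g).map
    (algebraMap (Polynomial k) (FractionRing (Polynomial k)))) = (xR D (Polynomial k) r (f + g)).map
      (algebraMap (Polynomial k) (FractionRing (Polynomial k)))
  rw [Matrix.map_mul, xR_map, xR_map, xR_map, map_add]
  exact x_add hD r _ _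

/-- The root element `x_r(f)` over `k[T]`. -/
noncomputable def xP (r : ℕ) (f : Polynomial k) : GL D.Idx (Polynomial k) where
  val := xR D (Polynomial k) r f
  inv := xR D (Polynomial k) r (-f)
  val_inv := by rw [xR_mul_poly hD, add_neg_cancel, xR_zero]
  inv_val := by rw [xR_mul_poly hD, neg_add_cancel, xR_zero]

theorem ev_xP (r : ℕ) (a : k) (f : Polynomial k) : ev a (xP hD r f) = xG hD r (f.eval a) := by
  apply Units.ext
  show (xR D (Polynomial k) r f).map (Polynomial.aeval a : Polynomial k →ₐ[k] k).toRingHom = D.x k r (f.eval a)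
  rw [xR_map, x_eq_xR]
  congr 1

/-- The group generated by the root elements with roots in `S`. -/
def MM (S : Set ℕ) (k : Type u) [Field k] : Subgroup (GL D.Idx k) :=
  Subgroup.closure {g | ∃ r ∈ S, ∃ t : k, g = xG hD r t}

theorem gam_eq (S : Set ℕ) : Gam (fun r : S => xP hD (r : ℕ) (Polynomial.X : Polynomial k)) k = MM hD S k := by
  unfold Gam MM
  congr 1
  ext g
  constructor
  · rintro ⟨r, t, rfl⟩
    exact ⟨r, r.2, t, by rw [ev_xP, Polynomial.eval_X]⟩
  · rintro ⟨r, hr, t, rfl⟩
    exact ⟨⟨r, hr⟩, t, by rw [ev_xP, Polynomial.eval_X]⟩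

theorem frob_xG (p e : ℕ) [Fact p.Prime] [CharP k p] (r : ℕ) (t : k) : frob p e (xG hD r t) = xG hD r (t ^ p ^ e) := by
  apply Units.ext
  show (D.x k r t).map (iterateFrobenius k p e) = D.x k r (t ^ p ^ e)
  rw [x_eq_xR, xR_map, iterateFrobenius_def]
  rfl

/-- **Lang–Steinberg for groups generated by root elements.** -/
theorem lang_chev [IsAlgClosed k] (p e : ℕ) [Fact p.Prime] [CharP k p] (he : 0 < e) (S : Set ℕ) (J : GL D.Idx k)
    (hJ : ∀ r ∈ S, ∃ s ∈ S, ∃ P : Polynomial k, ∀ t : k, J * xG hD r t * J⁻¹ = xG hD s (P.eval t))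
    {m : GL D.Idx k} (hm : m ∈ MM hD S k) : ∃ y ∈ MM hD S k, m = y⁻¹ * (J * frob p e y * J⁻¹) := by
  classical
  let X : S → GL D.Idx (Polynomial k) := fun r => xP hD (r : ℕ) Polynomial.X
  have hmem : ∀ g ∈ Gam X k, J * frob p e g * J⁻¹ ∈ Gam X k := by
    intro g hg
    induction hg using Subgroup.closure_induction with
    | mem g hg =>
      obtain ⟨r, t, rfl⟩ := hg
      obtain ⟨s, hs, c, hc⟩ := hJ r r.2
      rw [ev_xP, Polynomial.eval_X, frob_xG, hc]
      have := ev_mem (X := X) (R := k) ⟨s, hs⟩ (c.eval (t ^ p ^ e))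
      rwa [ev_xP, Polynomial.eval_X] at this
    | one => rw [map_one, mul_one, mul_inv_cancel]; exact one_mem _
    | mul g h _ _ hg hh =>
      rw [map_mul, show J * (frob p e g * frob p e h) * J⁻¹ = (J * frob p e g * J⁻¹) * (J * frob p e h * J⁻¹) by group]
      exact mul_mem hg hh
    | inv g _ hg =>
      rw [map_inv, show J * (frob p e g)⁻¹ * J⁻¹ = (J * frob p e g * J⁻¹)⁻¹ by group]
      exact inv_mem hg
  let F : Monoid.End ↥(Gam X k) :=
    { toFun := fun g => ⟨J * frob p e g * J⁻¹, hmem g g.2⟩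
      map_one' := Subtype.ext (by
        show J * frob p e 1 * J⁻¹ = 1
        rw [map_one, mul_one, mul_inv_cancel])
      map_mul' := fun g h => Subtype.ext (by
        show J * frob p e ((g : GL D.Idx k) * (h : GL D.Idx k)) * J⁻¹ =
          (J * frob p e g * J⁻¹) * (J * frob p e h * J⁻¹)
        rw [map_mul]
        group) }
  have hs : ∀ r : S, ∃ s : S, ∃ P : Polynomial k, ∀ t : k, J * xG hD r t * J⁻¹ = xG hD s (P.eval t) := by
    intro r
    obtain ⟨s, hs, c, hc⟩ := hJ r r.2
    exact ⟨⟨s, hs⟩, c, hc⟩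
  choose ρ c hc using hs
  have hm' : m ∈ Gam X k := by rw [gam_eq]; exact hm
  have hX0 : ∀ i, ev (0 : k) (X i) = 1 := by
    intro i
    rw [ev_xP, Polynomial.eval_X, xG_zero]
  have hF : ∀ (r : S) (a : k), (F ⟨ev a (X r), ev_mem r a⟩ : GL D.Idx k) =
      ev a (ev ((c r).comp (Polynomial.X ^ p ^ e)) (X (ρ r)) : GL D.Idx (Polynomial k)) := by
    intro r a
    show J * frob p e (ev a (X r)) * J⁻¹ = _
    rw [ev_xP, Polynomial.eval_X, frob_xG, hc]
    have h1 := mp_ev (Polynomial.aeval a : Polynomial k →ₐ[k] k) ((c r).comp (Polynomial.X ^ p ^ e)) (X (ρ r))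
    have h2 : ev a (ev ((c r).comp (Polynomial.X ^ p ^ e)) (X (ρ r))) =
        ev ((c r).eval (a ^ p ^ e)) (X (ρ r)) := by
      rw [show (c r).eval (a ^ p ^ e) = Polynomial.aeval a ((c r).comp (Polynomial.X ^ p ^ e)) by
        simp [Polynomial.aeval_def, Polynomial.eval_comp]]
      exact h1
    rw [h2, ev_xP, Polynomial.eval_X]
  obtain ⟨z, hz⟩ := lang (X := X) p e 1 he hX0 F
    (Y := fun r => ev ((c r).comp (Polynomial.X ^ p ^ e)) (X (ρ r))) (fun i => ev_mem _ _) hF J
      (fun g => by rw [pow_one]; rfl) ⟨m, hm'⟩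
  refine ⟨z, ?_, congrArg Subtype.val hz⟩
  rw [← gam_eq]
  exact z.2

/-- Some entry of the root elements `x_s(u)` is a non-zero multiple of `u`. -/
theorem exists_entry {s : ℕ} (hs : s < D.nroots) : ∃ (i j : D.Idx) (c : k), c ≠ 0 ∧
    ∀ u : k, (xG hD s u : Matrix D.Idx D.Idx k) i j = c * u := by
  obtain ⟨i, hi⟩ := Cfsg.Agent.ChevalleyStructure.CorootGcd.exists_coroot_ne_zero (F := k) hD hs
  have hg := Cfsg.Agent.ChevalleyStructure.Good.goodAt_of_mem D hD s hs
  refine ⟨Sum.inl i, Sum.inr ⟨D.negIdx.getD s 0, hg.neg_lt⟩, _, hi, fun u => ?_⟩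
  have hne : (⟨D.negIdx.getD s 0, hg.neg_lt⟩ : Fin D.nroots) ≠ ⟨s, hs⟩ := fun h' => hg.neg_ne (congrArg Fin.val h')
  rw [coe_xG, x_of_lt hs]
  show (if (⟨D.negIdx.getD s 0, hg.neg_lt⟩ : Fin D.nroots) = ⟨s, hs⟩ then _ else _) = _
  rw [if_neg hne, if_pos rfl]

/-- The hypothesis of `lang_chev` from inclusions of root groups. -/
theorem exists_poly [Infinite k] (J : GL D.Idx k) {r s : ℕ}
    (h : ∀ t : k, ∃ u : k, J * xG hD r t * J⁻¹ = xG hD s u) :
    ∃ P : Polynomial k, ∀ t : k, J * xG hD r t * J⁻¹ = xG hD s (P.eval t) := by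
  by_cases hs : s < D.nroots
  · obtain ⟨i, j, c, hc, hu⟩ := exists_entry (k := k) hD hs
    let C : GL D.Idx k →* GL D.Idx (Polynomial k) := mp (Algebra.ofId k (Polynomial k))
    refine ⟨Polynomial.C c⁻¹ * co (C J * xP hD r Polynomial.X * C J⁻¹) (i, j), fun t => ?_⟩
    obtain ⟨u, hu'⟩ := h t
    rw [hu']
    congr 1
    have hC : ∀ g : GL D.Idx k, ev t (C g) = g := by
      intro g
      show mp (Polynomial.aeval t) (mp (Algebra.ofId k (Polynomial k)) g) = g
      rw [mp_mp]
      have : (Polynomial.aeval t : Polynomial k →ₐ[k] k).comp (Algebra.ofId k (Polynomial k)) = AlgHom.id k k :=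
        AlgHom.ext fun x => (Polynomial.aeval t : Polynomial k →ₐ[k] k).commutes x
      rw [this, mp_id]
    have h1 : co (J * xG hD r t * J⁻¹) (i, j) =
        (co (C J * xP hD r Polynomial.X * C J⁻¹) (i, j)).eval t := by
      have h2 := co_mp (Polynomial.aeval t : Polynomial k →ₐ[k] k) (C J * xP hD r Polynomial.X * C J⁻¹) (i, j)
      have h3 : mp (Polynomial.aeval t : Polynomial k →ₐ[k] k) (C J * xP hD r Polynomial.X * C J⁻¹) =
          J * xG hD r t * J⁻¹ := by
        show ev t _ = _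
        rw [map_mul, map_mul, hC, hC, ev_xP, Polynomial.eval_X]
      rw [h3] at h2
      exact h2
    rw [hu'] at h1
    rw [Polynomial.eval_mul, Polynomial.eval_C, ← h1, show co (xG hD s u) (i, j) = c * u from hu u,
      inv_mul_cancel_left₀ hc]
  · refine ⟨0, fun t => ?_⟩
    obtain ⟨u, hu'⟩ := h t
    rw [hu', xG_of_not_lt hD hs, xG_of_not_lt hD hs]

/-- **Lang–Steinberg for groups generated by root elements**, weak hypothesis. -/
theorem lang_chev' [IsAlgClosed k] (p e : ℕ) [Fact p.Prime] [CharP k p] (he : 0 < e) (S : Set ℕ) (J : GL D.Idx k)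
    (hJ : ∀ r ∈ S, ∃ s ∈ S, ∀ t : k, ∃ u : k, J * xG hD r t * J⁻¹ = xG hD s u)
    {m : GL D.Idx k} (hm : m ∈ MM hD S k) : ∃ y ∈ MM hD S k, m = y⁻¹ * (J * frob p e y * J⁻¹) := by
  refine lang_chev hD p e he S J (fun r hr => ?_) hm
  obtain ⟨s, hs, h⟩ := hJ r hr
  exact ⟨s, hs, exists_poly hD J h⟩

end Cfsg.Agent.LangThm

end

-- merged: Cfsg.Agent.LangThm.ChevMM
section

/-!
# Lang–Steinberg in the notation of the root group data of `D.group k`

`lang_sup` : `k` algebraically closed of characteristic `p`, `S` a set of roots, `τ` an endomorphism of `D.group k` given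
by `g ↦ J * frob g * J⁻¹` (`frob` the entrywise `p^e`-power, `e > 0`) mapping `X a`, `a ∈ S`, into some `X b`, `b ∈ S`:
every `m ∈ ⟨X a : a ∈ S⟩` is `y⁻¹ * τ y`, `y` in the same group.
`lang_conj` : Lang for `τ` implies Lang for all `conj y * τ`.
-/

set_option autoImplicit false

namespace Cfsg.Agent.LangThm

open CoxeterSystem Cfsg Cfsg.Lie Cfsg.Agent.ChevalleyStructure Cfsg.Agent.ChevalleyStructure.Elts
  Cfsg.Agent.ChevalleyStructure.CoxeterGeom Cfsg.Agent.ChevalleyStructure.CoxeterGeomTypes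
  Cfsg.Agent.ChevalleyStructure.NPerm Cfsg.Agent.Tits.Roots Cfsg.Agent.Tits.Core Cfsg.Agent.Nodes.Reps
  Cfsg.Agent.Nodes.BNOf Cfsg.Agent.Nodes.RGDChev Cfsg.Agent.KFacts.RgdChevCoord

universe u

/-- Lang's theorem for `τ` implies Lang's theorem for `conj y * τ`. -/
theorem lang_conj {G : Type*} [Group G] {τ : G → G} (hτ : ∀ g h, τ (g * h) = τ g * τ h)
    (h : ∀ c : G, ∃ z, c = z⁻¹ * τ z) (y : G) (c : G) : ∃ z, c = z⁻¹ * (y * τ z * y⁻¹) := by
  obtain ⟨w, hw⟩ := h y
  obtain ⟨v, hv⟩ := h (c * y)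
  refine ⟨w⁻¹ * v, ?_⟩
  have h1 : τ v = τ w * τ (w⁻¹ * v) := by rw [← hτ, mul_inv_cancel_left]
  have h2 : c = v⁻¹ * τ v * y⁻¹ := by rw [← hv]; group
  have h3 : τ (w⁻¹ * v) = (τ w)⁻¹ * τ v := by rw [h1]; group
  have h4 : τ w = w * y := by rw [hw]; group
  rw [h3, h4]
  calc c = v⁻¹ * τ v * y⁻¹ := h2
    _ = _ := by group

variable {D : ChevalleyDatum} {l : ℕ} {M : CoxeterMatrix (Fin l)} (hp : IsType D l M) {k : Type u} [Field k]
  {W : Type*} [Group W] (cs : CoxeterSystem M W)

theorem mem_XX_vec {r : ℕ} (hr : r < D.nroots) {g : ↥(D.group k)} :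
    g ∈ XX D l k (vec D l r) ↔ ∃ t : k, (g : GL D.Idx k) = xG hp.inList r t := by
  rw [Subgroup.mem_subgroupOf, XV_vec hp k hr, mem_rootSubgroup_iff hp.inList]

include hp cs in
theorem lang_sup [IsAlgClosed k] (p e : ℕ) [Fact p.Prime] [CharP k p] (he : 0 < e) {S : Set (Fin l → ℤ)}
    (hS : ∀ a ∈ S, IsRoot cs hp.isCartan a) (τ : ↥(D.group k) → ↥(D.group k)) (J : GL D.Idx k)
    (hτ : ∀ g, (τ g : GL D.Idx k) = J * frob p e (g : GL D.Idx k) * J⁻¹)
    (hX : ∀ a ∈ S, ∃ b ∈ S, ∀ x ∈ XX D l k a, τ x ∈ XX D l k b) {m : ↥(D.group k)}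
    (hm : m ∈ RGD.Sup (XX D l k) S) : ∃ y ∈ RGD.Sup (XX D l k) S, m = y⁻¹ * τ y := by
  set S' : Set ℕ := {r | r < D.nroots ∧ vec D l r ∈ S} with hS'
  have hto : ∀ g ∈ RGD.Sup (XX D l k) S, (g : GL D.Idx k) ∈ MM hp.inList S' k := by
    intro g hg
    have h1 : RGD.Sup (XX D l k) S ≤ (MM hp.inList S' k).subgroupOf (D.group k) := by
      refine iSup_le ?_
      rintro ⟨a, ha⟩ x hx
      obtain ⟨r, hr, rfl⟩ := (isRoot_iff hp cs a).1 (hS a ha)
      obtain ⟨t, ht⟩ := (mem_XX_vec hp hr).1 hx
      rw [Subgroup.mem_subgroupOf, ht]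
      exact Subgroup.subset_closure ⟨r, ⟨hr, ha⟩, t, rfl⟩
    exact h1 hg
  have hfrom : ∀ g ∈ MM hp.inList S' k, ∃ g' ∈ RGD.Sup (XX D l k) S, (g' : GL D.Idx k) = g := by
    intro g hg
    induction hg using Subgroup.closure_induction with
    | mem g hg =>
      obtain ⟨r, ⟨hr, ha⟩, t, rfl⟩ := hg
      exact ⟨⟨xG hp.inList r t, xG_mem_group hp.inList r t⟩, RGD.le_Sup ha ((mem_XX_vec hp hr).2 ⟨t, rfl⟩), rfl⟩
    | one => exact ⟨1, one_mem _, rfl⟩
    | mul g h _ _ hg hh =>
      obtain ⟨g', hg', e1⟩ := hg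
      obtain ⟨h', hh', e2⟩ := hh
      exact ⟨g' * h', mul_mem hg' hh', by rw [Subgroup.coe_mul, e1, e2]⟩
    | inv g _ hg =>
      obtain ⟨g', hg', e1⟩ := hg
      exact ⟨g'⁻¹, inv_mem hg', by rw [Subgroup.coe_inv, e1]⟩
  have hJ : ∀ r ∈ S', ∃ s ∈ S', ∀ t : k, ∃ u : k, J * xG hp.inList r t * J⁻¹ = xG hp.inList s u := by
    rintro r ⟨hr, ha⟩
    obtain ⟨b, hb, h⟩ := hX _ ha
    obtain ⟨s, hs, rfl⟩ := (isRoot_iff hp cs b).1 (hS b hb)
    refine ⟨s, ⟨hs, hb⟩, fun t => ?_⟩
    obtain ⟨t', ht'⟩ : ∃ t' : k, t' ^ p ^ e = t :=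
      IsAlgClosed.exists_pow_nat_eq t (pow_pos (Fact.out : p.Prime).pos e)
    have h1 := h ⟨xG hp.inList r t', xG_mem_group hp.inList r t'⟩ ((mem_XX_vec hp hr).2 ⟨t', rfl⟩)
    obtain ⟨u, hu⟩ := (mem_XX_vec hp hs).1 h1
    refine ⟨u, ?_⟩
    rw [hτ] at hu
    rw [← hu, frob_xG, ht']
  obtain ⟨y, hy, hmy⟩ := lang_chev' hp.inList p e he S' J hJ (hto m hm)
  obtain ⟨y', hy', rfl⟩ := hfrom y hy
  refine ⟨y', hy', Subtype.ext ?_⟩
  rw [hmy, Subgroup.coe_mul, Subgroup.coe_inv, hτ]

end Cfsg.Agent.LangThm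

end

-- merged: Cfsg.Agent.BpExc.LangFr
section

/-!
# Lang's theorem for frame automorphisms of `D.group k` (S1332-EXC, helper60)

`IsFrob p e σ` : the automorphism `σ` of `D.group k` is `g ↦ J * frob g * J⁻¹` for some matrix `J`, `frob` the entrywise
`p^e`-power map.

* `IsFrob.one`, `IsFrob.conj` (inner automorphisms have `e = 0`), `IsFrob.mul`, `IsFrob.pow`, `IsFrob.conj_mul`;
* `lang_fr` : `σ` with `IsFrob p e σ`, `e > 0`, frame automorphism for `g`, `S` a `g`-invariant set of roots:
  every `m ∈ ⟨X a : a ∈ S⟩` is `y⁻¹ * σ y`;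
* `lang_all` : `IsFrob p e σ`, `e > 0`, `σ` a frame automorphism: for all `y c` there is `z` with
  `c = z⁻¹ * (conj y * σ) z`.
-/

set_option autoImplicit false
set_option linter.dupNamespace false

namespace Cfsg.Agent.BpExc.LangFr

open CoxeterSystem Cfsg Cfsg.Lie Cfsg.Agent.ChevalleyStructure Cfsg.Agent.ChevalleyStructure.Elts
  Cfsg.Agent.ChevalleyStructure.CoxeterGeom Cfsg.Agent.ChevalleyStructure.CoxeterGeomTypes
  Cfsg.Agent.ChevalleyStructure.NPerm Cfsg.Agent.Tits.Roots Cfsg.Agent.Tits.Core Cfsg.Agent.Nodes.Reps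
  Cfsg.Agent.Nodes.BNOf Cfsg.Agent.Nodes.RGDChev Cfsg.Agent.KFacts.RgdChevCoord Cfsg.Agent.LangThm
  Cfsg.Agent.BpExc.Fr

universe u

variable {D : ChevalleyDatum} {k : Type u} [Field k]

theorem frob_frob (p e e' : ℕ) [Fact p.Prime] [CharP k p] {N : Type} [Fintype N] [DecidableEq N] (g : GL N k) :
    frob p e (frob p e' g) = frob p (e + e') g := by
  apply co_injective
  funext ij
  rw [co_frob, co_frob, co_frob, ← pow_mul, ← pow_add, add_comm]

theorem frob_zero (p : ℕ) [Fact p.Prime] [CharP k p] {N : Type} [Fintype N] [DecidableEq N] (g : GL N k) :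
    frob p 0 g = g := by
  apply co_injective
  funext ij
  rw [co_frob, pow_zero, pow_one]

/-- `σ` is `g ↦ J * frob g * J⁻¹`. -/
def IsFrob (p e : ℕ) [Fact p.Prime] [CharP k p] (σ : MulAut ↥(D.group k)) : Prop :=
  ∃ J : GL D.Idx k, ∀ g, (σ g : GL D.Idx k) = J * frob p e (g : GL D.Idx k) * J⁻¹

section

variable {p e e' : ℕ} [Fact p.Prime] [CharP k p] {σ σ' : MulAut ↥(D.group k)}

theorem IsFrob.one : IsFrob p 0 (1 : MulAut ↥(D.group k)) :=
  ⟨1, fun g => by rw [frob_zero, one_mul, inv_one, mul_one]; rfl⟩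

theorem IsFrob.conj (y : ↥(D.group k)) : IsFrob p 0 (MulAut.conj y) :=
  ⟨y, fun g => by rw [frob_zero]; rfl⟩

theorem IsFrob.mul (h : IsFrob p e σ) (h' : IsFrob p e' σ') : IsFrob p (e + e') (σ * σ') := by
  obtain ⟨J, hJ⟩ := h
  obtain ⟨J', hJ'⟩ := h'
  refine ⟨J * frob p e J', fun g => ?_⟩
  show (σ (σ' g) : GL D.Idx k) = _
  rw [hJ, hJ', map_mul, map_mul, map_inv, frob_frob]
  group

theorem IsFrob.conj_mul (h : IsFrob p e σ) (y : ↥(D.group k)) : IsFrob p e (MulAut.conj y * σ) := by
  have h1 := (IsFrob.conj (p := p) y).mul h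
  rwa [zero_add] at h1

theorem IsFrob.pow (h : IsFrob p e σ) (n : ℕ) : IsFrob p (n * e) (σ ^ n) := by
  induction n with
  | zero =>
    rw [zero_mul, pow_zero]
    exact IsFrob.one
  | succ n ih =>
    rw [Nat.succ_mul, pow_succ]
    exact ih.mul h

end

variable {l : ℕ} {M : CoxeterMatrix (Fin l)} (hp : IsType D l M) {W : Type*} [Group W] (cs : CoxeterSystem M W)
  {p e : ℕ} [Fact p.Prime] [CharP k p] {σ : MulAut ↥(D.group k)} {g : (Fin l → ℤ) ≃+ (Fin l → ℤ)}

include hp cs in
/-- **Lang's theorem for a frame automorphism and an invariant set of roots.** -/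
theorem lang_fr [IsAlgClosed k] (he : 0 < e) (hσ : IsFrob p e σ)
    (F : Fr cs hp.isCartan (TT D k) (XX D l k) σ g) {S : Set (Fin l → ℤ)} (hS : ∀ a ∈ S, IsRoot cs hp.isCartan a)
    (hg : ∀ a ∈ S, g a ∈ S) {m : ↥(D.group k)} (hm : m ∈ RGD.Sup (XX D l k) S) :
    ∃ y ∈ RGD.Sup (XX D l k) S, m = y⁻¹ * σ y := by
  obtain ⟨J, hJ⟩ := hσ
  exact lang_sup hp cs p e he hS σ J hJ (fun a ha => ⟨g a, hg a ha, fun x hx => (F.map a (hS a ha) x).2 hx⟩) hm

include hp cs in
/-- **Lang's theorem for `D.group k`.** -/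
theorem lang_all [IsAlgClosed k] (he : 0 < e) (hσ : IsFrob p e σ)
    (F : Fr cs hp.isCartan (TT D k) (XX D l k) σ g) (y c : ↥(D.group k)) :
    ∃ z : ↥(D.group k), c = z⁻¹ * (MulAut.conj y * σ) z := by
  have htop : RGD.Sup (XX D l k) {a | IsRoot cs hp.isCartan a} = ⊤ := by
    rw [eq_top_iff, ← G1_eq_top (K := k) hp cs]
    exact le_rfl
  have h1 : ∀ c : ↥(D.group k), ∃ z, c = z⁻¹ * σ z := by
    intro c
    obtain ⟨z, -, hz⟩ := lang_fr hp cs he hσ F (S := {a | IsRoot cs hp.isCartan a}) (fun _ ha => ha)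
      (fun a ha => (F.root a).2 ha) (m := c) (by rw [htop]; exact Subgroup.mem_top c)
    exact ⟨z, hz⟩
  exact lang_conj (map_mul σ) h1 y c

end Cfsg.Agent.BpExc.LangFr

end
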