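import Cfsg.Agent.BpExc.TorCent
import Cfsg.Agent.KFacts.RgdChevCoord
import Cfsg.Agent.ChevalleyStructure.HMatDiagAll
import Cfsg.Agent.S1034
set_option linter.all false

/-!
# Toral elements of the groups `D.group K` (S1332-EXC, helper95)

* `TT_comm` : the torus is commutative; `TT_le` : it is generated by the `hc j c`;
* `chAdd : ChAdd cs _ (TT D K) (ch hp)`;
* `GG_top`; `perfect_le` : `x ∈ TT D K`, `x ^ l = 1`, `l` prime: every perfect subgroup of `C(x)` lies in
  `⟨X a : χ a x = 1⟩`.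
-/

set_option autoImplicit false
set_option linter.unusedSectionVars false

namespace Cfsg.Agent.BpExc.TorChev

open CoxeterSystem Subgroup Cfsg Cfsg.Lie Cfsg.Lie.ChevalleyDatum
open Cfsg.Agent.ChevalleyStructure Cfsg.Agent.ChevalleyStructure.Elts Cfsg.Agent.ChevalleyStructure.CoxeterGeom
  Cfsg.Agent.ChevalleyStructure.CoxeterGeomTypes Cfsg.Agent.ChevalleyStructure.NPerm
open Cfsg.Agent.Tits.Roots Cfsg.Agent.Tits.Core Cfsg.Agent.Nodes.Reps Cfsg.Agent.Nodes.BNOf
  Cfsg.Agent.Nodes.RGDChev Cfsg.Agent.Nodes.Bruhat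
open Cfsg.Agent.KFacts.RgdField Cfsg.Agent.KFacts.RgdChevCoord Cfsg.Agent.BpExc.TorCent
open scoped commutatorElement

universe u

variable {D : ChevalleyDatum} {l : ℕ} {M : CoxeterMatrix (Fin l)} (hp : IsType D l M) {K : Type u} [Field K]
  {W : Type*} [Group W] (cs : CoxeterSystem M W)

include hp in
/-- The torus is commutative. -/
theorem TT_comm : ∀ a ∈ TT D K, ∀ b ∈ TT D K, a * b = b * a := by
  intro a ha b hb
  rw [Subgroup.mem_subgroupOf] at ha hb
  obtain ⟨χ, hχ⟩ := HMatDiagAll.mem_torus.1 (HMatDiagAll.diagonalSubgroup_le_torus hp.inList ha)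
  obtain ⟨ψ, hψ⟩ := HMatDiagAll.mem_torus.1 (HMatDiagAll.diagonalSubgroup_le_torus hp.inList hb)
  apply Subtype.ext
  apply Units.ext
  rw [Subgroup.coe_mul, Subgroup.coe_mul, Units.val_mul, Units.val_mul, hχ, hψ, Matrix.diagonal_mul_diagonal,
    Matrix.diagonal_mul_diagonal]
  congr 1
  funext i
  exact mul_comm _ _

/-- The torus is generated by the `h_j(c)`. -/
theorem TT_le : TT D K ≤ Subgroup.closure {g | ∃ (j : Fin l) (c : K), c ≠ 0 ∧ g = hc hp j c} := by
  rintro ⟨t, htG⟩ ht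
  rw [Subgroup.mem_subgroupOf] at ht
  obtain ⟨c, hc0, hw⟩ := Cfsg.Agent.S1034.result (F := K) D hp.inList t ht
  have key : ∀ m ≤ D.rank, ∃ g ∈ Subgroup.closure {g | ∃ (j : Fin l) (c : K), c ≠ 0 ∧ g = hc hp j c},
      (((g : ↥(D.group K)) : GL D.Idx K) : Matrix D.Idx D.Idx K) =
        D.wordMat K ((List.range m).flatMap fun i => D.hWord (D.simple i) (c i)) := by
    intro m
    induction m with
    | zero => exact fun _ => ⟨1, one_mem _, rfl⟩
    | succ m ih =>
      intro hm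
      obtain ⟨g, hg, e⟩ := ih (by omega)
      have hml : m < l := by rw [← hp.rank_eq]; omega
      refine ⟨g * hc hp ⟨m, hml⟩ (c m), mul_mem hg (Subgroup.subset_closure ⟨_, _, hc0 m (by omega), rfl⟩), ?_⟩
      rw [List.range_succ, List.flatMap_append, wordMat_append, List.flatMap_cons, List.flatMap_nil, List.append_nil,
        ← e, Subgroup.coe_mul, Units.val_mul]
      congr 1
  obtain ⟨g, hg, e⟩ := key D.rank le_rfl
  have : (⟨t, htG⟩ : ↥(D.group K)) = g := by
    apply Subtype.ext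
    apply Units.ext
    rw [e, hw]
  rw [this]
  exact hg

/-- **The characters extend to the root lattice.** -/
theorem chAdd [Finite K] (p : ℕ) [Fact p.Prime] [CharP K p] :
    ChAdd cs hp.isCartan (TT D K) (ch (K := K) hp) := by
  have C := coords (K := K) hp cs p
  intro t ht
  have hT : ∀ g ∈ Subgroup.closure {g | ∃ (j : Fin l) (c : K), c ≠ 0 ∧ g = hc hp j c}, g ∈ TT D K := by
    intro g hg
    refine (Subgroup.closure_le _).2 ?_ hg
    rintro _ ⟨j, c, hc0, rfl⟩
    exact hc_mem hp j hc0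
  refine Subgroup.closure_induction (p := fun t _ => ∃ φ : (Fin l → ℤ) → K, φ 0 = 1 ∧
    (∀ x y, φ (x + y) = φ x * φ y) ∧ ∀ a, IsRoot cs hp.isCartan a → ch hp a t = φ a) ?_ ?_ ?_ ?_ (TT_le hp ht)
  · rintro _ ⟨j, c, hc0, rfl⟩
    refine ⟨fun x => c ^ pairing (cartanOf D l) j x, ?_, fun x y => ?_, fun a ha => ?_⟩
    · simp [pairing]
    · show c ^ pairing (cartanOf D l) j (x + y) = _
      rw [pairing_add, zpow_add₀ hc0]
    · obtain ⟨r, hr, rfl⟩ := (isRoot_iff hp cs a).1 ha
      show _ = c ^ pairing (cartanOf D l) j (vec D l r)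
      rw [ch_hc hp j hc0 hr, pairing_vec hp j hr]
  · refine ⟨fun _ => 1, rfl, fun _ _ => (mul_one _).symm, fun a ha => ?_⟩
    have h1 := (C.coord a ha).chi_mul (one_mem _) (one_mem _)
    rw [mul_one] at h1
    exact (mul_eq_left₀ ((C.coord a ha).chi_ne_zero (one_mem _))).1 h1.symm
  · rintro s t hs ht ⟨φ, h0, h1, h2⟩ ⟨ψ, h3, h4, h5⟩
    refine ⟨fun x => φ x * ψ x, ?_, fun x y => ?_, fun a ha => ?_⟩
    · show φ 0 * ψ 0 = 1
      rw [h0, h3, mul_one]
    · show φ (x + y) * ψ (x + y) = φ x * ψ x * (φ y * ψ y)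
      rw [h1, h4]; ring
    show _ = φ a * ψ a
    rw [(C.coord a ha).chi_mul (hT s hs) (hT t ht), h2 a ha, h5 a ha]
  · rintro s hs ⟨φ, h0, h1, h2⟩
    refine ⟨fun x => (φ x)⁻¹, ?_, fun x y => ?_, fun a ha => ?_⟩
    · show (φ 0)⁻¹ = 1
      rw [h0, inv_one]
    · show (φ (x + y))⁻¹ = (φ x)⁻¹ * (φ y)⁻¹
      rw [h1, mul_inv]
    have h3 := (C.coord a ha).chi_mul (hT s hs) (inv_mem (hT s hs))
    have h4 := (C.coord a ha).chi_mul (one_mem _) (one_mem _)
    rw [mul_one] at h4
    have h5 := (mul_eq_left₀ ((C.coord a ha).chi_ne_zero (one_mem _))).1 h4.symm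
    rw [mul_inv_cancel, h5] at h3
    show _ = (φ a)⁻¹
    rw [← h2 a ha]
    exact eq_inv_of_mul_eq_one_right h3.symm

/-- The root groups and the torus generate `D.group K`. -/
theorem GG_top : GG cs hp.isCartan (TT D K) (XX D l K) = ⊤ := by
  rw [eq_top_iff, ← G1_eq_top (K := K) hp cs]
  exact le_sup_right

/-- **Perfect subgroups of the centraliser of a toral element of prime order.** -/
theorem perfect_le [Finite K] (p : ℕ) [Fact p.Prime] [CharP K p] {x : ↥(D.group K)} (hx : x ∈ TT D K) {q : ℕ}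
    (hq : q.Prime) (hxq : x ^ q = 1) {J : Subgroup ↥(D.group K)} (hJC : J ≤ centralizer {x}) (hJ : ⁅J, J⁆ = J) :
    J ≤ MM cs hp.isCartan (XX D l K) (ch hp) x := by
  have := finite_W hp cs
  have R := rgd (K := K) hp cs p
  have C := coords (K := K) hp cs p
  refine TorCent.perfect_le R C hx (TT_comm hp) (chAdd hp cs p) hq (fun a ha => ?_) ?_ hJ
  · have h1 : ∀ m : ℕ, ch hp a (x ^ m) = ch hp a x ^ m := by
      intro m
      induction m with
      | zero =>
        have h1 := (C.coord a ha).chi_mul (one_mem (TT D K)) (one_mem _)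
        rw [mul_one] at h1
        rw [pow_zero, pow_zero]
        exact (mul_eq_left₀ ((C.coord a ha).chi_ne_zero (one_mem _))).1 h1.symm
      | succ m ih => rw [pow_succ, pow_succ, (C.coord a ha).chi_mul (pow_mem hx m) hx, ih]
    have h2 := h1 q
    rw [hxq] at h2
    rw [← h2]
    have h3 := (C.coord a ha).chi_mul (one_mem (TT D K)) (one_mem _)
    rw [mul_one] at h3
    exact (mul_eq_left₀ ((C.coord a ha).chi_ne_zero (one_mem _))).1 h3.symm
  · rw [GG_top hp cs, top_inf_eq]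
    exact hJC

end Cfsg.Agent.BpExc.TorChev
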