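import Cfsg.Agent.BpExc.Tow
import Cfsg.Agent.BpExc.TorChev
import Cfsg.Agent.GpExc.Field
set_option linter.all false

/-!
# The tower of root group data of `D.group k`, `k` locally finite (S1332-EXC, helper12)

`k` a field such that every finite subset lies in a finite subfield (`LocFin k`; e.g. an algebraic closure of `ZMod r`).
Levels: `Lev k = {E : Subfield k // Finite E}`; `Tj hp E`, `Xj hp E a` the images of `TT D E`, `XX D l E a` in `D.group k`.

* `tow : Tow cs hp.isCartan r (Tj hp) (nc hp k) (Xj hp)`; `TL_eq : TL (Tj hp) = TT D k`, `XL_eq : XL (Xj hp) = XX D l k`;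
* `coordsL : Coords cs _ (TT D k) (nc hp k) (XX D l k) (xc hp) (ch hp)`; `chAddL : ChAdd ..`; `finite_GG`;
* `perfect_leL` : finite perfect subgroups of `C(t)` (`t ∈ TT D k` of prime order) lie in `MM t`.
-/

set_option autoImplicit false
set_option linter.unusedSectionVars false

namespace Cfsg.Agent.BpExc.TowChev

open CoxeterSystem Cfsg Cfsg.Lie Cfsg.Lie.ChevalleyDatum
open Cfsg.Agent.ChevalleyStructure Cfsg.Agent.ChevalleyStructure.Elts Cfsg.Agent.ChevalleyStructure.CoxeterGeom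
  Cfsg.Agent.ChevalleyStructure.CoxeterGeomTypes Cfsg.Agent.ChevalleyStructure.NPerm
open Cfsg.Agent.Tits.Roots Cfsg.Agent.Tits.Core Cfsg.Agent.Nodes Cfsg.Agent.Nodes.Reps Cfsg.Agent.Nodes.BNOf
  Cfsg.Agent.Nodes.RGDChev Cfsg.Agent.Nodes.Bruhat
open Cfsg.Agent.KFacts.RgdField Cfsg.Agent.KFacts.RgdChevCoord Cfsg.Agent.BpExc.TorCent Cfsg.Agent.BpExc.TorChev
open Cfsg.Agent.GpExc.Field Cfsg.Agent.BpExc.Tow
open scoped commutatorElement

universe u

/-! ### locally finite fields -/

/-- Every finite subset lies in a finite subfield. -/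
def LocFin (k : Type u) [Field k] : Prop := ∀ S : Set k, S.Finite → ∃ E : Subfield k, Finite E ∧ S ⊆ E

theorem locFin_of_isAlgebraic (r : ℕ) [Fact r.Prime] (k : Type u) [Field k] [Algebra (ZMod r) k]
    [Algebra.IsAlgebraic (ZMod r) k] : LocFin k := by
  intro S hS
  have := hS.to_subtype
  have h1 : FiniteDimensional (ZMod r) (IntermediateField.adjoin (ZMod r) S) :=
    IntermediateField.finiteDimensional_adjoin fun x _ => Algebra.IsIntegral.isIntegral x
  refine ⟨(IntermediateField.adjoin (ZMod r) S).toSubfield, ?_, IntermediateField.subset_adjoin _ _⟩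
  exact Module.finite_of_finite (ZMod r) (M := ↥(IntermediateField.adjoin (ZMod r) S))

/-- The levels: finite subfields. -/
abbrev Lev (k : Type u) [Field k] := {E : Subfield k // Finite E}

instance {k : Type u} [Field k] (E : Lev k) : Finite ↥E.1 := E.2

section Lev

variable {k : Type u} [Field k] (hk : LocFin k)

include hk

theorem exists_lev (S : Set k) (hS : S.Finite) : ∃ E : Lev k, S ⊆ E.1 := by
  obtain ⟨E, h1, h2⟩ := hk S hS
  exact ⟨⟨E, h1⟩, h2⟩

theorem nonempty_lev : Nonempty (Lev k) := by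
  obtain ⟨E, -⟩ := exists_lev hk ∅ Set.finite_empty
  exact ⟨E⟩

theorem dir_lev (a b : Lev k) : ∃ c : Lev k, a ≤ c ∧ b ≤ c := by
  have ha : (a.1 : Set k).Finite := Set.finite_coe_iff.1 a.2
  have hb : (b.1 : Set k).Finite := Set.finite_coe_iff.1 b.2
  obtain ⟨E, hE⟩ := exists_lev hk ((a.1 : Set k) ∪ b.1) (ha.union hb)
  exact ⟨E, fun x hx => hE (Or.inl hx), fun x hx => hE (Or.inr hx)⟩

theorem exists_mem_lev (s : k) : ∃ E : Lev k, s ∈ E.1 := by
  obtain ⟨E, hE⟩ := exists_lev hk {s} (Set.finite_singleton s)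
  exact ⟨E, hE rfl⟩

end Lev

theorem charP_lev {k : Type u} [Field k] (r : ℕ) [CharP k r] (E : Subfield k) : CharP ↥E r :=
  (RingHom.charP_iff E.subtype E.subtype.injective r).2 inferInstance

/-! ### the embeddings -/

section Emb

variable {D : ChevalleyDatum} {l : ℕ} {M : CoxeterMatrix (Fin l)} (hp : IsType D l M)
  {F K L : Type u} [Field F] [Field K] [Field L]

theorem emb_comp (hD : InList D) (f : F →+* K) (g : K →+* L) (x : ↥(D.group F)) :
    emb hD g (emb hD f x) = emb hD (g.comp f) x := by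
  apply Subtype.ext
  apply Units.ext
  rw [coe_emb, coe_emb, coe_emb, coe_glMap, coe_glMap, coe_glMap, Matrix.map_map]
  rfl

theorem emb_xc (f : F →+* K) (v : Fin l → ℤ) (a : F) : emb hp.inList f (xc hp v a) = xc hp v (f a) := by
  apply Subtype.ext
  rw [coe_emb]
  exact glMap_xG hp.inList f _ _

theorem emb_nc (f : F →+* K) (i : Fin l) : emb hp.inList f (nc hp F i) = nc hp K i := by
  apply Subtype.ext
  rw [coe_emb]
  show glMap D f (nG hp.inList (D.simple i) 1) = nG hp.inList (D.simple i) 1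
  rw [glMap_nG hp, map_one]

theorem emb_hc (f : F →+* K) (j : Fin l) (a : F) : emb hp.inList f (hc hp j a) = hc hp j (f a) := by
  apply Subtype.ext
  rw [coe_emb]
  exact glMap_hG hp f _ _

theorem emb_ch (f : F →+* K) {r : ℕ} (hr : r < D.nroots) {t : ↥(D.group F)} (ht : t ∈ TT D F) :
    ch hp (vec D l r) (emb hp.inList f t) = f (ch hp (vec D l r) t) := by
  refine ch_eq hp hr (emb_T hp f ⟨t, ht, rfl⟩) ?_
  rw [← map_one f, ← emb_xc, ← map_mul, ← map_inv, ← map_mul, (act hp hr ht).2 1, mul_one, emb_xc]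

theorem XX_eq_bot (cs : CoxeterSystem M M.Group) {x : Fin l → ℤ} (hx : ¬ IsRoot cs hp.isCartan x) :
    XX D l F x = ⊥ := by
  have h1 : XV D l F x = ⊥ := by
    unfold XV
    rw [iSup_eq_bot]
    rintro ⟨r, hr, e⟩
    exact absurd (e ▸ isRoot_vec hp cs hr) hx
  show (XV D l F x).subgroupOf _ = ⊥
  rw [h1, Subgroup.bot_subgroupOf]

end Emb

/-! ### the tower -/

section Tower

variable {D : ChevalleyDatum} {l : ℕ} {M : CoxeterMatrix (Fin l)} (hp : IsType D l M)
  {k : Type u} [Field k]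

/-- the torus of level `E` -/
noncomputable def Tj (E : Lev k) : Subgroup ↥(D.group k) := (TT D ↥E.1).map (emb hp.inList E.1.subtype)

/-- the root groups of level `E` -/
noncomputable def Xj (E : Lev k) (a : Fin l → ℤ) : Subgroup ↥(D.group k) :=
  (XX D l ↥E.1 a).map (emb hp.inList E.1.subtype)

variable {W : Type*} [Group W] (cs : CoxeterSystem M W) (hk : LocFin k)

theorem monoTj : Monotone (Tj hp (k := k)) := by
  rintro E E' hE _ ⟨y, hy, rfl⟩
  refine ⟨emb hp.inList (Subfield.inclusion hE) y, emb_T hp _ ⟨y, hy, rfl⟩, ?_⟩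
  rw [emb_comp]
  rfl

theorem monoXj (a : Fin l → ℤ) : Monotone fun E : Lev k => Xj hp E a := by
  rintro E E' hE _ ⟨y, hy, rfl⟩
  by_cases ha : IsRoot M.toCoxeterSystem hp.isCartan a
  · refine ⟨emb hp.inList (Subfield.inclusion hE) y, emb_X hp _ M.toCoxeterSystem ha ⟨y, hy, rfl⟩, ?_⟩
    rw [emb_comp]
    rfl
  · rw [XX_eq_bot hp M.toCoxeterSystem ha] at hy
    rw [Subgroup.mem_bot.1 hy, map_one]
    exact one_mem _

include hk in
/-- **The tower of `D.group k`.** -/
theorem tow (r : ℕ) [Fact r.Prime] [CharP k r] : Tow cs hp.isCartan r (Tj hp (k := k)) (nc hp k) (Xj hp) where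
  ne := nonempty_lev hk
  dir := dir_lev hk
  rgd E := by
    have := charP_lev r E.1
    have h1 := RGDLib.rgd_map_of_injective (rgd (K := ↥E.1) hp cs r) (emb hp.inList E.1.subtype)
      (emb_injective hp.inList _)
    have h2 : (fun i => emb hp.inList E.1.subtype (⟨nn hp ↥E.1 i, nn_mem_group hp i⟩ : ↥(D.group ↥E.1))) =
        nc hp k := funext fun i => emb_nc hp _ i
    rw [h2] at h1
    exact h1
  monoT := monoTj hp
  monoX := monoXj hp

include hk in
theorem TL_eq : TL (Tj hp (k := k)) = TT D k := by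
  apply le_antisymm
  · exact iSup_le fun E => emb_T hp _
  · intro t ht
    have h1 := TT_le hp ht
    refine (Subgroup.closure_le _).2 ?_ h1
    rintro _ ⟨j, c, hc0, rfl⟩
    obtain ⟨E, hE⟩ := exists_mem_lev hk c
    refine le_TL E ⟨hc hp j (⟨c, hE⟩ : ↥E.1), hc_mem hp j ?_, ?_⟩
    · intro h2
      exact hc0 (congrArg Subtype.val h2)
    · rw [emb_hc]
      rfl

include hk in
theorem XL_eq : XL (Xj hp (k := k)) = XX D l k := by
  funext a
  by_cases ha : IsRoot M.toCoxeterSystem hp.isCartan a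
  · apply le_antisymm
    · exact iSup_le fun E => emb_X hp _ M.toCoxeterSystem ha
    · intro y hy
      obtain ⟨r, hr, rfl⟩ := (isRoot_iff hp M.toCoxeterSystem a).1 ha
      rw [Subgroup.mem_subgroupOf, XV_vec hp k hr, mem_rootSubgroup_iff hp.inList] at hy
      obtain ⟨s, hs⟩ := hy
      obtain ⟨E, hE⟩ := exists_mem_lev hk s
      refine le_XL E _ ⟨xc hp (vec D l r) (⟨s, hE⟩ : ↥E.1), ?_, ?_⟩
      · rw [SetLike.mem_coe, Subgroup.mem_subgroupOf, XV_vec hp _ hr, coe_xc hp hr]
        exact (mem_rootSubgroup_iff hp.inList _ _).2 ⟨_, rfl⟩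
      · rw [emb_xc]
        apply Subtype.ext
        rw [coe_xc hp hr]
        exact hs.symm
  · rw [XX_eq_bot hp M.toCoxeterSystem ha, eq_bot_iff]
    refine iSup_le fun E => ?_
    show (XX D l ↥E.1 a).map _ ≤ ⊥
    rw [XX_eq_bot hp M.toCoxeterSystem ha, Subgroup.map_bot]

include hk in
/-- **The coordinates of `D.group k`.** -/
theorem coordsL (r : ℕ) [Fact r.Prime] [CharP k r] :
    Coords cs hp.isCartan (TT D k) (nc hp k) (XX D l k) (xc hp) (ch hp) where
  coord x hx := by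
    obtain ⟨a, ha, rfl⟩ := (isRoot_iff hp cs x).1 hx
    refine ⟨fun y => ?_, xc_inj hp ha, fun a b => ?_, fun t ht a => (act hp ha ht).2 a, ?_⟩
    · rw [Subgroup.mem_subgroupOf, XV_vec hp k ha, mem_rootSubgroup_iff hp.inList]
      constructor
      · rintro ⟨s, hs⟩
        exact ⟨s, Subtype.ext (by rw [coe_xc hp ha, hs])⟩
      · rintro ⟨s, rfl⟩
        exact ⟨s, coe_xc hp ha s⟩
    · apply Subtype.ext
      rw [Subgroup.coe_mul, coe_xc hp ha, coe_xc hp ha, coe_xc hp ha, xG_add]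
    · rw [AddSubgroup.eq_top_iff']
      intro s
      obtain ⟨E, hE⟩ := exists_mem_lev hk s
      have := charP_lev r E.1
      have h1 := span (K := ↥E.1) hp cs r hx
      have h2 : (⟨s, hE⟩ : ↥E.1) ∈ AddSubgroup.closure (ch hp (vec D l a) '' (TT D ↥E.1 : Set ↥(D.group ↥E.1))) := by
        rw [h1]; exact AddSubgroup.mem_top _
      have h3 : AddSubgroup.closure (ch hp (vec D l a) '' (TT D ↥E.1 : Set ↥(D.group ↥E.1))) ≤
          (AddSubgroup.closure (ch hp (vec D l a) '' (TT D k : Set ↥(D.group k)))).comap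
            (E.1.subtype : ↥E.1 →+ k) := by
        rw [AddSubgroup.closure_le]
        rintro _ ⟨t, ht, rfl⟩
        refine AddSubgroup.subset_closure ⟨emb hp.inList E.1.subtype t, emb_T hp _ ⟨t, ht, rfl⟩, ?_⟩
        exact emb_ch hp E.1.subtype ha ht
      exact h3 h2
  nact i x hx := by
    obtain ⟨r, hr, rfl⟩ := (isRoot_iff hp cs x).1 hx
    rw [rep_vec hp cs i hr]
    exact nact hp hr

include hk in
/-- every element of `TT D k` lives at a finite level -/
theorem exists_TT {t : ↥(D.group k)} (ht : t ∈ TT D k) : ∃ E : Lev k, ∀ E' : Lev k, E ≤ E' →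
    ∃ t' ∈ TT D ↥E'.1, emb hp.inList E'.1.subtype t' = t := by
  rw [← TL_eq hp hk] at ht
  have := nonempty_lev hk
  obtain ⟨E, hE⟩ := (Subgroup.mem_iSup_of_directed (fun a b => by
    obtain ⟨c, h1, h2⟩ := dir_lev hk a b
    exact ⟨c, monoTj hp h1, monoTj hp h2⟩)).1 ht
  exact ⟨E, fun E' hE' => monoTj hp hE' hE⟩

include hk in
theorem chAddL (r : ℕ) [Fact r.Prime] [CharP k r] : ChAdd cs hp.isCartan (TT D k) (ch (K := k) hp) := by
  intro t ht
  obtain ⟨E, hE⟩ := exists_TT hp hk ht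
  obtain ⟨t', ht', rfl⟩ := hE E le_rfl
  have := charP_lev r E.1
  obtain ⟨φ, h0, h1, h2⟩ := chAdd (K := ↥E.1) hp cs r t' ht'
  refine ⟨fun x => (φ x : k), ?_, fun x y => ?_, fun a ha => ?_⟩
  · show ((φ 0 : ↥E.1) : k) = 1
    rw [h0]; rfl
  · show ((φ (x + y) : ↥E.1) : k) = φ x * φ y
    rw [h1]; rfl
  · obtain ⟨s, hs, rfl⟩ := (isRoot_iff hp cs a).1 ha
    rw [emb_ch hp E.1.subtype hs ht', h2 _ ha]
    rfl

include hk in
theorem GG_eq_top : GG cs hp.isCartan (TL (Tj hp (k := k))) (XL (Xj hp)) = ⊤ := by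
  rw [TL_eq hp hk, XL_eq hp hk]
  exact GG_top hp cs

/-- the group of level `E` -/
theorem GGj_eq (E : Lev k) : GG cs hp.isCartan (Tj hp E) (Xj hp E) = (emb hp.inList E.1.subtype).range := by
  have h1 : GG cs hp.isCartan (Tj hp E) (Xj hp E) =
      (GG cs hp.isCartan (TT D ↥E.1) (XX D l ↥E.1)).map (emb hp.inList E.1.subtype) := by
    unfold GG RGD.Sup
    rw [Subgroup.map_sup, Subgroup.map_iSup]
    rfl
  rw [h1, GG_top hp cs, ← MonoidHom.range_eq_map]

instance finite_group {F : Type u} [Field F] [Finite F] : Finite ↥(D.group F) := by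
  have := Fintype.ofFinite F
  infer_instance

theorem finite_GG (E : Lev k) : Finite ↥(GG cs hp.isCartan (Tj hp E) (Xj hp E)) := by
  rw [GGj_eq]
  have : Finite ↥(D.group ↥E.1) := finite_group
  exact Finite.of_surjective (emb hp.inList E.1.subtype).rangeRestrict (MonoidHom.rangeRestrict_surjective _)

include hp hk in
/-- every element of `D.group k` lives at a finite level -/
theorem exists_level (y : ↥(D.group k)) : ∃ E : Lev k, ∀ E' : Lev k, E ≤ E' →
    y ∈ (emb hp.inList E'.1.subtype).range := by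
  have h0 : y ∈ GG M.toCoxeterSystem hp.isCartan (TL (Tj hp (k := k))) (XL (Xj hp)) := by
    rw [GG_eq_top hp _ hk]; exact Subgroup.mem_top y
  rw [GG_eq] at h0
  have := nonempty_lev hk
  have hm : ∀ a b : Lev k, a ≤ b → GG M.toCoxeterSystem hp.isCartan (Tj hp a) (Xj hp a) ≤
      GG M.toCoxeterSystem hp.isCartan (Tj hp b) (Xj hp b) := fun a b hab =>
    sup_le_sup (monoTj hp hab) (RGD.Sup_le fun x hx => le_trans (monoXj hp x hab) (RGD.le_Sup hx))
  obtain ⟨E, hE⟩ := (Subgroup.mem_iSup_of_directed (fun a b => by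
    obtain ⟨c, h1, h2⟩ := dir_lev hk a b
    exact ⟨c, hm _ _ h1, hm _ _ h2⟩)).1 h0
  refine ⟨E, fun E' hE' => ?_⟩
  rw [← GGj_eq hp M.toCoxeterSystem]
  exact hm _ _ hE' hE

include hp hk in
/-- finite subgroups live at a finite level -/
theorem exists_level_finite {S : Set ↥(D.group k)} (hS : S.Finite) : ∃ E : Lev k, ∀ E' : Lev k, E ≤ E' →
    S ⊆ (emb hp.inList E'.1.subtype).range := by
  induction S, hS using Set.Finite.induction_on with
  | empty =>
    obtain ⟨E⟩ := nonempty_lev hk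
    exact ⟨E, fun _ _ => Set.empty_subset _⟩
  | @insert a S _ _ ih =>
    obtain ⟨E, hE⟩ := ih
    obtain ⟨E', hE'⟩ := exists_level hp hk a
    obtain ⟨E'', h1, h2⟩ := dir_lev hk E E'
    refine ⟨E'', fun E₀ h0 => ?_⟩
    rw [Set.insert_subset_iff]
    exact ⟨hE' E₀ (h2.trans h0), hE E₀ (h1.trans h0)⟩

include hk in
/-- **Finite perfect subgroups of `C(t)` lie in `MM t`.** -/
theorem perfect_leL (r : ℕ) [Fact r.Prime] [CharP k r] {t : ↥(D.group k)} (ht : t ∈ TT D k) {q : ℕ}
    (hq : q.Prime) (htq : t ^ q = 1) {J : Subgroup ↥(D.group k)} [Finite J] (hJC : J ≤ Subgroup.centralizer {t})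
    (hJ : ⁅J, J⁆ = J) : J ≤ MM cs hp.isCartan (XX D l k) (ch hp) t := by
  obtain ⟨E1, h1⟩ := exists_TT hp hk ht
  obtain ⟨E2, h2⟩ := exists_level_finite hp hk (S := (J : Set ↥(D.group k))) (Set.toFinite _)
  obtain ⟨E, h3, h4⟩ := dir_lev hk E1 E2
  obtain ⟨t', ht', rfl⟩ := h1 E h3
  have hJr := h2 E h4
  have := charP_lev r E.1
  set f := emb hp.inList E.1.subtype with hf
  have hinj : Function.Injective f := emb_injective hp.inList _
  have hmap : (J.comap f).map f = J := by
    rw [Subgroup.map_comap_eq, inf_eq_right]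
    exact hJr
  have h5 : J.comap f ≤ Subgroup.centralizer {t'} := by
    intro y hy
    have h6 := hJC (Subgroup.mem_comap.1 hy)
    rw [Subgroup.mem_centralizer_singleton_iff] at h6 ⊢
    apply hinj
    rw [map_mul, map_mul]
    exact h6
  have h7 : ⁅J.comap f, J.comap f⁆ = J.comap f := by
    apply Subgroup.map_injective hinj
    rw [Subgroup.map_commutator, hmap, hJ]
  have h8 := TorChev.perfect_le (K := ↥E.1) hp cs r ht' hq (by
    apply hinj
    rw [map_pow, map_one]
    exact htq) h5 h7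
  rw [← hmap, Subgroup.map_le_iff_le_comap]
  refine h8.trans (RGD.Sup_le fun a ha => ?_)
  obtain ⟨s, hs, rfl⟩ := (isRoot_iff hp cs a).1 ha.1
  intro y hy
  refine RGD.le_Sup (S := Sx cs hp.isCartan (ch hp) (f t')) ?_ (emb_X hp _ cs ha.1 ⟨y, hy, rfl⟩)
  refine ⟨ha.1, ?_⟩
  rw [hf, emb_ch hp _ hs ht', ha.2, map_one]

end Tower

end Cfsg.Agent.BpExc.TowChev
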