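import Cfsg.Agent.BpExc.LangFr
import Cfsg.Agent.BpExc.TowChev
import Cfsg.Prelude.Def_EvenType
import Cfsg.Agent.FastGrp
import Cfsg.Agent.Prune
set_option linter.all false
prune_inst 0x7f00000000000000000000000000000000000000000000000000000000000000000000000000000000000000000000000000000000000000000000000000000000000000000000000000000000000000003fffffffffffffffffffffffffffbeffbdffffffff
open scoped Cfsg.Agent.FastGrp

/-!
# Frobenius automorphisms of `D.group k`: finiteness of the fixed points (S1332-EXC, helper60)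

* `exists_pow_frob` : `k` locally finite, `IsFrob p e σ`, `e > 0` : some power `σ ^ n`, `n > 0`, is the plain entrywise
  `p ^ (n * e)`-power map;
* `finite_fixed` : `Finite ↥(fixedSubgroup σ)`.
-/

set_option autoImplicit false
set_option linter.dupNamespace false
set_option linter.unusedSectionVars false

namespace Cfsg.Agent.BpExc.Sig

open CoxeterSystem Cfsg Cfsg.Lie Cfsg.Agent.ChevalleyStructure Cfsg.Agent.ChevalleyStructure.Elts
  Cfsg.Agent.ChevalleyStructure.CoxeterGeom Cfsg.Agent.ChevalleyStructure.CoxeterGeomTypes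
  Cfsg.Agent.ChevalleyStructure.NPerm Cfsg.Agent.Tits.Roots Cfsg.Agent.Tits.Core Cfsg.Agent.Nodes.Reps
  Cfsg.Agent.Nodes.BNOf Cfsg.Agent.Nodes.RGDChev Cfsg.Agent.KFacts.RgdChevCoord Cfsg.Agent.LangThm
  Cfsg.Agent.BpExc.Fr Cfsg.Agent.BpExc.LangFr Cfsg.Agent.BpExc.TowChev

universe u

variable {D : ChevalleyDatum} {k : Type u} [Field k]

section Mat

variable {N : Type} [Fintype N] [DecidableEq N]

/-- A matrix over `k` locally finite lies in the general linear group of a finite subfield. -/
theorem exists_sub (hk : LocFin k) (J : GL N k) : ∃ E : Subfield k, Finite E ∧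
    J ∈ (Matrix.GeneralLinearGroup.map (n := N) E.subtype).range := by
  obtain ⟨E, hE, hS⟩ := hk (Set.range (co J) ∪ Set.range (co J⁻¹))
    ((Set.finite_range _).union (Set.finite_range _))
  refine ⟨E, hE, ?_⟩
  have h1 : ∀ i j, (J : Matrix N N k) i j ∈ E := fun i j => hS (Or.inl ⟨(i, j), rfl⟩)
  have h2 : ∀ i j, ((J⁻¹ : GL N k) : Matrix N N k) i j ∈ E := fun i j => hS (Or.inr ⟨(i, j), rfl⟩)
  let A : Matrix N N ↥E := Matrix.of fun i j => ⟨_, h1 i j⟩
  let B : Matrix N N ↥E := Matrix.of fun i j => ⟨_, h2 i j⟩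
  have hA : A.map E.subtype = J := by ext i j; rfl
  have hB : B.map E.subtype = (J⁻¹ : GL N k) := by ext i j; rfl
  have hinj : Function.Injective (fun M : Matrix N N ↥E => M.map E.subtype) :=
    Matrix.map_injective E.subtype.injective
  have h3 : A * B = 1 := by
    apply hinj
    show (A * B).map E.subtype = (1 : Matrix N N ↥E).map E.subtype
    rw [Matrix.map_mul, hA, hB, Matrix.map_one _ (map_zero _) (map_one _), ← Units.val_mul, mul_inv_cancel,
      Units.val_one]
  have h4 : B * A = 1 := by
    apply hinj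
    show (B * A).map E.subtype = (1 : Matrix N N ↥E).map E.subtype
    rw [Matrix.map_mul, hA, hB, Matrix.map_one _ (map_zero _) (map_one _), ← Units.val_mul, inv_mul_cancel,
      Units.val_one]
  exact ⟨⟨A, B, h3, h4⟩, Units.ext hA⟩

/-- The product `J * frob J * ⋯ * frob^(m-1) J`. -/
noncomputable def nrm (p e : ℕ) [Fact p.Prime] [CharP k p] (J : GL N k) : ℕ → GL N k
  | 0 => 1
  | m + 1 => nrm p e J m * frob p (m * e) J

variable (p e : ℕ) [Fact p.Prime] [CharP k p]

theorem nrm_zero (J : GL N k) : nrm p e J 0 = 1 := rfl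

theorem nrm_succ (J : GL N k) (m : ℕ) : nrm p e J (m + 1) = nrm p e J m * frob p (m * e) J := rfl

theorem nrm_add (J : GL N k) (m n : ℕ) : nrm p e J (m + n) = nrm p e J m * frob p (m * e) (nrm p e J n) := by
  induction n with
  | zero => rw [add_zero, nrm_zero, map_one, mul_one]
  | succ n ih => rw [← add_assoc, nrm_succ, ih, nrm_succ, map_mul, frob_frob, add_mul, mul_assoc]

theorem frob_map {E : Subfield k} [CharP ↥E p] (a : ℕ) (J : GL N ↥E) :
    frob p a (Matrix.GeneralLinearGroup.map E.subtype J) = Matrix.GeneralLinearGroup.map E.subtype (frob p a J) := by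
  apply Units.ext
  ext i j
  show iterateFrobenius k p a ((J : Matrix N N ↥E) i j : k) = ((iterateFrobenius ↥E p a ((J : Matrix N N ↥E) i j) : ↥E) : k)
  rw [iterateFrobenius_def, iterateFrobenius_def]
  rfl

theorem frob_inj (a : ℕ) : Function.Injective (frob p a : GL N k → GL N k) := by
  intro g h hgh
  apply co_injective
  funext ij
  have h1 := congrFun (congrArg co hgh) ij
  rw [co_frob, co_frob] at h1
  apply iterateFrobenius_inj k p a
  rw [iterateFrobenius_def, iterateFrobenius_def]
  exact h1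

theorem exists_nrm_eq_one (hk : LocFin k) (J : GL N k) : ∃ n, 0 < n ∧ nrm p e J n = 1 := by
  obtain ⟨E, hE, hJ⟩ := exists_sub hk J
  have hc : CharP ↥E p := charP_lev p E
  have hmem : ∀ m, nrm p e J m ∈ (Matrix.GeneralLinearGroup.map (n := N) E.subtype).range := by
    intro m
    induction m with
    | zero => exact one_mem _
    | succ m ih =>
      rw [nrm_succ]
      refine mul_mem ih ?_
      obtain ⟨J', rfl⟩ := hJ
      exact ⟨frob p (m * e) J', (frob_map p (m * e) J').symm⟩
  have hfin : Finite (GL N ↥E) := by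
    have := Fintype.ofFinite ↥E
    infer_instance
  have hfin2 : Finite ↥(Matrix.GeneralLinearGroup.map (n := N) E.subtype).range :=
    Finite.of_surjective _ (Matrix.GeneralLinearGroup.map (n := N) E.subtype).rangeRestrict_surjective
  obtain ⟨a, b, hab, h⟩ := Finite.exists_ne_map_eq_of_infinite
    (fun m : ℕ => (⟨nrm p e J m, hmem m⟩ : ↥(Matrix.GeneralLinearGroup.map (n := N) E.subtype).range))
  have h' : nrm p e J a = nrm p e J b := congrArg Subtype.val h
  have key : ∀ a b : ℕ, a < b → nrm p e J a = nrm p e J b → ∃ n, 0 < n ∧ nrm p e J n = 1 := by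
    intro a b hab h
    refine ⟨b - a, by omega, ?_⟩
    rw [show b = a + (b - a) by omega, nrm_add, left_eq_mul] at h
    exact frob_inj p (a * e) (h.trans (map_one _).symm)
  rcases lt_or_gt_of_ne hab with h1 | h1
  · exact key a b h1 h'
  · exact key b a h1 h'.symm

end Mat

variable {p e : ℕ} [Fact p.Prime] [CharP k p] {σ : MulAut ↥(D.group k)}

theorem pow_eq {J : GL D.Idx k} (hJ : ∀ g, (σ g : GL D.Idx k) = J * frob p e (g : GL D.Idx k) * J⁻¹) (m : ℕ)
    (g : ↥(D.group k)) : ((σ ^ m) g : GL D.Idx k) =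
      nrm p e J m * frob p (m * e) (g : GL D.Idx k) * (nrm p e J m)⁻¹ := by
  induction m generalizing g with
  | zero =>
    rw [pow_zero, zero_mul, frob_zero, nrm_zero, one_mul, inv_one, mul_one]
    rfl
  | succ m ih =>
    rw [pow_succ, MulAut.mul_apply, ih, hJ, map_mul, map_mul, map_inv, frob_frob, nrm_succ, Nat.succ_mul]
    group

/-- **Some power of `σ` is a plain Frobenius map.** -/
theorem exists_pow_frob (hk : LocFin k) (hσ : IsFrob p e σ) :
    ∃ n, 0 < n ∧ ∀ g, ((σ ^ n) g : GL D.Idx k) = frob p (n * e) (g : GL D.Idx k) := by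
  obtain ⟨J, hJ⟩ := hσ
  obtain ⟨n, hn, h1⟩ := exists_nrm_eq_one p e hk J
  refine ⟨n, hn, fun g => ?_⟩
  rw [pow_eq hJ, h1, one_mul, inv_one, mul_one]

theorem finite_pow_eq {Q : ℕ} (hQ : 1 < Q) : {x : k | x ^ Q = x}.Finite := by
  have h1 : (Polynomial.X ^ Q - Polynomial.X : Polynomial k) ≠ 0 := by
    intro h
    have h2 := congrArg (fun f : Polynomial k => f.coeff Q) h
    simp only [Polynomial.coeff_sub, Polynomial.coeff_X_pow, if_pos, Polynomial.coeff_zero,
      Polynomial.coeff_X, if_neg (by omega : ¬ 1 = Q), sub_zero] at h2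
    exact one_ne_zero h2
  refine (Multiset.finite_toSet (Polynomial.X ^ Q - Polynomial.X : Polynomial k).roots).subset ?_
  intro x (hx : x ^ Q = x)
  show x ∈ (Polynomial.X ^ Q - Polynomial.X : Polynomial k).roots
  rw [Polynomial.mem_roots h1, Polynomial.IsRoot.def, Polynomial.eval_sub, Polynomial.eval_pow, Polynomial.eval_X, hx,
    sub_self]

/-- The fixed points of a plain Frobenius map are finite. -/
theorem finite_frob {N : Type} [Fintype N] [DecidableEq N] {a : ℕ} (ha : 0 < a) :
    {g : GL N k | frob p a g = g}.Finite := by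
  have h1 : 1 < p ^ a := Nat.one_lt_pow ha.ne' (Fact.out : p.Prime).one_lt
  have h2 : {f : N × N → k | ∀ i, f i ∈ {x : k | x ^ p ^ a = x}}.Finite :=
    Set.Finite.pi' fun _ => finite_pow_eq h1
  refine Set.Finite.of_finite_image (f := co) (h2.subset ?_) co_injective.injOn
  rintro _ ⟨g, hg, rfl⟩ ij
  have hg' : frob p a g = g := hg
  show co g ij ^ p ^ a = co g ij
  rw [← co_frob, hg']

/-- **The fixed points of `σ` are finite.** -/
theorem finite_fixed (hk : LocFin k) (he : 0 < e) (hσ : IsFrob p e σ) : Finite ↥(fixedSubgroup σ) := by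
  obtain ⟨n, hn, h1⟩ := exists_pow_frob hk hσ
  have h2 : ∀ g ∈ fixedSubgroup σ, ∀ m, (σ ^ m) g = g := by
    intro g hg m
    have hg' : σ g = g := hg
    induction m with
    | zero => rw [pow_zero]; rfl
    | succ m ih => rw [pow_succ, MulAut.mul_apply, hg', ih]
  have h3 : {g : GL D.Idx k | frob p (n * e) g = g}.Finite := finite_frob (Nat.mul_pos hn he)
  have := h3.to_subtype
  refine Finite.of_injective (β := {g : GL D.Idx k | frob p (n * e) g = g})
    (fun g : ↥(fixedSubgroup σ) => ⟨((g : ↥(D.group k)) : GL D.Idx k), ?_⟩) ?_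
  · show frob p (n * e) ((g : ↥(D.group k)) : GL D.Idx k) = _
    rw [← h1, h2 _ g.2]
  · intro a b hab
    have h4 : ((a : ↥(D.group k)) : GL D.Idx k) = ((b : ↥(D.group k)) : GL D.Idx k) := by
      simpa using hab
    exact Subtype.ext (Subtype.ext h4)

end Cfsg.Agent.BpExc.Sig

private theorem dce_ed75cb55bcc1 : _root_.True := by
  try have : _root_.True := by simp only [_root_.Cfsg.Agent.BpExc.Sig.nrm.congr_simp]
  exact _root_.True.intro
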