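import Cfsg.Agent.BpExc.Fr
set_option linter.all false

/-!
# The pair reduction (S1332-EXC, helper12)

`σ` a frame automorphism of `Y = GG (TL T) (XL X)`, `σ x = x`, `x = z t z⁻¹`, `t ∈ TL T`. If the Lang theorem holds in
`MM t = ⟨X a : χ a t = 1⟩` for the frame automorphisms fixing `t`, then `(x, σ)` is conjugate to `(t, τ)`,
`τ = conj k * σ` a frame automorphism fixing `t` and preserving the positive roots of `Sx t`.

* `pair_reduction`; `fixEquiv : {y | τ y = y, y t = t y} ≃* {y | σ y = y, y x = x y}`.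
-/

set_option autoImplicit false
set_option linter.unusedSectionVars false

namespace Cfsg.Agent.BpExc.Pair

open CoxeterSystem Cfsg.Agent.ChevalleyStructure.CoxeterGeom Cfsg.Agent.Tits.Roots Cfsg.Agent.Tits.Core
  Cfsg.Agent.Tits.RootComb Cfsg.Agent.Tits.Exchange Cfsg.Agent.Nodes.Reps Cfsg.Agent.Nodes.BNOf
  Cfsg.Agent.Nodes.StabComb Cfsg.Agent.Nodes.Bruhat Cfsg.Agent.Nodes.OppDec Cfsg.Agent.Nodes.LeviDec
  Cfsg.Agent.Nodes.NormalForm Cfsg.Agent.Nodes.SubComb Cfsg.Agent.Nodes.Coroot Cfsg.Agent.KFacts.RgdField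
  Cfsg.Agent.BpExc.TorCent Cfsg.Agent.BpExc.Tow Cfsg.Agent.BpExc.Fr
open scoped commutatorElement

/-- The fixed points of `σ` commuting with `x`. -/
def fixC {Y : Type*} [Group Y] (σ : MulAut Y) (x : Y) : Subgroup Y where
  carrier := {y | σ y = y ∧ y * x = x * y}
  mul_mem' := by
    rintro a b ⟨h1, h2⟩ ⟨h3, h4⟩
    refine ⟨by rw [map_mul, h1, h3], ?_⟩
    rw [mul_assoc, h4, ← mul_assoc, h2, mul_assoc]
  one_mem' := ⟨map_one σ, by rw [one_mul, mul_one]⟩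
  inv_mem' := by
    rintro a ⟨h1, h2⟩
    refine ⟨by rw [map_inv, h1], ?_⟩
    have h3 : SemiconjBy a x x := h2
    exact h3.inv_symm_left

theorem mem_fixC {Y : Type*} [Group Y] {σ : MulAut Y} {x y : Y} : y ∈ fixC σ x ↔ σ y = y ∧ y * x = x * y := Iff.rfl

/-- Conjugation of pairs. -/
def fixEquiv {Y : Type*} [Group Y] {σ : MulAut Y} {x z t k : Y} (hz : z⁻¹ * x * z = t) (hk : z⁻¹ * σ z = k) :
    ↥(fixC (MulAut.conj k * σ) t) ≃* ↥(fixC σ x) where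
  toFun y := ⟨z * y.1 * z⁻¹, by
    obtain ⟨h1, h2⟩ := mem_fixC.1 y.2
    have h3 : k * σ y.1 * k⁻¹ = y.1 := h1
    refine mem_fixC.2 ⟨?_, ?_⟩
    · have h4 : σ z = z * k := by rw [← hk]; group
      rw [map_mul, map_mul, map_inv, h4]
      calc z * k * σ y.1 * (z * k)⁻¹ = z * (k * σ y.1 * k⁻¹) * z⁻¹ := by group
        _ = _ := by rw [h3]
    · have h5 : x = z * t * z⁻¹ := by rw [← hz]; group
      rw [h5]
      calc z * y.1 * z⁻¹ * (z * t * z⁻¹) = z * (y.1 * t) * z⁻¹ := by group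
        _ = z * (t * y.1) * z⁻¹ := by rw [h2]
        _ = _ := by group⟩
  invFun y := ⟨z⁻¹ * y.1 * z, by
    obtain ⟨h1, h2⟩ := mem_fixC.1 y.2
    refine mem_fixC.2 ⟨?_, ?_⟩
    · have h4 : σ z = z * k := by rw [← hk]; group
      show k * σ (z⁻¹ * y.1 * z) * k⁻¹ = _
      rw [map_mul, map_mul, map_inv, h4, h1]
      group
    · rw [← hz]
      calc z⁻¹ * y.1 * z * (z⁻¹ * x * z) = z⁻¹ * (y.1 * x) * z := by group
        _ = z⁻¹ * (x * y.1) * z := by rw [h2]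
        _ = _ := by group⟩
  left_inv y := by
    apply Subtype.ext
    show z⁻¹ * (z * y.1 * z⁻¹) * z = y.1
    group
  right_inv y := by
    apply Subtype.ext
    show z * (z⁻¹ * y.1 * z) * z⁻¹ = y.1
    group
  map_mul' a b := by
    apply Subtype.ext
    show z * (a.1 * b.1) * z⁻¹ = z * a.1 * z⁻¹ * (z * b.1 * z⁻¹)
    group

variable {I W Y : Type*} [Fintype I] [DecidableEq I] [Group W] [Group Y] {M : CoxeterMatrix I}
  {cs : CoxeterSystem M W} {A : I → I → ℤ} {h : IsCartan M A} {p : ℕ}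
  {J : Type*} [Preorder J] {T : J → Subgroup Y} {n : I → Y} {X : J → (I → ℤ) → Subgroup Y}
  (H : Tow cs h p T n X) {F : Type*} [Field F] {xx : (I → ℤ) → F → Y} {χ : (I → ℤ) → Y → F}
  (C : Coords cs h (TL T) n (XL X) xx χ)

include H C

/-- the reflections of the roots of `Sx t` are represented in `MM t` -/
theorem exists_rfl_MM [Finite W] (hA : ChAdd cs h (TL T) χ) {t : Y} (ht : t ∈ TL T) {a : I → ℤ}
    (ha : a ∈ Sx cs h χ t) : ∃ w i, a = rep cs h w (sr i) ∧ ∃ m ∈ MM cs h (XL X) χ t, Rp cs H.nsys (rfl' cs w i) m := by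
  obtain ⟨⟨w, i, hw⟩, h2⟩ := id ha
  refine ⟨w, i, hw, ?_⟩
  obtain ⟨j⟩ := H.ne
  obtain ⟨m, hm, hm'⟩ := TorCent.exists_rfl (H.rgd j) w i
  rw [← hw] at hm
  have hneg := chi_neg C ht hA ha
  have h3 : (X j a ⊔ X j (-a)) ≤ MM cs h (XL X) χ t :=
    sup_le ((le_XL j a).trans (RGD.le_Sup ha)) ((le_XL j _).trans (RGD.le_Sup hneg))
  have hTn : T j ≤ Subgroup.normalizer ((X j a ⊔ X j (-a) : Subgroup Y) : Set Y) := by
    intro s hs
    rw [mem_normalizer_iff_cj, cj_sup, (H.rgd j).tor a ha.1 s hs, (H.rgd j).tor (-a) ha.1.neg s hs]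
  have h4 : m ∈ ((T j ⊔ (X j a ⊔ X j (-a)) : Subgroup Y) : Set Y) := hm
  rw [Subgroup.coe_mul_of_left_le_normalizer_right _ _ hTn, Set.mem_mul] at h4
  obtain ⟨s, hs, u, hu, e⟩ := h4
  refine ⟨u, h3 hu, H.rp_up (j := j) ?_⟩
  have h5 := (rp_of_mem (cs := cs) (hN := (H.rgd j).nsys) (inv_mem hs)).mul hm'
  rw [one_mul] at h5
  have h6 : s⁻¹ * m = u := by rw [← e]; group
  rwa [h6] at h5

/-- **The pair reduction.** -/
theorem pair_reduction [Finite W] (hA : ChAdd cs h (TL T) χ) (hG : GG cs h (TL T) (XL X) = ⊤) {σ : MulAut Y}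
    {g : (I → ℤ) ≃+ (I → ℤ)} (Fσ : Fr cs h (TL T) (XL X) σ g) {x z t : Y} (hσx : σ x = x)
    (hz : z⁻¹ * x * z = t) (ht : t ∈ TL T)
    (hL : ∀ (k : Y) (g' : (I → ℤ) ≃+ (I → ℤ)), Fr cs h (TL T) (XL X) (MulAut.conj k * σ) g' →
      (MulAut.conj k * σ) t = t → ∀ m ∈ MM cs h (XL X) χ t, ∃ y ∈ MM cs h (XL X) χ t,
      m = y⁻¹ * (MulAut.conj k * σ) y) :
    ∃ (z' k : Y) (g' : (I → ℤ) ≃+ (I → ℤ)), z'⁻¹ * x * z' = t ∧ z'⁻¹ * σ z' = k ∧
      Fr cs h (TL T) (XL X) (MulAut.conj k * σ) g' ∧ (MulAut.conj k * σ) t = t ∧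
      ∀ a ∈ Sx cs h χ t, 0 ≤ a → 0 ≤ g' a := by
  -- `c σ(t) c⁻¹ = t`
  have e1 : z⁻¹ * σ z * σ t = t * (z⁻¹ * σ z) := by
    have h1 : σ t = (σ z)⁻¹ * x * σ z := by rw [← hz, map_mul, map_mul, map_inv, hσx]
    rw [h1, ← hz]; group
  obtain ⟨m, hm, w, k, hk, hkt, hc⟩ := Fr.exists_form H C ((Fσ.tor t).2 ht) ht
    (c := z⁻¹ * σ z) (by rw [hG]; exact Subgroup.mem_top _) e1
  -- the frame automorphism `τ₀ = conj k * σ`
  have F0 := (Fr.conj H hk).mul Fσ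
  have ht0 : (MulAut.conj k * σ) t = t := by
    show k * σ t * k⁻¹ = t
    rw [hkt]; group
  -- adjustment of the positive system
  let V : Subgroup W :=
    { carrier := {v | ∃ m ∈ MM cs h (XL X) χ t, Rp cs H.nsys v m}
      one_mem' := ⟨1, one_mem _, rp_one⟩
      mul_mem' := by
        rintro a b ⟨m, hm, hm'⟩ ⟨m', hm1, hm2⟩
        exact ⟨m * m', mul_mem hm hm1, hm'.mul hm2⟩
      inv_mem' := by
        rintro a ⟨m, hm, hm'⟩
        exact ⟨m⁻¹, inv_mem hm, hm'.inv⟩ }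
  obtain ⟨v, ⟨m₁, hm₁, hv⟩, hpos⟩ := Fr.exists_adjust (cs := cs) (h := h) (Sx cs h χ t) V
    (fun a ha => exists_rfl_MM H C hA ht ha) (g.trans (repAut cs h w)) (fun a ha => (F0.root a).2 ha)
  have hm₁t : m₁ * t = t * m₁ := by
    have := MM_le_centralizer C ht hm₁
    rw [Subgroup.mem_centralizer_singleton_iff] at this
    exact this
  have F1 := F0.mul (Fr.conj H hv)
  have e2 : MulAut.conj k * σ * MulAut.conj m₁ = MulAut.conj (k * σ m₁) * σ := by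
    ext y
    show k * σ (m₁ * y * m₁⁻¹) * k⁻¹ = k * σ m₁ * σ y * (k * σ m₁)⁻¹
    rw [map_mul, map_mul, map_inv]; group
  rw [e2] at F1
  have ht1 : (MulAut.conj (k * σ m₁) * σ) t = t := by
    rw [← e2]
    show (MulAut.conj k * σ) (m₁ * t * m₁⁻¹) = t
    rw [hm₁t, mul_inv_cancel_right, ht0]
  have hm' : m * ((MulAut.conj k * σ) m₁)⁻¹ ∈ MM cs h (XL X) χ t :=
    mul_mem hm (inv_mem ((F0.mem_MM C ht ht0 m₁).2 hm₁))
  obtain ⟨y, hy, ey⟩ := hL _ _ F1 ht1 _ hm'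
  have hyt : y * t = t * y := by
    have := MM_le_centralizer C ht hy
    rw [Subgroup.mem_centralizer_singleton_iff] at this
    exact this
  refine ⟨z * y⁻¹, k * σ m₁, _, ?_, ?_, F1, ht1, hpos⟩
  · calc (z * y⁻¹)⁻¹ * x * (z * y⁻¹) = y * (z⁻¹ * x * z) * y⁻¹ := by group
      _ = t := by rw [hz, hyt]; group
  · have h3 : z⁻¹ * σ z = y⁻¹ * (k * σ m₁) * σ y := by
      have h4 : m = y⁻¹ * (k * σ m₁ * σ y * (k * σ m₁)⁻¹) * (k * σ m₁ * k⁻¹) := by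
        have h5 : m * (k * σ m₁ * k⁻¹)⁻¹ = y⁻¹ * (k * σ m₁ * σ y * (k * σ m₁)⁻¹) := ey
        rw [← h5]; group
      rw [hc, h4]; group
    rw [map_mul, map_inv]
    calc (z * y⁻¹)⁻¹ * (σ z * (σ y)⁻¹) = y * (z⁻¹ * σ z) * (σ y)⁻¹ := by group
      _ = k * σ m₁ := by rw [h3]; group

end Cfsg.Agent.BpExc.Pair
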