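import Cfsg.Agent.BpTab.Base
import Cfsg.Agent.BpExc.Pair
import Cfsg.Agent.BpExc.TowChev
import Cfsg.Agent.BpExc.LangFr
import Cfsg.Agent.H795.TorCnt
import Cfsg.Agent.CpAut.RgdSub
import Cfsg.Agent.ChevStructure.FieldMap
import Cfsg.Agent.KFacts.RgdChevCoord
import Cfsg.Agent.BpExc.TorChev
import Cfsg.Agent.CpAut.RgdUntw
import Cfsg.Agent.GpExc.Field
import Cfsg.Agent.KFacts.RgdOver
import Cfsg.Agent.KFacts.RgdRigid
import Cfsg.Agent.KFacts.RgdOpp
import Cfsg.Agent.KFacts.RgdTau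
import Mathlib
import Cfsg.Agent.KFacts.RgdLieCharP
import Cfsg.Agent.S1054
import Cfsg.Agent.S1055
import Cfsg.Agent.BpExc.Emb
import Cfsg.Agent.BpTab.Rows
import Cfsg.Agent.BpLieP.Untw_m3
import Cfsg.Prelude.Def_LieChev
import Cfsg.Agent.S0001
import Cfsg.Agent.S1033
import Cfsg.Agent.S1034
import Cfsg.Agent.ChevalleyStructure.TorusRange
import Cfsg.Agent.BpExc.NChev
import Cfsg.Agent.BpExc.Fr
import Cfsg.Agent.ChevalleyStructure.GraphSymm
import Cfsg.Agent.Nodes.RGDTwE6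
import Cfsg.Agent.Nodes.RGDTwD4
import Cfsg.Agent.Lib.FinFast
import Cfsg.Agent.FastGrp
import Cfsg.Agent.Prune
set_option linter.all false

section
prune_inst 0x7ffcbcf8abb8a1dfff7f7e7df6d0cffc19909fffa6dff9433fe021ef0b1f230809c52b851de000fc0ec2403410b87843fb7eeeffe86bdc7ffffd5ff41ffbee0fa5e7350851948c340f380ff603f0678e7f3fffffffffffffffffffffffffffbeffbdffffffff

-- part: BpExc/Asm
section
set_option linter.all false
open scoped Cfsg.Agent.FastGrp

-- merged: Cfsg.Agent.BpExc.Glue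
section

/-!
# S1332-EXC: from the ambient group to the finite simple group (helper79)

`e : K₀ →* Y` injective, `σ : MulAut Y`, `e K₀` is a normal subgroup of the fixed points of `σ`.

* `fixedSubgroup_pow` : `C(x ^ i) = C(x)`, `x ^ p = 1`, `i` prime to `p`;
* `good_inn` : `x` is induced by `y ∈ Y^σ`; `Good p (C_Y(y)^σ) → Good p (C_{K₀}(x))`;
* `good_fld` : `x` is induced by `ψ : MulAut Y` with `Y^ψ ≤ Y^σ`; `Good p (Y^ψ) → Good p (C_{K₀}(x))`;
* `bps_of` : both together give `BpS p K₀`.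
-/

set_option autoImplicit false
set_option linter.unusedSectionVars false

namespace Cfsg.Agent.BpExc.Glue

open Subgroup Cfsg Cfsg.Agent.BpTab

universe u v

section

variable {Y : Type u} [Group Y] {K₀ : Type v} [Group K₀]

theorem mem_fixed {G : Type*} [Group G] {x : MulAut G} {g : G} : g ∈ fixedSubgroup x ↔ x g = g := Iff.rfl

theorem mem_fixed_pow {G : Type*} [Group G] {x : MulAut G} {g : G} (h : x g = g) (i : ℕ) : (x ^ i) g = g := by
  induction i with
  | zero => rfl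
  | succ i ih => rw [pow_succ, MulAut.mul_apply, h, ih]

theorem fixedSubgroup_pow {G : Type*} [Group G] {x : MulAut G} {p i : ℕ} (hx : x ^ p = 1) (hi : i.Coprime p) :
    fixedSubgroup (x ^ i) = fixedSubgroup x := by
  apply le_antisymm
  · intro g hg
    obtain ⟨m, hm⟩ : ∃ m : ℕ, x = (x ^ i) ^ m := by
      have h2 : orderOf x ∣ p := orderOf_dvd_of_pow_eq_one hx
      have h3 : i.Coprime (orderOf x) := hi.coprime_dvd_right h2
      have h4 : x ∈ Subgroup.zpowers (x ^ i) := by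
        have h5 : Subgroup.zpowers (x ^ i) = Subgroup.zpowers x := by
          rcases Nat.eq_zero_or_pos (orderOf x) with h0 | h0
          · rw [h0, Nat.coprime_zero_right] at h3
            rw [h3, pow_one]
          · apply le_antisymm
            · rw [Subgroup.zpowers_le]; exact Subgroup.pow_mem _ (Subgroup.mem_zpowers x) i
            · rw [Subgroup.zpowers_le]
              by_cases h7 : orderOf x = 1
              · rw [orderOf_eq_one_iff.1 h7]; exact one_mem _
              obtain ⟨m, -, hm⟩ := Nat.exists_mul_mod_eq_one_of_coprime h3 (by omega)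
              refine ⟨m, ?_⟩
              show (x ^ i) ^ (m : ℤ) = x
              rw [zpow_natCast, ← pow_mul, ← pow_mod_orderOf, hm, pow_one]
        rw [h5]; exact Subgroup.mem_zpowers x
      obtain ⟨m, hm⟩ := h4
      have hfin : (x ^ i) ^ p = 1 := by rw [← pow_mul, mul_comm, pow_mul, hx, one_pow]
      rcases Nat.eq_zero_or_pos p with hp | hp
      · subst hp
        rw [Nat.coprime_zero_right] at hi
        exact ⟨1, by rw [hi, pow_one, pow_one]⟩
      refine ⟨(m % p).toNat, ?_⟩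
      have h5 : (((m % p).toNat : ℕ) : ℤ) = m % p := Int.toNat_of_nonneg (Int.emod_nonneg _ (by omega))
      have h6 : (x ^ i) ^ (m % p) = (x ^ i) ^ m := by
        conv_rhs => rw [← Int.emod_add_mul_ediv m p, zpow_add, zpow_mul, zpow_natCast, hfin, one_zpow, mul_one]
      have h7 : (x ^ i) ^ ((m % p).toNat) = (x ^ i) ^ (m % p) := by rw [← zpow_natCast, h5]
      rw [h7, h6]
      exact hm.symm
    rw [mem_fixed, hm]
    exact mem_fixed_pow hg m
  · intro g hg
    exact mem_fixed_pow hg i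

variable (e : K₀ →* Y) (he : Function.Injective e) {σ : MulAut Y}
  (hn : ∀ g, σ g = g → ∀ k, ∃ k', g * e k * g⁻¹ = e k')

include he hn in
/-- The common step: `H ≤ Y^σ` finite, `C_{K₀}(x)` is the preimage of `H`. -/
theorem good_of_comap {p : ℕ} [Fact p.Prime] {x : MulAut K₀} (H : Subgroup Y) [Finite ↥H]
    (hH : ∀ g ∈ H, σ g = g) (hx : ∀ k, x k = k ↔ e k ∈ H) (h : Good p ↥H) : Good p ↥(fixedSubgroup x) := by
  let f : ↥(fixedSubgroup x) →* ↥H :=
    { toFun := fun k => ⟨e k.1, (hx k.1).1 k.2⟩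
      map_one' := Subtype.ext (map_one e)
      map_mul' := fun a b => Subtype.ext (map_mul e _ _) }
  have hf : Function.Injective f := fun a b hab => Subtype.ext (he (congrArg Subtype.val hab))
  have hN : f.range.Normal := by
    constructor
    rintro _ ⟨k, rfl⟩ g
    obtain ⟨k', hk'⟩ := hn g.1 (hH g.1 g.2) k.1
    have h1 : e k' ∈ H := by
      rw [← hk']
      exact mul_mem (mul_mem g.2 ((hx k.1).1 k.2)) (inv_mem g.2)
    exact ⟨⟨k', (hx k').2 h1⟩, Subtype.ext hk'.symm⟩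
  have : Finite ↥(fixedSubgroup x) := Finite.of_injective f hf
  exact (h.subnormal hN.isSubnormal).congr (MonoidHom.ofInjective hf).symm

include he hn in
/-- inner-diagonal automorphisms -/
theorem good_inn {p : ℕ} [Fact p.Prime] (hfix : ∀ k, σ (e k) = e k) {x : MulAut K₀} {y : Y}
    (hx : ∀ k, e (x k) = y * e k * y⁻¹) [Finite ↥(fixedSubgroup σ ⊓ centralizer {y})]
    (h : Good p ↥(fixedSubgroup σ ⊓ centralizer {y})) : Good p ↥(fixedSubgroup x) := by
  refine good_of_comap e he hn (fixedSubgroup σ ⊓ centralizer {y}) (fun g hg => hg.1) (fun k => ?_) h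
  constructor
  · intro hk
    refine ⟨hfix k, Subgroup.mem_centralizer_singleton_iff.2 ?_⟩
    have h1 := hx k
    rw [hk] at h1
    exact eq_mul_inv_iff_mul_eq.1 h1
  · intro hk
    apply he
    rw [hx k, mul_inv_eq_iff_eq_mul]
    exact (Subgroup.mem_centralizer_singleton_iff.1 hk.2).symm

include he hn in
/-- field automorphisms -/
theorem good_fld {p : ℕ} [Fact p.Prime] {x : MulAut K₀} {ψ : MulAut Y} (hx : ∀ k, e (x k) = ψ (e k))
    (hle : fixedSubgroup ψ ≤ fixedSubgroup σ) [Finite ↥(fixedSubgroup ψ)] (h : Good p ↥(fixedSubgroup ψ)) :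
    Good p ↥(fixedSubgroup x) := by
  refine good_of_comap e he hn (fixedSubgroup ψ) (fun g hg => hle hg) (fun k => ?_) h
  constructor
  · intro hk
    show ψ (e k) = e k
    rw [← hx, hk]
  · intro hk
    apply he
    rw [hx]
    exact hk

end

end Cfsg.Agent.BpExc.Glue

end

-- merged: Cfsg.Agent.BpExc.Good
section

/-!
# `Good p` of the centraliser from `Good p` of `(MM t · T)^τ` (S1332-EXC, helper12)

* `normalizer_MM` : `C(t)` normalises `MM t` and `MM t ⊔ T` (in the union);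
* `good_fixC` : `Good p ((MM t ⊔ T) ⊓ Y^τ) → Good p (C(t) ⊓ Y^τ)`;
* `good_pair` : the combination with the pair reduction;
* `good_field` : automorphisms `conj c * φ`, `c = z⁻¹ φ(z)`.
-/

set_option autoImplicit false
set_option linter.unusedSectionVars false

namespace Cfsg.Agent.BpExc.Good

open CoxeterSystem Cfsg.Agent.ChevalleyStructure.CoxeterGeom Cfsg.Agent.Tits.Roots Cfsg.Agent.Tits.Core
  Cfsg.Agent.Tits.RootComb Cfsg.Agent.Tits.Exchange Cfsg.Agent.Nodes.Reps Cfsg.Agent.Nodes.BNOf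
  Cfsg.Agent.Nodes.StabComb Cfsg.Agent.Nodes.Bruhat Cfsg.Agent.Nodes.OppDec Cfsg.Agent.Nodes.LeviDec
  Cfsg.Agent.Nodes.NormalForm Cfsg.Agent.Nodes.SubComb Cfsg.Agent.Nodes.Coroot Cfsg.Agent.KFacts.RgdField
  Cfsg.Agent.BpExc.TorCent Cfsg.Agent.BpExc.Tow Cfsg.Agent.BpExc.Fr Cfsg.Agent.BpExc.Pair
open Cfsg Cfsg.Agent.BpTab
open scoped commutatorElement

variable {I W Y : Type*} [Fintype I] [DecidableEq I] [Group W] [Group Y] {M : CoxeterMatrix I}
  {cs : CoxeterSystem M W} {A : I → I → ℤ} {h : IsCartan M A} {r : ℕ}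
  {J : Type*} [Preorder J] {T : J → Subgroup Y} {n : I → Y} {X : J → (I → ℤ) → Subgroup Y}
  (H : Tow cs h r T n X) {F : Type*} [Field F] {xx : (I → ℤ) → F → Y} {χ : (I → ℤ) → Y → F}
  (C : Coords cs h (TL T) n (XL X) xx χ)

include H C

theorem cj_MM_rp {t : Y} (ht : t ∈ TL T) {w : W} {k : Y} (hk : Rp cs H.nsys w k) (hkt : k * t = t * k) :
    cj k (MM cs h (XL X) χ t) = MM cs h (XL X) χ t := by
  have F0 := Fr.conj H hk
  have h1 : MulAut.conj k t = t := by
    show k * t * k⁻¹ = t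
    rw [hkt]; group
  ext y
  rw [mem_cj, ← F0.mem_MM C ht h1]
  show k * (k⁻¹ * y * k) * k⁻¹ ∈ _ ↔ _
  have e : k * (k⁻¹ * y * k) * k⁻¹ = y := by group
  rw [e]

theorem normalizer_MM [Finite W] (hG : GG cs h (TL T) (XL X) = ⊤) {t : Y} (ht : t ∈ TL T) {c : Y}
    (hc : c * t = t * c) : c ∈ Subgroup.normalizer (MM cs h (XL X) χ t : Set Y) ∧
      c ∈ Subgroup.normalizer ((MM cs h (XL X) χ t ⊔ TL T : Subgroup Y) : Set Y) := by
  obtain ⟨m, hm, w, k, hk, hkt, rfl⟩ := Fr.exists_form H C ht ht (c := c) (by rw [hG]; exact Subgroup.mem_top _) hc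
  have h1 := cj_MM_rp H C ht hk hkt
  constructor
  · exact mul_mem (Subgroup.le_normalizer hm) (mem_normalizer_iff_cj.2 h1)
  · refine mul_mem (Subgroup.le_normalizer (Subgroup.mem_sup_left hm)) (mem_normalizer_iff_cj.2 ?_)
    rw [cj_sup, h1]
    congr 1
    exact mem_normalizer_iff_cj.1 hk.mem_normalizer

theorem MMT_le [Finite W] (hTc : ∀ s ∈ TL T, ∀ t ∈ TL T, s * t = t * s) {t : Y} (ht : t ∈ TL T) :
    MM cs h (XL X) χ t ⊔ TL T ≤ Subgroup.centralizer {t} := by
  refine sup_le (MM_le_centralizer C ht) fun s hs => ?_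
  rw [Subgroup.mem_centralizer_singleton_iff]
  exact hTc s hs t ht

/-- **The centraliser is good, if the fixed points in `MM t · T` are.** -/
theorem good_fixC [Finite W] (hG : GG cs h (TL T) (XL X) = ⊤) (hTc : ∀ s ∈ TL T, ∀ t ∈ TL T, s * t = t * s)
    {τ : MulAut Y} {t : Y} (ht : t ∈ TL T) {p : ℕ} [Fact p.Prime] [Finite ↥(fixC τ t)]
    (hperf : ∀ K : Subgroup Y, Finite K → K ≤ Subgroup.centralizer {t} → ⁅K, K⁆ = K → K ≤ MM cs h (XL X) χ t)
    (hgood : Good p ↥((MM cs h (XL X) χ t ⊔ TL T) ⊓ fixedSubgroup τ)) : Good p ↥(fixC τ t) := by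
  set N : Subgroup ↥(fixC τ t) := (MM cs h (XL X) χ t ⊔ TL T).subgroupOf (fixC τ t) with hNdef
  have hmem : ∀ y : ↥(fixC τ t), y ∈ N ↔ (y : Y) ∈ MM cs h (XL X) χ t ⊔ TL T := fun y => Subgroup.mem_subgroupOf
  have hN : N.Normal := by
    refine ⟨fun y hy c => ?_⟩
    rw [hmem] at hy ⊢
    have h1 := (normalizer_MM H C hG ht (c := (c : Y)) (mem_fixC.1 c.2).2).2
    exact (Subgroup.mem_normalizer_iff.1 h1 y.1).1 hy
  have hfix : (MM cs h (XL X) χ t ⊔ TL T) ⊓ fixedSubgroup τ = N.map (fixC τ t).subtype := by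
    ext y
    constructor
    · rintro ⟨h1, h2⟩
      have h3 : y ∈ fixC τ t := by
        refine mem_fixC.2 ⟨h2, ?_⟩
        have := MMT_le H C hTc ht h1
        rw [Subgroup.mem_centralizer_singleton_iff] at this
        exact this
      exact ⟨⟨y, h3⟩, (hmem _).2 h1, rfl⟩
    · rintro ⟨⟨y, h3⟩, h1, rfl⟩
      exact ⟨(hmem _).1 h1, (mem_fixC.1 h3).1⟩
  have hgN : Good p ↥N := by
    rw [hfix] at hgood
    have : Finite ↥(N.map (fixC τ t).subtype) := Finite.of_equiv _ (N.equivMapOfInjective _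
      (Subgroup.subtype_injective _)).toEquiv
    exact hgood.congr (N.equivMapOfInjective _ (Subgroup.subtype_injective _)).symm
  refine Good.of_normal hN hgN ?_
  intro y hy
  -- the `p`-layer is perfect
  have h1 : ⁅pLayer p ↥(fixC τ t), pLayer p ↥(fixC τ t)⁆ = pLayer p ↥(fixC τ t) := pLayer_perfect
  have h2 : ((pLayer p ↥(fixC τ t)).map (fixC τ t).subtype) ≤ MM cs h (XL X) χ t := by
    refine hperf _ ?_ ?_ ?_
    · exact Finite.of_surjective (fun z : ↥(pLayer p ↥(fixC τ t)) => (⟨(z : ↥(fixC τ t)), z, z.2, rfl⟩ :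
        ↥((pLayer p ↥(fixC τ t)).map (fixC τ t).subtype))) (by
          rintro ⟨_, z, hz, rfl⟩
          exact ⟨⟨z, hz⟩, rfl⟩)
    · rintro _ ⟨z, -, rfl⟩
      rw [Subgroup.mem_centralizer_singleton_iff]
      exact (mem_fixC.1 z.2).2
    · rw [← Subgroup.map_commutator, h1]
  rw [hmem]
  exact Subgroup.mem_sup_left (h2 ⟨y, hy, rfl⟩)

/-- **The centraliser of a toral pair.** -/
theorem good_pair [Finite W] (hA : ChAdd cs h (TL T) χ) (hG : GG cs h (TL T) (XL X) = ⊤)
    (hTc : ∀ s ∈ TL T, ∀ t ∈ TL T, s * t = t * s) {σ : MulAut Y}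
    {g : (I → ℤ) ≃+ (I → ℤ)} (Fσ : Fr cs h (TL T) (XL X) σ g) {x z t : Y} (hσx : σ x = x)
    (hz : z⁻¹ * x * z = t) (ht : t ∈ TL T) {p : ℕ} [Fact p.Prime] [Finite ↥(fixC σ x)]
    (hL : ∀ (k : Y) (g' : (I → ℤ) ≃+ (I → ℤ)), Fr cs h (TL T) (XL X) (MulAut.conj k * σ) g' →
      (MulAut.conj k * σ) t = t → ∀ m ∈ MM cs h (XL X) χ t, ∃ y ∈ MM cs h (XL X) χ t,
      m = y⁻¹ * (MulAut.conj k * σ) y)
    (hperf : ∀ K : Subgroup Y, Finite K → K ≤ Subgroup.centralizer {t} → ⁅K, K⁆ = K → K ≤ MM cs h (XL X) χ t)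
    (hEnd : ∀ (k : Y) (g' : (I → ℤ) ≃+ (I → ℤ)), Fr cs h (TL T) (XL X) (MulAut.conj k * σ) g' →
      (MulAut.conj k * σ) t = t → (∀ a ∈ Sx cs h χ t, 0 ≤ a → 0 ≤ g' a) →
      Good p ↥((MM cs h (XL X) χ t ⊔ TL T) ⊓ fixedSubgroup (MulAut.conj k * σ))) : Good p ↥(fixC σ x) := by
  obtain ⟨z', k, g', h1, h2, F', h3, h4⟩ := pair_reduction H C hA hG Fσ hσx hz ht hL
  have e := fixEquiv (σ := σ) h1 h2
  have : Finite ↥(fixC (MulAut.conj k * σ) t) := Finite.of_equiv _ e.symm.toEquiv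
  exact (good_fixC H C hG hTc ht hperf (hEnd k g' F' h3 h4)).congr e

omit H C in
/-- The fixed points of `conj c * φ`, `c = z⁻¹ φ(z)`. -/
def fieldEquiv {φ : MulAut Y} {c z : Y} (hc : c = z⁻¹ * φ z) :
    ↥(fixedSubgroup φ) ≃* ↥(fixedSubgroup (MulAut.conj c * φ)) where
  toFun y := ⟨z⁻¹ * y.1 * z, by
    have h1 : φ y.1 = y.1 := y.2
    show c * φ (z⁻¹ * y.1 * z) * c⁻¹ = z⁻¹ * y.1 * z
    rw [map_mul, map_mul, map_inv, h1, hc]; group⟩
  invFun y := ⟨z * y.1 * z⁻¹, by
    have h1 : c * φ y.1 * c⁻¹ = y.1 := y.2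
    show φ (z * y.1 * z⁻¹) = z * y.1 * z⁻¹
    have h2 : φ z = z * c := by rw [hc]; group
    rw [map_mul, map_mul, map_inv, h2]
    calc z * c * φ y.1 * (z * c)⁻¹ = z * (c * φ y.1 * c⁻¹) * z⁻¹ := by group
      _ = _ := by rw [h1]⟩
  left_inv y := by
    apply Subtype.ext
    show z * (z⁻¹ * y.1 * z) * z⁻¹ = y.1
    group
  right_inv y := by
    apply Subtype.ext
    show z⁻¹ * (z * y.1 * z⁻¹) * z = y.1
    group
  map_mul' a b := by
    apply Subtype.ext
    show z⁻¹ * (a.1 * b.1) * z = z⁻¹ * a.1 * z * (z⁻¹ * b.1 * z)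
    group

omit H C in
/-- **Field type automorphisms.** -/
theorem good_field {φ : MulAut Y} {c z : Y} (hc : c = z⁻¹ * φ z) {p : ℕ} [Fact p.Prime]
    [Finite ↥(fixedSubgroup φ)] (hg : Good p ↥(fixedSubgroup φ)) : Good p ↥(fixedSubgroup (MulAut.conj c * φ)) := by
  have e := fieldEquiv hc
  have : Finite ↥(fixedSubgroup (MulAut.conj c * φ)) := Finite.of_equiv _ e.toEquiv
  exact hg.congr e

end Cfsg.Agent.BpExc.Good

end

-- merged: Cfsg.Agent.BpExc.Asm
section

/-!
# S1332-EXC: assembly in the group `D.group k`, `k` algebraically closed (helper79)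

* `finite_conj` : `fixedSubgroup (conj (z⁻¹ * σ z) * σ)` is isomorphic to `fixedSubgroup σ`;
* `End` : the property proved by the geometry: `Good p ((MM t ⊔ T) ⊓ Y^τ)`;
* `good_inner` : `Good p (fixC σ x)`, `x ^ p = 1`, `σ x = x`; `good_fld` : `Good p (fixedSubgroup (conj y * φ))`;
* `bps` : `BpS p K₀`.
-/

set_option autoImplicit false
set_option linter.unusedSectionVars false

namespace Cfsg.Agent.BpExc.Asm

open CoxeterSystem Cfsg Cfsg.Lie Cfsg.Agent.ChevalleyStructure Cfsg.Agent.ChevalleyStructure.Elts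
  Cfsg.Agent.ChevalleyStructure.CoxeterGeom Cfsg.Agent.ChevalleyStructure.CoxeterGeomTypes
  Cfsg.Agent.ChevalleyStructure.NPerm Cfsg.Agent.Tits.Roots Cfsg.Agent.Tits.Core Cfsg.Agent.Nodes.Reps
  Cfsg.Agent.Nodes.BNOf Cfsg.Agent.Nodes.RGDChev Cfsg.Agent.KFacts.RgdChevCoord Cfsg.Agent.KFacts.RgdField
  Cfsg.Agent.BpExc.TorCent Cfsg.Agent.BpExc.Tow Cfsg.Agent.BpExc.Fr Cfsg.Agent.BpExc.Pair Cfsg.Agent.LangThm
  Cfsg.Agent.BpTab Cfsg.Agent.BpExc.TowChev Cfsg.Agent.BpExc.LangFr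

universe u v

/-! ### conjugate automorphisms -/

section

variable {Y : Type u} [Group Y]

theorem fixC_one (σ : MulAut Y) : fixC σ 1 = fixedSubgroup σ := by
  ext y
  constructor
  · rintro ⟨h, -⟩; exact h
  · intro h; exact ⟨h, by rw [mul_one, one_mul]⟩

theorem fixC_eq (σ : MulAut Y) (x : Y) : fixC σ x = fixedSubgroup σ ⊓ Subgroup.centralizer {x} := by
  ext y
  constructor
  · rintro ⟨h, h'⟩; exact ⟨h, Subgroup.mem_centralizer_singleton_iff.2 h'⟩
  · rintro ⟨h, h'⟩; exact ⟨h, Subgroup.mem_centralizer_singleton_iff.1 h'⟩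

theorem fixC_le (σ : MulAut Y) (x : Y) : fixC σ x ≤ fixedSubgroup σ := fun _ h => h.1

theorem finite_conj {σ : MulAut Y} {z k : Y} (hk : z⁻¹ * σ z = k) [Finite ↥(fixedSubgroup σ)] :
    Finite ↥(fixedSubgroup (MulAut.conj k * σ)) :=
  Finite.of_equiv _ (Good.fieldEquiv (φ := σ) hk.symm).toEquiv

end

section

variable {D : ChevalleyDatum} {l : ℕ} {M : CoxeterMatrix (Fin l)} (hp : IsType D l M) {k : Type u} [Field k]
  {W : Type v} [Group W] (cs : CoxeterSystem M W) {r : ℕ} [Fact r.Prime] [CharP k r]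

/-- What the geometry proves. -/
def End (r : ℕ) [Fact r.Prime] [CharP k r] (p : ℕ) : Prop :=
  ∀ (t : ↥(D.group k)) (τ : MulAut ↥(D.group k)) (g : (Fin l → ℤ) ≃+ (Fin l → ℤ)) (e : ℕ),
    t ∈ TT D k → t ^ p = 1 → 0 < e → IsFrob r e τ → Fr cs hp.isCartan (TT D k) (XX D l k) τ g → τ t = t →
    (∀ a ∈ Sx cs hp.isCartan (ch hp) t, 0 ≤ a → 0 ≤ g a) → Finite ↥(fixedSubgroup τ) →
    Good p ↥((MM cs hp.isCartan (XX D l k) (ch hp) t ⊔ TT D k) ⊓ fixedSubgroup τ)

variable {p : ℕ} [Fact p.Prime]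

/-- **Inner-diagonal case.** -/
theorem good_inner [IsAlgClosed k] (hk : LocFin k) (hEnd : End hp cs (k := k) r p)
    {σ : MulAut ↥(D.group k)} {g : (Fin l → ℤ) ≃+ (Fin l → ℤ)} {e : ℕ} (he : 0 < e) (hσ : IsFrob r e σ)
    (Fσ : Fr cs hp.isCartan (TT D k) (XX D l k) σ g) [Finite ↥(fixedSubgroup σ)] {x : ↥(D.group k)}
    (hσx : σ x = x) (hxp : x ^ p = 1) {z : ↥(D.group k)} (hz : z * x * z⁻¹ ∈ TT D k) : Good p ↥(fixC σ x) := by
  have := finite_W hp cs
  have hTL := TL_eq hp hk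
  have hXL := XL_eq hp hk
  have C := coordsL hp cs hk r
  have hA := chAddL hp cs hk r
  have hG := GG_eq_top hp cs hk
  have Fσ' : Fr cs hp.isCartan (TL (Tj hp (k := k))) (XL (Xj hp (k := k))) σ g := by rw [hTL, hXL]; exact Fσ
  have hfin : Finite ↥(fixC σ x) := Finite.of_injective (Subgroup.inclusion (fixC_le σ x))
    (Subgroup.inclusion_injective _)
  set t : ↥(D.group k) := z * x * z⁻¹ with ht
  have htp : t ^ p = 1 := by rw [ht, conj_pow, hxp, mul_one, mul_inv_cancel]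
  have ht' : t ∈ TL (Tj hp (k := k)) := by rw [hTL]; exact hz
  have C' : Coords cs hp.isCartan (TL (Tj hp (k := k))) (nc hp k) (XL (Xj hp (k := k))) (xc hp) (ch hp) := by
    rw [hTL, hXL]; exact C
  have hA' : ChAdd cs hp.isCartan (TL (Tj hp (k := k))) (ch (K := k) hp) := by rw [hTL]; exact hA
  have hTc : ∀ s ∈ TL (Tj hp (k := k)), ∀ t ∈ TL (Tj hp (k := k)), s * t = t * s := by
    rw [hTL]; exact TorChev.TT_comm hp
  refine Good.good_pair (tow hp cs hk r) C' hA' hG hTc Fσ' hσx (z := z⁻¹) (t := t) (by rw [ht]; group) ht'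
    (fun k' g' F' htt m hm => ?_) (fun K hKf hK hKp => ?_) (fun k' g' F' htt hpos => ?_)
  · have h1 := fun a => F'.mem_Sx C' ht' htt a
    rw [hTL, hXL] at F'
    rw [hXL] at hm ⊢
    exact lang_fr hp cs he (hσ.conj_mul k') F' (S := Sx cs hp.isCartan (ch hp) t) (fun a ha => ha.1)
      (fun a ha => (h1 a).2 ha) hm
  · rw [hXL]
    exact perfect_leL hp cs hk r hz Fact.out htp hK hKp
  · rw [hTL, hXL] at F' ⊢
    obtain ⟨z', hz'⟩ := lang_all hp cs he hσ Fσ 1 k'
    rw [map_one, one_mul] at hz'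
    exact hEnd t _ g' e hz htp he (hσ.conj_mul k') F' htt hpos (finite_conj hz'.symm)

/-- **The pair reduction in `D.group k`** (no property of groups involved). -/
theorem exists_pair [IsAlgClosed k] (hk : LocFin k)
    {σ : MulAut ↥(D.group k)} {g : (Fin l → ℤ) ≃+ (Fin l → ℤ)} {e : ℕ} (he : 0 < e) (hσ : IsFrob r e σ)
    (Fσ : Fr cs hp.isCartan (TT D k) (XX D l k) σ g) [Finite ↥(fixedSubgroup σ)] {x : ↥(D.group k)}
    (hσx : σ x = x) (hxp : x ^ p = 1) {z : ↥(D.group k)} (hz : z * x * z⁻¹ ∈ TT D k) :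
    ∃ (t : ↥(D.group k)) (τ : MulAut ↥(D.group k)) (g' : (Fin l → ℤ) ≃+ (Fin l → ℤ)),
      t ∈ TT D k ∧ t ^ p = 1 ∧ IsFrob r e τ ∧ Fr cs hp.isCartan (TT D k) (XX D l k) τ g' ∧ τ t = t ∧
      (∀ a ∈ Sx cs hp.isCartan (ch hp) t, 0 ≤ a → 0 ≤ g' a) ∧ Finite ↥(fixedSubgroup τ) ∧
      Nonempty (↥(fixC τ t) ≃* ↥(fixC σ x)) := by
  have := finite_W hp cs
  have hTL := TL_eq hp hk
  have hXL := XL_eq hp hk
  have C := coordsL hp cs hk r
  have hA := chAddL hp cs hk r
  have hG := GG_eq_top hp cs hk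
  have Fσ' : Fr cs hp.isCartan (TL (Tj hp (k := k))) (XL (Xj hp (k := k))) σ g := by rw [hTL, hXL]; exact Fσ
  set t : ↥(D.group k) := z * x * z⁻¹ with ht
  have htp : t ^ p = 1 := by rw [ht, conj_pow, hxp, mul_one, mul_inv_cancel]
  have ht' : t ∈ TL (Tj hp (k := k)) := by rw [hTL]; exact hz
  have C' : Coords cs hp.isCartan (TL (Tj hp (k := k))) (nc hp k) (XL (Xj hp (k := k))) (xc hp) (ch hp) := by
    rw [hTL, hXL]; exact C
  have hA' : ChAdd cs hp.isCartan (TL (Tj hp (k := k))) (ch (K := k) hp) := by rw [hTL]; exact hA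
  obtain ⟨z', k', g', h1, h2, h3, h4, h5⟩ := pair_reduction (tow hp cs hk r) C' hA' hG Fσ' hσx (z := z⁻¹) (t := t)
    (by rw [ht]; group) ht' (fun k' g' F' htt m hm => by
      have h1 := fun a => F'.mem_Sx C' ht' htt a
      rw [hTL, hXL] at F'
      rw [hXL] at hm ⊢
      exact lang_fr hp cs he (hσ.conj_mul k') F' (S := Sx cs hp.isCartan (ch hp) t) (fun a ha => ha.1)
        (fun a ha => (h1 a).2 ha) hm)
  rw [hTL, hXL] at h3
  exact ⟨t, MulAut.conj k' * σ, g', hz, htp, hσ.conj_mul k', h3, h4, h5, finite_conj h2, ⟨fixEquiv h1 h2⟩⟩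

include hp cs in
/-- **Field case.** -/
theorem good_fld [IsAlgClosed k] (hk : LocFin k) (hEnd : End hp cs (k := k) r p)
    {φ : MulAut ↥(D.group k)} {g : (Fin l → ℤ) ≃+ (Fin l → ℤ)} {e : ℕ} (he : 0 < e) (hφ : IsFrob r e φ)
    (Fφ : Fr cs hp.isCartan (TT D k) (XX D l k) φ g) (c : ↥(D.group k))
    [Finite ↥(fixedSubgroup (MulAut.conj c * φ))] : Good p ↥(fixedSubgroup (MulAut.conj c * φ)) := by
  obtain ⟨z, hz⟩ := lang_all hp cs he hφ Fφ 1 c
  rw [map_one, one_mul] at hz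
  have hfin : Finite ↥(fixedSubgroup φ) := Finite.of_equiv _ (Good.fieldEquiv hz).symm.toEquiv
  refine Good.good_field hz ?_
  have h1 := good_inner hp cs (p := p) hk hEnd he hφ Fφ (x := 1) (map_one φ) (one_pow p) (z := 1)
    (by rw [mul_one, mul_inv_cancel]; exact one_mem _)
  rwa [fixC_one] at h1

include hp cs in
/-- **The assembly.** `K₀` inside the fixed points of `σ`. -/
theorem bps [IsAlgClosed k] (hk : LocFin k) (hEnd : End hp cs (k := k) r p)
    (hT : ∀ y : ↥(D.group k), y ^ p = 1 → ∃ z : ↥(D.group k), z * y * z⁻¹ ∈ TT D k)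
    {σ : MulAut ↥(D.group k)} {g : (Fin l → ℤ) ≃+ (Fin l → ℤ)} {e : ℕ} (he : 0 < e) (hσ : IsFrob r e σ)
    (Fσ : Fr cs hp.isCartan (TT D k) (XX D l k) σ g) [Finite ↥(fixedSubgroup σ)]
    {K₀ : Type v} [Group K₀] (ι : K₀ →* ↥(D.group k)) (hι : Function.Injective ι) (hfix : ∀ a, σ (ι a) = ι a)
    (hn : ∀ y, σ y = y → ∀ a, ∃ b, y * ι a * y⁻¹ = ι b)
    (hfam : ∀ x : MulAut K₀, orderOf x = p →
      (∃ y : ↥(D.group k), y ^ p = 1 ∧ σ y = y ∧ ∀ a, ι (x a) = y * ι a * y⁻¹) ∨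
      ∃ (i : ℕ) (c : ↥(D.group k)) (φ : MulAut ↥(D.group k)) (g' : (Fin l → ℤ) ≃+ (Fin l → ℤ)) (e' : ℕ),
        i.Coprime p ∧ 0 < e' ∧ IsFrob r e' φ ∧ Fr cs hp.isCartan (TT D k) (XX D l k) φ g' ∧
        fixedSubgroup (MulAut.conj c * φ) ≤ fixedSubgroup σ ∧ ∀ a, ι ((x ^ i) a) = (MulAut.conj c * φ) (ι a)) :
    BpS p K₀ := by
  intro x hx
  rcases hfam x hx with ⟨y, hyp, hσy, hy⟩ | ⟨i, c, φ, g', e', hi, he', hφ, Fφ, hle, hy⟩
  · obtain ⟨z, hz⟩ := hT y hyp
    have h1 := good_inner hp cs (p := p) hk hEnd he hσ Fσ hσy hyp hz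
    have : Finite ↥(fixedSubgroup σ ⊓ Subgroup.centralizer {y}) :=
      Finite.of_injective (Subgroup.inclusion inf_le_left) (Subgroup.inclusion_injective _)
    refine Glue.good_inn ι hι (σ := σ) hn hfix hy ?_
    rwa [fixC_eq] at h1
  · have hfin : Finite ↥(fixedSubgroup (MulAut.conj c * φ)) :=
      Finite.of_injective (Subgroup.inclusion hle) (Subgroup.inclusion_injective _)
    have h1 := good_fld hp cs (p := p) hk hEnd he' hφ Fφ c
    have h2 := Glue.good_fld ι hι (σ := σ) hn hy hle h1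
    have h3 : x ^ p = 1 := by rw [← hx]; exact pow_orderOf_eq_one x
    rwa [Glue.fixedSubgroup_pow h3 hi] at h2

end

end Cfsg.Agent.BpExc.Asm

end
end

-- part: BpExc/RowsUntw
section
prune_inst 0x142035440540000000000080c1003c4686000092002b880048000a4c048025020402862104003110020828440030000811100020421000000a000400011905810888100430000000000008000004000000000000000000000000000000000004200000000
set_option linter.all false
open scoped Cfsg.Agent.FastGrp

-- merged: Cfsg.Agent.BpExc.TorAll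
section

/-!
# Elements of prime order of `D.group k` are toral (S1332-EXC (T), helper88)

`k` algebraically closed of characteristic `p`, every element of `k` lies in a finite subfield (`HAlg p k`);
`exists_conj_mem_TT` : an element of prime order `l ≠ p` of `D.group k` is conjugate into the diagonal subgroup.

Also the levels: `EE p m` (the subfield with `p ^ m` elements), `exists_level`.
-/

set_option autoImplicit false
set_option linter.unusedSectionVars false

namespace Cfsg.Agent.BpExc.TorAll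

open CoxeterSystem Cfsg.Agent.ChevalleyStructure.CoxeterGeom Cfsg.Agent.Tits.Roots Cfsg.Agent.Tits.Core
  Cfsg.Agent.Nodes.Reps Cfsg.Agent.Nodes.BNOf Cfsg.Agent.Nodes.Bruhat
  Cfsg.Agent.Nodes.OppDec Cfsg.Agent.Nodes.RGDChev
  Cfsg.Agent.KFacts.RgdAut Cfsg.Agent.KFacts.RgdDiag Cfsg.Agent.KFacts.RgdRigid
  Cfsg.Agent.KFacts.RgdField Cfsg.Agent.KFacts.RgdChevCoord
  Cfsg.Agent.CpAut.RgdFix Cfsg.Agent.CpAut.RgdSub
open Cfsg.Lie Cfsg.Agent.ChevalleyStructure Cfsg.Agent.ChevalleyStructure.Elts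
  Cfsg.Agent.ChevalleyStructure.NPerm Cfsg.Agent.ChevalleyStructure.CoxeterGeomTypes
  Cfsg.Agent.ChevStructure.FieldMap Cfsg.Agent.BpExc.TorRgd

universe u

/-! ### finite subfields -/

section Field

variable (p : ℕ) [Fact p.Prime] (k : Type u) [Field k] [IsAlgClosed k] [CharP k p]

/-- the `p ^ m`-power map -/
noncomputable def frb (m : ℕ) : k ≃+* k := iterateFrobeniusEquiv k p m

variable {k}

theorem frb_apply (m : ℕ) (a : k) : frb p k m a = a ^ p ^ m := iterateFrobeniusEquiv_def k p m a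

/-- the subfield of `p ^ m` elements -/
noncomputable def EE (m : ℕ) : Subfield k := fixF (frb p k m)

theorem mem_EE {m : ℕ} {a : k} : a ∈ EE p m ↔ a ^ p ^ m = a := by
  unfold EE
  rw [mem_fixF, frb_apply]

theorem EE_le {m m' : ℕ} (h : m ∣ m') : (EE p m : Subfield k) ≤ EE p m' := by
  obtain ⟨j, rfl⟩ := h
  intro a ha
  rw [mem_EE] at ha ⊢
  rw [pow_mul]
  exact pow_iter ha j

theorem card_EE {m : ℕ} (hm : 0 < m) : Nat.card (EE p m : Subfield k) = p ^ m := by
  classical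
  have hp : p.Prime := Fact.out
  let f : Polynomial k := Polynomial.X ^ p ^ m - Polynomial.X
  have hsep : f.Separable := galois_poly_separable p (p ^ m) (dvd_pow_self p hm.ne')
  have h1 : 1 < p ^ m := Nat.one_lt_pow hm.ne' hp.one_lt
  have h0 : f ≠ 0 := FiniteField.X_pow_card_sub_X_ne_zero k h1
  have h2 : f.rootSet k = ((EE p m : Subfield k) : Set k) := by
    ext a
    rw [Polynomial.mem_rootSet, SetLike.mem_coe, mem_EE]
    constructor
    · rintro ⟨-, h3⟩
      simpa [f, sub_eq_zero] using h3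
    · intro h3
      exact ⟨h0, by simp [f, h3]⟩
  have h3 := Polynomial.card_rootSet_eq_natDegree (K := k) hsep (IsAlgClosed.splits _)
  rw [FiniteField.X_pow_card_sub_X_natDegree_eq k h1] at h3
  rw [← h3, ← Nat.card_eq_fintype_card]
  exact Nat.card_congr (Equiv.setCongr h2.symm)

theorem finite_EE {m : ℕ} (hm : 0 < m) : Finite ↥(EE p m : Subfield k) := by
  apply Nat.finite_of_card_ne_zero
  rw [card_EE p hm]
  exact pow_ne_zero _ (Fact.out : p.Prime).ne_zero

/-- every element lies in a finite subfield -/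
def HAlg (k : Type u) [Field k] : Prop := ∀ a : k, ∃ m, 0 < m ∧ a ^ p ^ m = a

end Field

theorem hAlg_of_isAlgebraic (p : ℕ) [Fact p.Prime] (k : Type u) [Field k] [Algebra (ZMod p) k]
    [Algebra.IsAlgebraic (ZMod p) k] : HAlg p k := by
  intro a
  have hint : IsIntegral (ZMod p) a := (Algebra.IsAlgebraic.isAlgebraic a).isIntegral
  have hfd : FiniteDimensional (ZMod p) (IntermediateField.adjoin (ZMod p) {a}) :=
    IntermediateField.adjoin.finiteDimensional hint
  have hfin : Finite (IntermediateField.adjoin (ZMod p) {a}) := Module.finite_of_finite (ZMod p)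
  have : Fintype (IntermediateField.adjoin (ZMod p) {a}) := Fintype.ofFinite _
  have hcard := Module.card_eq_pow_finrank (K := ZMod p) (V := IntermediateField.adjoin (ZMod p) {a})
  rw [ZMod.card] at hcard
  refine ⟨Module.finrank (ZMod p) (IntermediateField.adjoin (ZMod p) {a}), Module.finrank_pos, ?_⟩
  have h1 := FiniteField.pow_card (⟨a, IntermediateField.mem_adjoin_simple_self (ZMod p) a⟩ :
    IntermediateField.adjoin (ZMod p) {a})
  rw [hcard] at h1
  exact congrArg Subtype.val h1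

/-! ### levels of `D.group k` -/

section Lvl

variable {D : ChevalleyDatum} {l : ℕ} {M : CoxeterMatrix (Fin l)} (hp : IsType D l M)
  (p : ℕ) [Fact p.Prime] {k : Type u} [Field k] [IsAlgClosed k] [CharP k p]

include hp in
theorem map_group_mono {m m' : ℕ} (h : m ∣ m') :
    (D.group ↥(EE p m : Subfield k)).map (glm D (EE p m)) ≤
      (D.group ↥(EE p m' : Subfield k)).map (glm D (EE p m')) := by
  rw [Subgroup.map_le_iff_le_comap, group_le_iff hp.inList]
  intro r hr t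
  rw [Subgroup.mem_comap, glm_xG]
  refine ⟨xG hp.inList r (⟨(t : k), EE_le p h t.2⟩ : ↥(EE p m')), xG_mem_group hp.inList r _, ?_⟩
  rw [glm_xG]

include hp in
theorem map_group_le {m : ℕ} :
    (D.group ↥(EE p m : Subfield k)).map (glm D (EE p m)) ≤ D.group k := by
  rw [Subgroup.map_le_iff_le_comap, group_le_iff hp.inList]
  intro r hr t
  rw [Subgroup.mem_comap, glm_xG]
  exact xG_mem_group hp.inList r _

include hp in
/-- every element of `D.group k` lives over a finite subfield -/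
theorem exists_level (hk : HAlg p k) {g : GL D.Idx k} (hg : g ∈ D.group k) :
    ∃ m, 0 < m ∧ g ∈ (D.group ↥(EE p m : Subfield k)).map (glm D (EE p m)) := by
  let LL : Subgroup (GL D.Idx k) :=
    { carrier := {g | ∃ m, 0 < m ∧ g ∈ (D.group ↥(EE p m : Subfield k)).map (glm D (EE p m))}
      mul_mem' := by
        rintro a b ⟨m, hm, ha⟩ ⟨m', hm', hb⟩
        exact ⟨m * m', Nat.mul_pos hm hm', mul_mem (map_group_mono hp p (Dvd.intro _ rfl) ha)
          (map_group_mono hp p (Dvd.intro_left _ rfl) hb)⟩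
      one_mem' := ⟨1, one_pos, one_mem _⟩
      inv_mem' := by
        rintro a ⟨m, hm, ha⟩
        exact ⟨m, hm, inv_mem ha⟩ }
  have h1 : D.group k ≤ LL := by
    rw [group_le_iff hp.inList]
    intro r hr t
    obtain ⟨m, hm, h⟩ := hk t
    refine ⟨m, hm, xG hp.inList r (⟨t, (mem_EE p).2 h⟩ : ↥(EE p m)), xG_mem_group hp.inList r _, ?_⟩
    rw [glm_xG]
  exact h1 hg

/-- the restriction of the `p ^ m`-power map to a finite subfield -/
noncomputable def frE (N m : ℕ) : ↥(EE p N : Subfield k) ≃+* ↥(EE p N : Subfield k) where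
  toFun a := ⟨(a : k) ^ p ^ m, pow_mem a.2 _⟩
  invFun a := ⟨(frb p k m).symm a, by
    rw [mem_EE]
    apply (frb p k m).injective
    rw [map_pow, RingEquiv.apply_symm_apply]
    exact (mem_EE p).1 a.2⟩
  left_inv a := Subtype.ext (by
    show (frb p k m).symm ((a : k) ^ p ^ m) = a
    rw [← frb_apply, RingEquiv.symm_apply_apply])
  right_inv a := Subtype.ext (by
    show ((frb p k m).symm a) ^ p ^ m = (a : k)
    rw [← frb_apply, RingEquiv.apply_symm_apply])
  map_mul' a b := Subtype.ext (mul_pow _ _ _)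
  map_add' a b := Subtype.ext (by
    show ((a : k) + b) ^ p ^ m = (a : k) ^ p ^ m + (b : k) ^ p ^ m
    exact add_pow_char_pow (a : k) b p m)

theorem coe_frE (N m : ℕ) (a : ↥(EE p N : Subfield k)) : ((frE p N m a : ↥(EE p N)) : k) = (a : k) ^ p ^ m := rfl

variable {K : Type u} [Field K]

/-- the automorphism of `D.group K` given by a field automorphism -/
noncomputable def fG (D : ChevalleyDatum) (τ : K ≃+* K) : MulAut ↥(D.group K) := groupEquivOfRingEquiv D τ

theorem fG_coe (τ : K ≃+* K) (g : ↥(D.group K)) :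
    (((fG D τ g : D.group K) : GL D.Idx K) : Matrix D.Idx D.Idx K) = (((g : GL D.Idx K)) : Matrix D.Idx D.Idx K).map τ :=
  rfl

theorem fG_pow_coe (τ : K ≃+* K) (j : ℕ) (g : ↥(D.group K)) (a b : D.Idx) :
    (((((fG D τ) ^ j) g : D.group K) : GL D.Idx K) : Matrix D.Idx D.Idx K) a b =
      (τ ^ j) ((((g : GL D.Idx K)) : Matrix D.Idx D.Idx K) a b) := by
  induction j generalizing g with
  | zero => rfl
  | succ j ih =>
    rw [pow_succ, MulAut.mul_apply, ih, pow_succ]
    rfl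

include hp in
theorem fG_xc (τ : K ≃+* K) {r : ℕ} (hr : r < D.nroots) (a : K) :
    fG D τ (xc hp (vec D l r) a) = xc hp (vec D l r) (τ a) := by
  apply Subtype.ext
  apply Units.ext
  rw [fG_coe, coe_xc hp hr, coe_xc hp hr, coe_xG, coe_xG]
  exact x_map D (τ : K →+* K) r a

end Lvl

/-! ### the theorem -/

section Main

variable {D : ChevalleyDatum} {l : ℕ} {M : CoxeterMatrix (Fin l)} (hp : IsType D l M)
  (p : ℕ) [Fact p.Prime]

section Fin

variable {K : Type u} [Field K] [Finite K] [CharP K p] {W : Type*} [Group W] (cs : CoxeterSystem M W)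

include hp p in
theorem fix_fG_XX (τ : K ≃+* K) (j : ℕ) {a : Fin l → ℤ} (ha : IsRoot cs hp.isCartan a) :
    _root_.Cfsg.Agent.KFacts.RgdAut.Fix ((fG D τ) ^ j) (XX D l K a) := by
  have C := coords (K := K) hp cs p
  have key : ∀ τ : K ≃+* K, _root_.Cfsg.Agent.KFacts.RgdAut.Fix (fG D τ) (XX D l K a) := by
    intro τ y
    obtain ⟨r, hr, rfl⟩ := (isRoot_iff hp cs a).1 ha
    constructor
    · intro hy
      obtain ⟨b, hb⟩ := ((C.coord _ ha).mem _).1 hy
      obtain ⟨c, rfl⟩ := τ.surjective b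
      rw [← fG_xc hp τ hr] at hb
      rw [← (fG D τ).injective hb]
      exact ((C.coord _ ha).mem _).2 ⟨c, rfl⟩
    · intro hy
      obtain ⟨b, rfl⟩ := ((C.coord _ ha).mem _).1 hy
      rw [fG_xc hp τ hr]
      exact ((C.coord _ ha).mem _).2 ⟨_, rfl⟩
  induction j with
  | zero => intro y; rw [pow_zero]; rfl
  | succ j ih => rw [pow_succ]; exact ih.mul (key τ)

include hp cs p in
/-- powers of field automorphisms are frame automorphisms -/
theorem diag_fG [Finite W] (τ : K ≃+* K) (j : ℕ) : Diag (TT D K) (XX D l K) ((fG D τ) ^ j) 1 := by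
  have R := rgd (K := K) hp cs p
  have C := coords (K := K) hp cs p
  have hG : GG cs hp.isCartan (TT D K) (XX D l K) = ⊤ := GG_eq_top (T := TT D K) (G1_eq_top hp cs)
  have hroot : ∀ a, IsRoot cs hp.isCartan a → _root_.Cfsg.Agent.KFacts.RgdAut.Fix ((fG D τ) ^ j) (XX D l K a) := fun a ha => fix_fG_XX hp p cs τ j ha
  have hU : _root_.Cfsg.Agent.KFacts.RgdAut.Fix ((fG D τ) ^ j) (RGD.Sup (XX D l K) (RGD.Pos cs hp.isCartan)) := fix_Sup fun a ha => hroot a ha.1
  have hUN : _root_.Cfsg.Agent.KFacts.RgdAut.Fix ((fG D τ) ^ j) (UN cs hp.isCartan (XX D l K)) := by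
    have h1 := Cfsg.Agent.KFacts.RgdOpp.U_opp (cs := cs) (h := hp.isCartan) (X := XX D l K)
    rw [← h1]
    exact fix_Sup (X := fun x => XX D l K (-x)) fun a ha => hroot (-a) ha.1.neg
  obtain ⟨σ, Dσ⟩ := exists_diag R hG hU hUN
  have hσ : σ = 1 := by
    ext i
    have hr := isRoot_sr cs hp.isCartan i
    obtain ⟨r, hr', e⟩ := (isRoot_iff hp cs _).1 hr
    have h1 : xc (K := K) hp (sr i) 1 ≠ 1 := by
      intro h0
      have h2 := (C.coord _ hr).zero
      rw [← h2] at h0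
      exact one_ne_zero ((C.coord _ hr).inj h0)
    have h2 : ((fG D τ) ^ j) (xc hp (sr i) 1) = xc hp (sr i) 1 := by
      have key : ∀ j : ℕ, ((fG D τ) ^ j) (xc hp (sr i) 1) = xc hp (sr i) 1 := by
        intro j
        induction j with
        | zero => rfl
        | succ j ih =>
          rw [pow_succ, MulAut.mul_apply, ← e, fG_xc hp τ hr', map_one, e, ih]
      exact key j
    exact congrArg Fin.val (Diag.apply_eq R Dσ (((C.coord _ hr).mem _).2 ⟨1, rfl⟩) h1 h2)
  rwa [hσ] at Dσ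

include p in
/-- the fixed points on a root group -/
theorem card_XF (τ : K ≃+* K) (j : ℕ) {a : Fin l → ℤ} (ha : IsRoot cs hp.isCartan a) :
    Nat.card ↥(XF (XX D l K) ((fG D τ) ^ j) a) = Nat.card {s : K // (τ ^ j) s = s} := by
  have C := coords (K := K) hp cs p
  obtain ⟨r, hr, rfl⟩ := (isRoot_iff hp cs a).1 ha
  have key : ∀ (j : ℕ) (s : K), ((fG D τ) ^ j) (xc hp (vec D l r) s) = xc hp (vec D l r) ((τ ^ j) s) := by
    intro j
    induction j with
    | zero => intro s; rfl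
    | succ j ih =>
      intro s
      rw [pow_succ, MulAut.mul_apply, fG_xc hp τ hr, ih, pow_succ]
      rfl
  symm
  refine Nat.card_congr (Equiv.ofBijective (fun s => ⟨xc hp (vec D l r) s.1,
    ⟨((C.coord _ ha).mem _).2 ⟨_, rfl⟩, by
      show ((fG D τ) ^ j) (xc hp (vec D l r) s.1) = _
      rw [key, s.2]⟩⟩) ⟨?_, ?_⟩)
  · rintro ⟨s, hs⟩ ⟨s', hs'⟩ e
    exact Subtype.ext ((C.coord _ ha).inj (congrArg Subtype.val e))
  · rintro ⟨y, hy, hy'⟩
    obtain ⟨s, rfl⟩ := ((C.coord _ ha).mem y).1 hy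
    have h2 : ((fG D τ) ^ j) (xc hp (vec D l r) s) = xc hp (vec D l r) s := hy'
    rw [key] at h2
    exact ⟨⟨s, (C.coord _ ha).inj h2⟩, rfl⟩

end Fin

variable {k : Type u} [Field k] [IsAlgClosed k] [CharP k p]

include hp in
theorem glm_diag (E : Subfield k) {g : GL D.Idx ↥E} (hg : g ∈ D.diagonalSubgroup ↥E) :
    glm D E g ∈ D.diagonalSubgroup k := by
  have h1 : D.diagonalSubgroup ↥E ≤ (D.diagonalSubgroup k).comap (glm D E) := by
    unfold ChevalleyDatum.diagonalSubgroup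
    rw [Subgroup.closure_le]
    rintro g ⟨r, t, hr, ht, e⟩
    refine Subgroup.subset_closure ⟨r, (t : k), hr, fun h0 => ht (Subtype.ext h0), ?_⟩
    rw [glm_coe, e]
    unfold ChevalleyDatum.hMat
    rw [wordMat_map]
    congr 1
  exact h1 hg

theorem group_eq_MM : D.group k = LangThm.MM hp.inList Set.univ k := by
  apply le_antisymm
  · rw [group_le_iff hp.inList]
    intro r hr t
    exact Subgroup.subset_closure ⟨r, Set.mem_univ r, t, rfl⟩
  · unfold LangThm.MM
    rw [Subgroup.closure_le]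
    rintro g ⟨r, -, t, rfl⟩
    exact xG_mem_group hp.inList r t

include hp in
/-- **Lang's theorem for `D.group k`.** -/
theorem lang {m : ℕ} (hm : 0 < m) {x : GL D.Idx k} (hx : x ∈ D.group k) :
    ∃ z ∈ D.group k, z⁻¹ * LangThm.frob p m z = x := by
  rw [group_eq_MM hp] at hx ⊢
  obtain ⟨z, hz, e⟩ := LangThm.lang_chev' hp.inList p m hm Set.univ (1 : GL D.Idx k) (fun r _ =>
    ⟨r, Set.mem_univ r, fun t => ⟨t, by group⟩⟩) hx
  exact ⟨z, hz, by rw [e]; group⟩

include hp in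
/-- **Every element of prime order `q ≠ p` of `D.group k` is conjugate into the diagonal subgroup.** -/
theorem exists_conj_mem_diag (hk : HAlg p k) {x : GL D.Idx k} (hx : x ∈ D.group k) {q : ℕ} (hq : q.Prime)
    (hqp : q ≠ p) (hxq : x ^ q = 1) : ∃ g ∈ D.group k, g * x * g⁻¹ ∈ D.diagonalSubgroup k := by
  have hpp : p.Prime := Fact.out
  have hW := finite_W hp (M.toCoxeterSystem)
  obtain ⟨e, he⟩ : ∃ e, ¬ q ^ (e + 1) ∣ Nat.card M.Group := by
    refine ⟨Nat.card M.Group, fun hd => ?_⟩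
    have h1 : Nat.card M.Group < q ^ (Nat.card M.Group + 1) :=
      (Nat.lt_pow_self hq.one_lt).trans (Nat.pow_lt_pow_right hq.one_lt (Nat.lt_succ_self _))
    exact absurd (Nat.le_of_dvd Nat.card_pos hd) (not_le.2 h1)
  obtain ⟨m0, hm0, x0, hx0, hxx0⟩ := exists_level hp p hk hx
  have hcop : p.Coprime (q ^ (e + 1)) := Nat.Coprime.pow_right _ ((Nat.coprime_primes hpp hq).2 (Ne.symm hqp))
  set m := m0 * (q ^ (e + 1)).totient with hmdef
  have hm : 0 < m := Nat.mul_pos hm0 (Nat.totient_pos.2 (pow_pos hq.pos _))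
  have hpm : p ^ m ≡ 1 [MOD q ^ (e + 1)] := by
    rw [hmdef, mul_comm, pow_mul]
    have := (Nat.ModEq.pow_totient hcop).pow m0
    rwa [one_pow] at this
  set m1 := m * q ^ e with hm1def
  have hm1 : 0 < m1 := Nat.mul_pos hm (pow_pos hq.pos _)
  obtain ⟨z, hz, hzx⟩ := lang hp p hm1 hx
  obtain ⟨m2, hm2, hz2⟩ := exists_level hp p hk hz
  set N := m2 * m1 with hNdef
  have hN : 0 < N := Nat.mul_pos hm2 hm1
  have h01 : m0 ∣ m := Dvd.intro _ rfl
  have hmm1 : m ∣ m1 := Dvd.intro _ rfl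
  have hm1N : m1 ∣ N := Dvd.intro_left _ rfl
  obtain ⟨x', hx', hxx'⟩ := map_group_mono hp p ((h01.trans hmm1).trans hm1N)
    (show x ∈ (D.group ↥(EE p m0 : Subfield k)).map (glm D (EE p m0)) from ⟨x0, hx0, hxx0⟩)
  obtain ⟨z', hz', hzz'⟩ := map_group_mono hp p (show m2 ∣ N from Dvd.intro _ rfl) hz2
  have hfinN : Finite ↥(EE p N : Subfield k) := finite_EE p hN
  have : CharP ↥(EE p N : Subfield k) p := charP_fixF p _
  have : Finite (GL D.Idx ↥(EE p N : Subfield k)) := inferInstance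
  have hGfin : Finite ↥(D.group ↥(EE p N : Subfield k)) := inferInstance
  have R := rgd (K := ↥(EE p N : Subfield k)) hp M.toCoxeterSystem p
  have hG := GG_eq_top (T := TT D ↥(EE p N : Subfield k)) (G1_eq_top (K := ↥(EE p N : Subfield k)) hp M.toCoxeterSystem)
  have hfr : ∀ (j : ℕ) (a : ↥(EE p N : Subfield k)), (((frE p N m) ^ j) a : k) = (a : k) ^ p ^ (m * j) := by
    intro j
    induction j with
    | zero =>
      intro a
      rw [mul_zero, pow_zero p, pow_one, pow_zero]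
      rfl
    | succ j ih =>
      intro a
      rw [pow_succ]
      show (((frE p N m) ^ j) (frE p N m a) : k) = _
      rw [ih, coe_frE, ← pow_mul, ← pow_add, mul_add, mul_one, add_comm]
  obtain ⟨g, hg⟩ := exists_conj_mem_T R hG hq hqp (x := ⟨x', hx'⟩) (z := ⟨z', hz'⟩) (f := fG D (frE p N m)) (j := e)
    (by
      apply Subtype.ext
      apply glm_injective (EE p N)
      show glm D (EE p N) (x' ^ q) = glm D (EE p N) 1
      rw [map_pow, hxx', hxq, map_one])
    (by
      apply Subtype.ext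
      apply Units.ext
      ext a b
      rw [fG_coe]
      show (((x' : Matrix D.Idx D.Idx ↥(EE p N : Subfield k)) a b : ↥(EE p N : Subfield k)) : k) ^ p ^ m =
        (((x' : Matrix D.Idx D.Idx ↥(EE p N : Subfield k)) a b : ↥(EE p N : Subfield k)) : k)
      have h1 : (((x' : Matrix D.Idx D.Idx ↥(EE p N : Subfield k)) a b : ↥(EE p N : Subfield k)) : k) =
          (((x0 : Matrix D.Idx D.Idx ↥(EE p m0 : Subfield k)) a b : ↥(EE p m0 : Subfield k)) : k) := by
        have h2 : glm D (EE p N) x' = glm D (EE p m0) x0 := hxx'.trans hxx0.symm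
        exact congrFun (congrFun (congrArg (fun x : GL D.Idx k => (x : Matrix D.Idx D.Idx k)) h2) a) b
      rw [h1]
      exact (mem_EE p).1 (EE_le p h01 ((x0 : Matrix D.Idx D.Idx ↥(EE p m0 : Subfield k)) a b).2))
    (by
      apply Subtype.ext
      apply glm_injective (EE p N)
      show glm D (EE p N) (z'⁻¹ * ((((fG D (frE p N m)) ^ q ^ e) ⟨z', hz'⟩ : D.group ↥(EE p N : Subfield k)) :
        GL D.Idx ↥(EE p N : Subfield k))) = glm D (EE p N) x'
      rw [map_mul, map_inv, hxx', hzz', ← hzx]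
      congr 1
      apply Units.ext
      ext a b
      rw [glm_coe, Matrix.map_apply, fG_pow_coe]
      show (((frE p N m) ^ q ^ e) ((z' : Matrix D.Idx D.Idx ↥(EE p N : Subfield k)) a b) : k) =
        ((z : Matrix D.Idx D.Idx k).map (iterateFrobenius k p m1)) a b
      rw [hfr, Matrix.map_apply, iterateFrobenius_def]
      congr 1
      exact congrFun (congrFun (congrArg (fun x : GL D.Idx k => (x : Matrix D.Idx D.Idx k)) hzz') a) b)
    (diag_fG hp p M.toCoxeterSystem (frE p N m) (q ^ e)) (fun a ha => by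
      rw [card_XF hp p M.toCoxeterSystem (frE p N m) (q ^ e) ha]
      have h1 : Nat.card {s : ↥(EE p N : Subfield k) // ((frE p N m) ^ q ^ e) s = s} = p ^ m1 := by
        rw [← card_EE p (k := k) hm1]
        refine Nat.card_congr ⟨fun s => ⟨(s.1 : k), ?_⟩, fun s => ⟨⟨s.1, EE_le p hm1N s.2⟩, ?_⟩, fun _ => rfl,
          fun _ => rfl⟩
        · rw [mem_EE]
          have h2 := congrArg Subtype.val s.2
          rw [hfr] at h2
          exact h2
        · apply Subtype.ext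
          rw [hfr]
          exact (mem_EE p).1 s.2
      rw [h1, hm1def, pow_mul]
      have := hpm.pow (q ^ e)
      rwa [one_pow] at this) he
  refine ⟨glm D (EE p N) (g : GL D.Idx ↥(EE p N : Subfield k)), map_group_le hp p ⟨_, g.2, rfl⟩, ?_⟩
  rw [← hxx', ← map_mul, ← map_inv, ← map_mul]
  exact glm_diag hp (EE p N) hg

include hp in
/-- The same in the group `D.group k`. -/
theorem exists_conj_mem_TT (hk : HAlg p k) {x : ↥(D.group k)} {q : ℕ} (hq : q.Prime) (hqp : q ≠ p)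
    (hxq : x ^ q = 1) : ∃ g : ↥(D.group k), g * x * g⁻¹ ∈ TT D k := by
  obtain ⟨g, hg, h⟩ := exists_conj_mem_diag hp p hk x.2 hq hqp (congrArg Subtype.val hxq)
  exact ⟨⟨g, hg⟩, h⟩

include hp in
/-- **Torality** in the form used by the frame: `z⁻¹ y z ∈ T`. -/
theorem exists_toral (hk : HAlg p k) {y : ↥(D.group k)} {q : ℕ} (hq : q.Prime) (hqp : q ≠ p)
    (hyq : y ^ q = 1) : ∃ z : ↥(D.group k), z⁻¹ * y * z ∈ TT D k := by
  obtain ⟨g, hg⟩ := exists_conj_mem_TT hp p hk hq hqp hyq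
  exact ⟨g⁻¹, by rwa [inv_inv]⟩

include hp in
/-- **Torality** over an algebraic closure of `ZMod p`. -/
theorem exists_toral' [Algebra (ZMod p) k] [Algebra.IsAlgebraic (ZMod p) k] {y : ↥(D.group k)} {q : ℕ}
    (hq : q.Prime) (hqp : q ≠ p) (hyq : y ^ q = 1) : ∃ z : ↥(D.group k), z⁻¹ * y * z ∈ TT D k :=
  exists_toral hp p (hAlg_of_isAlgebraic p k) hq hqp hyq

end Main

end Cfsg.Agent.BpExc.TorAll

end

-- merged: Cfsg.Agent.BpExc.FamExt
section

/-!
# Extension of the automorphisms of `D.group F` to `D.group k` (S1332-EXC (i2), helper66)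

* `exists_tor` : torus elements with prescribed coordinates;
* `Good d` inverses of the Cartan matrices up to a factor: `exists_sol`;
* `exists_ext` : a frame automorphism of `D.group F` with trivial diagram symmetry and field part `τ` is induced by
  `h * fld τ̂`, `h` in the torus of `D.group k`, as soon as `d`-th roots exist in `k`.
-/

set_option autoImplicit false
set_option linter.unusedSectionVars false

namespace Cfsg.Agent.BpExc.FamExt

open CoxeterSystem Subgroup Cfsg Cfsg.Lie Cfsg.Lie.ChevalleyDatum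
open Cfsg.Agent.ChevalleyStructure Cfsg.Agent.ChevalleyStructure.Elts Cfsg.Agent.ChevalleyStructure.CoxeterGeom
  Cfsg.Agent.ChevalleyStructure.CoxeterGeomTypes Cfsg.Agent.ChevalleyStructure.NPerm
open Cfsg.Agent.Tits.Roots Cfsg.Agent.Tits.Core Cfsg.Agent.Nodes.Reps Cfsg.Agent.Nodes.BNOf
  Cfsg.Agent.Nodes.RGDChev Cfsg.Agent.Nodes.Bruhat Cfsg.Agent.Nodes.OppDec
open Cfsg.Agent.KFacts.RgdAut Cfsg.Agent.KFacts.RgdDiag Cfsg.Agent.KFacts.RgdRigid
  Cfsg.Agent.KFacts.RgdField Cfsg.Agent.KFacts.RgdTau Cfsg.Agent.KFacts.RgdChevCoord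
  Cfsg.Agent.CpAut.RgdUntw Cfsg.Agent.CpAut.RgdConj
open Cfsg.Agent.GpExc.Field (glMap emb coe_emb glMap_xG emb_injective coe_glMap)
open scoped commutatorElement

universe u v

variable {D : ChevalleyDatum} {l : ℕ} {M : CoxeterMatrix (Fin l)} (hp : IsType D l M)

section Torus

variable {k : Type v} [Field k]

include hp in
/-- torus elements acting by prescribed products of coroots -/
theorem exists_tor (a : Fin l → k) (ha : ∀ j, a j ≠ 0) (S : Finset (Fin l)) :
    ∃ g ∈ TT D k, ∀ r, r < D.nroots → ∀ t, g * xc hp (vec D l r) t * g⁻¹ =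
      xc hp (vec D l r) ((∏ j ∈ S, a j ^ pairing (cartanOf D l) j (vec D l r)) * t) := by
  classical
  induction S using Finset.induction_on with
  | empty =>
    refine ⟨1, one_mem _, fun r _ t => ?_⟩
    rw [Finset.prod_empty, one_mul, one_mul, inv_one, mul_one]
  | insert j S hj ih =>
    obtain ⟨g, hg, e⟩ := ih
    refine ⟨hc hp j (a j) * g, mul_mem (hc_mem hp j (ha j)) hg, fun r hr t => ?_⟩
    have h1 := (act hp hr (hc_mem hp j (ha j))).2
      ((∏ j ∈ S, a j ^ pairing (cartanOf D l) j (vec D l r)) * t)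
    rw [ch_hc hp j (ha j) hr] at h1
    rw [mul_inv_rev, Finset.prod_insert hj, pairing_vec hp j hr]
    calc hc hp j (a j) * g * xc hp (vec D l r) t * (g⁻¹ * (hc hp j (a j))⁻¹)
        = hc hp j (a j) * (g * xc hp (vec D l r) t * g⁻¹) * (hc hp j (a j))⁻¹ := by group
      _ = _ := by rw [e r hr t, h1, mul_assoc]

/-- `B * A = d` -/
def InvC (D : ChevalleyDatum) (l d : ℕ) (B : Fin l → Fin l → ℤ) : Prop :=
  ∀ m i, ∑ j, B m j * cartanOf D l j i = if m = i then (d : ℤ) else 0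

theorem exists_sol {d : ℕ} {B : Fin l → Fin l → ℤ} (hB : InvC D l d B) (c : Fin l → k)
    (hc : ∀ i, c i ≠ 0) (hr : ∀ i, ∃ b : k, b ^ d = c i) (hd : d ≠ 0) :
    ∃ a : Fin l → k, (∀ j, a j ≠ 0) ∧ ∀ x : Fin l → ℤ,
      ∏ j, a j ^ pairing (cartanOf D l) j x = ∏ i, c i ^ x i := by
  choose b hb using hr
  have hb0 : ∀ i, b i ≠ 0 := by
    intro i h0
    apply hc i
    rw [← hb i, h0, zero_pow hd]
  refine ⟨fun j => ∏ m, b m ^ B m j, fun j => Finset.prod_ne_zero_iff.2 fun m _ => zpow_ne_zero _ (hb0 m), fun x => ?_⟩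
  have h1 : ∀ j, (∏ m, b m ^ B m j) ^ pairing (cartanOf D l) j x =
      ∏ m, b m ^ (B m j * pairing (cartanOf D l) j x) := by
    intro j
    rw [← Finset.prod_zpow]
    exact Finset.prod_congr rfl fun m _ => (zpow_mul _ _ _).symm
  have h2 : ∀ m, ∏ j, b m ^ (B m j * pairing (cartanOf D l) j x) = c m ^ x m := by
    intro m
    have h3 : ∀ S : Finset (Fin l), ∏ j ∈ S, b m ^ (B m j * pairing (cartanOf D l) j x) =
        b m ^ (∑ j ∈ S, B m j * pairing (cartanOf D l) j x) := by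
      classical
      intro S
      induction S using Finset.induction_on with
      | empty => rw [Finset.prod_empty, Finset.sum_empty, zpow_zero]
      | insert j S hj ih => rw [Finset.prod_insert hj, Finset.sum_insert hj, zpow_add₀ (hb0 m), ih]
    have h4 : ∑ j, B m j * pairing (cartanOf D l) j x = (d : ℤ) * x m := by
      unfold pairing
      calc ∑ j, B m j * ∑ i, cartanOf D l j i * x i
          = ∑ j, ∑ i, B m j * cartanOf D l j i * x i := by
            refine Finset.sum_congr rfl fun j _ => ?_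
            rw [Finset.mul_sum]
            exact Finset.sum_congr rfl fun i _ => (mul_assoc _ _ _).symm
        _ = ∑ i, (∑ j, B m j * cartanOf D l j i) * x i := by
            rw [Finset.sum_comm]
            refine Finset.sum_congr rfl fun i _ => ?_
            rw [Finset.sum_mul]
        _ = (d : ℤ) * x m := by
            rw [Finset.sum_eq_single m]
            · rw [hB, if_pos rfl]
            · intro i _ hi
              rw [hB, if_neg (Ne.symm hi), zero_mul]
            · intro h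
              exact absurd (Finset.mem_univ m) h
    rw [h3, h4, zpow_mul, zpow_natCast, hb]
  rw [Finset.prod_congr rfl fun j _ => h1 j, Finset.prod_comm]
  exact Finset.prod_congr rfl fun m _ => h2 m

end Torus

section Ext

variable {F : Type u} [Field F] {k : Type v} [Field k] (f : F →+* k)

theorem emb_xc {r : ℕ} (hr : r < D.nroots) (t : F) :
    emb hp.inList f (xc hp (vec D l r) t) = xc hp (vec D l r) (f t) := by
  apply Subtype.ext
  rw [coe_emb, coe_xc hp hr, coe_xc hp hr, glMap_xG]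

theorem fld_emb {τ : F ≃+* F} {τ' : k ≃+* k} (hτ : ∀ a, τ' (f a) = f (τ a)) (g : ↥(D.group F)) :
    fld D τ' (emb hp.inList f g) = emb hp.inList f (fld D τ g) := by
  apply Subtype.ext
  apply Units.ext
  rw [fld_coe, coe_emb, coe_glMap, coe_emb, coe_glMap, fld_coe, Matrix.map_map, Matrix.map_map]
  ext i j
  exact hτ _

/-- conditions on the root elements are enough -/
theorem group_induction {P : ↥(D.group F) → Prop} (h1 : P 1) (hm : ∀ a b, P a → P b → P (a * b))
    (hi : ∀ a, P a → P a⁻¹) (hx : ∀ r, r < D.nroots → ∀ t, P (xc hp (vec D l r) t)) (g : ↥(D.group F)) : P g := by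
  let S : Subgroup ↥(D.group F) :=
    { carrier := {g | P g}
      one_mem' := h1
      mul_mem' := fun {a b} ha hb => hm a b ha hb
      inv_mem' := fun {a} ha => hi a ha }
  have h2 : D.group F ≤ S.map (D.group F).subtype := by
    rw [group_le_iff hp.inList]
    intro r hr t
    refine ⟨xc hp (vec D l r) t, hx r hr t, ?_⟩
    exact coe_xc hp hr t
  obtain ⟨g', hg', e⟩ := h2 g.2
  have h3 : g' = g := Subtype.ext e
  rw [← h3]
  exact hg'

theorem mem_normalizer {g : ↥(D.group k)} {c : ℕ → F}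
    (hg : ∀ r, r < D.nroots → ∀ t, g * xc hp (vec D l r) (f t) * g⁻¹ = xc hp (vec D l r) (f (c r * t)))
    (hc : ∀ r, r < D.nroots → c r ≠ 0) : g ∈ normalizer ((emb hp.inList f).range : Set ↥(D.group k)) := by
  have h1 : ∀ y, g * emb hp.inList f y * g⁻¹ ∈ (emb hp.inList f).range := by
    intro y
    induction y using group_induction hp with
    | h1 => rw [map_one, mul_one, mul_inv_cancel]; exact one_mem _
    | hm a b ha hb =>
      have : g * emb hp.inList f (a * b) * g⁻¹ = (g * emb hp.inList f a * g⁻¹) * (g * emb hp.inList f b * g⁻¹) := by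
        rw [map_mul]; group
      rw [this]
      exact mul_mem ha hb
    | hi a ha =>
      have : g * emb hp.inList f a⁻¹ * g⁻¹ = (g * emb hp.inList f a * g⁻¹)⁻¹ := by
        rw [map_inv]; group
      rw [this]
      exact inv_mem ha
    | hx r hr t =>
      rw [emb_xc hp f hr, hg r hr t, ← emb_xc hp f hr]
      exact ⟨_, rfl⟩
  have h2 : ∀ y, g⁻¹ * emb hp.inList f y * g ∈ (emb hp.inList f).range := by
    intro y
    induction y using group_induction hp with
    | h1 => rw [map_one, mul_one, inv_mul_cancel]; exact one_mem _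
    | hm a b ha hb =>
      have : g⁻¹ * emb hp.inList f (a * b) * g = (g⁻¹ * emb hp.inList f a * g) * (g⁻¹ * emb hp.inList f b * g) := by
        rw [map_mul]; group
      rw [this]
      exact mul_mem ha hb
    | hi a ha =>
      have : g⁻¹ * emb hp.inList f a⁻¹ * g = (g⁻¹ * emb hp.inList f a * g)⁻¹ := by
        rw [map_inv]; group
      rw [this]
      exact inv_mem ha
    | hx r hr t =>
      have h3 := hg r hr ((c r)⁻¹ * t)
      rw [mul_inv_cancel_left₀ (hc r hr)] at h3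
      rw [emb_xc hp f hr, ← h3]
      have h4 : g⁻¹ * (g * xc hp (vec D l r) (f ((c r)⁻¹ * t)) * g⁻¹) * g = xc hp (vec D l r) (f ((c r)⁻¹ * t)) := by
        group
      rw [h4, ← emb_xc hp f hr]
      exact ⟨_, rfl⟩
  rw [mem_normalizer_iff]
  intro z
  constructor
  · rintro ⟨y, rfl⟩
    exact h1 y
  · rintro ⟨y, hy⟩
    have h3 := h2 y
    rw [hy] at h3
    have h4 : g⁻¹ * (g * z * g⁻¹) * g = z := by group
    rwa [h4] at h3

include hp in
/-- **Extension of frame automorphisms.** -/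
theorem exists_ext [Finite F] (r₀ : ℕ) [Fact r₀.Prime] [CharP F r₀]
    (hconn : ∀ J : Set (Fin l), J.Nonempty → J ≠ Set.univ → ∃ a ∈ J, ∃ b, b ∉ J ∧ M a b ≠ 2)
    [Nonempty (Fin l)] {d : ℕ} {B : Fin l → Fin l → ℤ} (hB : InvC D l d B) (hd : d ≠ 0)
    (hroots : ∀ c : F, c ≠ 0 → ∃ b : k, b ^ d = f c)
    {β : MulAut ↥(D.group F)} {τ : F ≃+* F} (S : Tau (TT D F) (XX D l F) (ch hp) (cartanOf D l) β 1 τ)
    {τ' : k ≃+* k} (hτ : ∀ a, τ' (f a) = f (τ a)) :
    ∃ g ∈ TT D k, ∀ y, emb hp.inList f (β y) = g * fld D τ' (emb hp.inList f y) * g⁻¹ := by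
  obtain ⟨cs⟩ : Nonempty (CoxeterSystem M M.Group) := ⟨M.toCoxeterSystem⟩
  have hW := finite_W hp cs
  have R := rgd (K := F) hp cs r₀
  have C := coords (K := F) hp cs r₀
  have H := coroots (K := F) hp cs r₀
  have hG1 : RGD.Sup (XX D l F) {x | IsRoot cs hp.isCartan x} = ⊤ := G1_eq_top hp cs
  have hroot : ∀ i : Fin l, ∃ c : F, c ≠ 0 ∧ ∀ a, β (xc hp (sr i) a) = xc hp (sr i) (c * τ a) := by
    intro i
    obtain ⟨c, hc, e⟩ := Tau.root R C S (isRoot_sr cs hp.isCartan i)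
    exact ⟨c, hc, fun a => e a⟩
  choose c hc0 hcβ using hroot
  have hfc : ∀ i, f (c i) ≠ 0 := fun i h => hc0 i ((map_eq_zero f).1 h)
  obtain ⟨a, ha0, ha⟩ := exists_sol (D := D) hB (fun i => f (c i)) hfc (fun i => hroots _ (hc0 i)) hd
  obtain ⟨g, hgT, hg⟩ := exists_tor hp a ha0 Finset.univ
  have hg' : ∀ r, r < D.nroots → ∀ t, g * xc hp (vec D l r) t * g⁻¹ =
      xc hp (vec D l r) (f (∏ i, c i ^ vec D l r i) * t) := by
    intro r hr t
    rw [hg r hr t, ha, map_prod]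
    simp only [map_zpow₀]
  have hcr : ∀ r, r < D.nroots → (∏ i, c i ^ vec D l r i) ≠ 0 := fun r _ =>
    Finset.prod_ne_zero_iff.2 fun i _ => zpow_ne_zero _ (hc0 i)
  have hgN : g ∈ normalizer ((emb hp.inList f).range : Set ↥(D.group k)) :=
    mem_normalizer hp f (c := fun r => ∏ i, c i ^ vec D l r i)
      (fun r hr t => by rw [hg' r hr, map_mul]) hcr
  obtain ⟨δ, hδ⟩ : ∃ δ : MulAut ↥(D.group F), ∀ y, emb hp.inList f (δ y) = g * emb hp.inList f y * g⁻¹ :=
    ⟨KFacts.RgdOver.act (emb hp.inList f) (emb_injective hp.inList f) ⟨g, hgN⟩, fun y =>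
      KFacts.RgdOver.f_act (emb hp.inList f) (emb_injective hp.inList f) ⟨g, hgN⟩ y⟩
  have hδx : ∀ r, r < D.nroots → ∀ t, δ (xc hp (vec D l r) t) =
      xc hp (vec D l r) ((∏ i, c i ^ vec D l r i) * t) := by
    intro r hr t
    apply emb_injective hp.inList f
    rw [hδ, emb_xc hp f hr, hg' r hr, emb_xc hp f hr, map_mul]
  have hδT : ∀ y ∈ TT D F, δ y = y := by
    intro y hy
    apply emb_injective hp.inList f
    rw [hδ]
    have h1 : emb hp.inList f y ∈ TT D k := GpExc.Field.emb_T hp f ⟨y, hy, rfl⟩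
    rw [TorChev.TT_comm hp g hgT _ h1, mul_inv_cancel_right]
  have hδX : ∀ x, IsRoot cs hp.isCartan x → _root_.Cfsg.Agent.KFacts.RgdAut.Fix δ (XX D l F x) := by
    intro x hx y
    obtain ⟨r, hr, rfl⟩ := (isRoot_iff hp cs x).1 hx
    have hm := (C.coord _ hx).mem
    constructor
    · intro h1
      obtain ⟨t, ht⟩ := (hm _).1 h1
      refine (hm _).2 ⟨(∏ i, c i ^ vec D l r i)⁻¹ * t, ?_⟩
      apply δ.injective
      rw [hδx r hr, mul_inv_cancel_left₀ (hcr r hr), ht]
    · intro h1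
      obtain ⟨t, rfl⟩ := (hm _).1 h1
      rw [hδx r hr]
      exact (hm _).2 ⟨_, rfl⟩
  have Dδ : Diag (TT D F) (XX D l F) δ 1 := by
    refine ⟨fun y => ⟨fun h1 => ?_, fun h1 => ?_⟩, fun i y => ?_, fun i y => ?_⟩
    · have h2 : δ y = y := δ.injective (hδT _ h1)
      rwa [h2] at h1
    · rw [hδT y h1]; exact h1
    · exact hδX _ (isRoot_sr cs hp.isCartan i) y
    · exact hδX _ (isRoot_sr cs hp.isCartan i).neg y
  have hstd : ∀ x, IsRoot cs hp.isCartan x → ∀ a, fld D τ (xc hp x a) = xc hp x (τ a) := by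
    intro x hx a
    obtain ⟨r, hr, rfl⟩ := (isRoot_iff hp cs x).1 hx
    exact fld_xc hp τ hr a
  have St := tau_of_std R hG1 C H hconn hstd
  have D1 : Diag (TT D F) (XX D l F) ((δ * fld D τ)⁻¹ * β) 1 := by
    have h1 := ((Dδ.mul St.diag).inv).mul S.diag
    rwa [show ((1 : Equiv.Perm (Fin l)) * 1)⁻¹ * 1 = 1 by simp] at h1
  have h3 : (δ * fld D τ)⁻¹ * β = 1 := by
    refine Diag.eq_one R hG1 D1 fun i x hx => ?_
    obtain ⟨t, rfl⟩ := ((C.coord _ (isRoot_sr cs hp.isCartan i)).mem x).1 hx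
    rw [MulAut.mul_apply, hcβ i t]
    apply (δ * fld D τ).injective
    rw [MulAut.apply_inv_self, MulAut.mul_apply, hstd _ (isRoot_sr cs hp.isCartan i)]
    have h4 := hδx (D.simple i) (simple_lt hp.inList (lt_rank hp i)) (τ t)
    rw [vec_simple hp i] at h4
    rw [h4]
    congr 2
    rw [Finset.prod_eq_single i]
    · rw [sr_self, zpow_one]
    · intro j _ hj
      rw [sr_ne hj, zpow_zero]
    · intro h
      exact absurd (Finset.mem_univ i) h
  have h4 : β = δ * fld D τ := (inv_mul_eq_one.1 h3).symm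
  refine ⟨g, hgT, fun y => ?_⟩
  rw [h4, MulAut.mul_apply, hδ, fld_emb hp f hτ]

end Ext

end Cfsg.Agent.BpExc.FamExt

end

-- merged: Cfsg.Agent.BpExc.FamCent
section

/-!
# Elements commuting with elements of all simple root groups (S1332-EXC (i2), helper66)

* `mem_B_of_comm` : `z` commutes with a nontrivial element of every simple root group: `z ∈ B`;
* `mem_T_of_comm` : also for the negatives: `z ∈ T`;
* `eq_one_of_comm` : in the presence of coordinates and `Z(Y) = 1`: `z = 1`.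
-/

set_option autoImplicit false
set_option linter.unusedSectionVars false

namespace Cfsg.Agent.BpExc.FamCent

open CoxeterSystem Subgroup Cfsg
open Cfsg.Agent.ChevalleyStructure.CoxeterGeom
open Cfsg.Agent.Tits.Roots Cfsg.Agent.Tits.Core Cfsg.Agent.Nodes.Reps Cfsg.Agent.Nodes.BNOf
  Cfsg.Agent.Nodes.Bruhat Cfsg.Agent.Nodes.OppDec Cfsg.Agent.Nodes.NormalForm
open Cfsg.Agent.KFacts.RgdOpp Cfsg.Agent.KFacts.RgdRigid Cfsg.Agent.KFacts.RgdField

variable {I W Y : Type*} [Fintype I] [DecidableEq I] [Group W] [Group Y] {M : CoxeterMatrix I}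
  {cs : CoxeterSystem M W} {A : I → I → ℤ} {h : IsCartan M A} {p : ℕ} {T : Subgroup Y} {n : I → Y}
  {X : (I → ℤ) → Subgroup Y}

theorem exists_nonpos {w : W} (hw : w ≠ 1) : ∃ i, rep cs h w (sr i) ≤ 0 := by
  obtain ⟨i, hi⟩ := cs.exists_rightDescent_of_ne_one hw
  exact ⟨i, nonpos_of_lt cs h w i hi⟩

theorem mem_B_of_comm [Finite W] (R : RGD cs h p T n X) {z : Y} (hz : z ∈ GG cs h T X)
    (hu : ∀ i, ∃ u ∈ X (sr i), u ≠ 1 ∧ z * u = u * z) : z ∈ RGD.B cs h T X := by
  obtain ⟨w, hw⟩ := (mem_GG R).1 hz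
  obtain ⟨a, ha, k, hk, v, hv, rfl⟩ := exists_normal_form R hw
  have hw1 : w = 1 := by
    by_contra hne
    obtain ⟨i, hneg⟩ := exists_nonpos (cs := cs) (h := h) hne
    obtain ⟨u, hu, hu1, hc⟩ := hu i
    have huN : u ∈ RGD.Sup X (NW cs h w) := RGD.le_Sup (S := NW cs h w) ⟨isRoot_sr cs h i, sr_nonneg i, hneg⟩ hu
    have huP : u ∈ RGD.Sup X (RGD.Pos cs h) := RGD.le_Sup (S := RGD.Pos cs h) ⟨isRoot_sr cs h i, sr_nonneg i⟩ hu
    have e : u * a * k * v = a * k * (v * u) := by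
      calc u * a * k * v = u * (a * k * v) := by group
        _ = a * k * v * u := hc.symm
        _ = a * k * (v * u) := by group
    obtain ⟨h1, -, -⟩ := normal_form_unique R (mul_mem huP ha) ha hk hk hv (mul_mem hv huN) e
    exact hu1 (mul_eq_right.1 h1)
  subst hw1
  have hkT : k ∈ T := hk.mem_of_one
  have hv1 : v ∈ RGD.Sup X (RGD.Pos cs h) :=
    RGD.Sup_mono (S := NW cs h 1) (S' := RGD.Pos cs h) (fun x hx => ⟨hx.1, hx.2.1⟩) hv
  exact mul_mem (mul_mem (RGD.U_le_B ha) (RGD.T_le_B hkT)) (RGD.U_le_B hv1)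

theorem mem_T_of_comm [Finite W] (R : RGD cs h p T n X) {z : Y} (hz : z ∈ GG cs h T X)
    (hu : ∀ i, ∃ u ∈ X (sr i), u ≠ 1 ∧ z * u = u * z) (hv : ∀ i, ∃ u ∈ X (-sr i), u ≠ 1 ∧ z * u = u * z) : z ∈ T := by
  have h1 := mem_B_of_comm R hz hu
  have h2 := mem_B_of_comm (opp R) (by rw [GG_opp]; exact hz) hv
  rw [B_opp] at h2
  rw [← B_inf_BN R]
  exact ⟨h1, h2⟩

variable {F : Type*} [Field F] {x : (I → ℤ) → F → Y} {χ : (I → ℤ) → Y → F}

/-- `z` centralizes the simple root groups -/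
theorem comm_of_comm [Finite W] (R : RGD cs h p T n X) (C : Coords cs h T n X x χ) {z : Y} (hz : z ∈ GG cs h T X)
    (hu : ∀ i, ∃ u ∈ X (sr i), u ≠ 1 ∧ z * u = u * z) (hv : ∀ i, ∃ u ∈ X (-sr i), u ≠ 1 ∧ z * u = u * z) :
    ∀ y ∈ RGD.Sup X {x | IsRoot cs h x}, z * y = y * z := by
  have hT := mem_T_of_comm R hz hu hv
  have key : ∀ r, IsRoot cs h r → (∃ u ∈ X r, u ≠ 1 ∧ z * u = u * z) → ∀ y ∈ X r, z * y * z⁻¹ = y := by
    rintro r hr ⟨u, hu, hu1, hc⟩ y hy
    have Cr := C.coord r hr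
    obtain ⟨a, rfl⟩ := (Cr.mem u).1 hu
    obtain ⟨b, rfl⟩ := (Cr.mem y).1 hy
    have ha : a ≠ 0 := fun h0 => hu1 (by rw [h0, Cr.zero])
    have h1 := Cr.act z hT a
    rw [hc, mul_inv_cancel_right] at h1
    have h2 := Cr.inj h1
    have h3 : χ r z = 1 := by
      have h4 : χ r z * a = 1 * a := by rw [one_mul]; exact h2.symm
      exact mul_right_cancel₀ ha h4
    rw [Cr.act z hT b, h3, one_mul]
  have h1 : RGD.Sup X {x | IsRoot cs h x} ≤ (MulAut.conj z).toMonoidHom.eqLocus (MonoidHom.id Y) :=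
    Sup_le_of_simple R (fun i y hy => key _ (isRoot_sr cs h i) (hu i) y hy)
      (fun i y hy => key _ (isRoot_sr cs h i).neg (hv i) y hy)
  intro y hy
  have h2 : z * y * z⁻¹ = y := h1 hy
  calc z * y = z * y * z⁻¹ * z := by group
    _ = y * z := by rw [h2]

end Cfsg.Agent.BpExc.FamCent

end

-- merged: Cfsg.Agent.BpExc.FamFrame
section

/-!
# Frame form of an automorphism of order prime to the symmetries (S1332-EXC (i2), helper66)

* `exists_conj_fix` : every automorphism is a frame automorphism up to an inner one;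
* `mem_T_of_frame` : an inner frame automorphism comes from `T`;
* `exists_frame_tau` : `x ^ m = 1` and no nontrivial diagram symmetry `σ` with `σ ^ m = 1`:
  `conj g * x` has a field part `τ` with `τ ^ m = 1` and trivial diagram part.
-/

set_option autoImplicit false
set_option linter.unusedSectionVars false

namespace Cfsg.Agent.BpExc.FamFrame

open CoxeterSystem Subgroup Cfsg
open Cfsg.Agent.ChevalleyStructure.CoxeterGeom
open Cfsg.Agent.Tits.Roots Cfsg.Agent.Tits.Core Cfsg.Agent.Nodes.Reps Cfsg.Agent.Nodes.BNOf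
  Cfsg.Agent.Nodes.Bruhat Cfsg.Agent.Nodes.OppDec Cfsg.Agent.Nodes.NormalForm
open Cfsg.Agent.KFacts.RgdOpp Cfsg.Agent.KFacts.RgdRigid Cfsg.Agent.KFacts.RgdField Cfsg.Agent.KFacts.RgdAut
  Cfsg.Agent.KFacts.RgdDiag Cfsg.Agent.KFacts.RgdTau

section Pow

variable {Y : Type*} [Group Y]

theorem mul_conj (x : MulAut Y) (g : Y) : x * MulAut.conj g = MulAut.conj (x g) * x := by
  apply MulEquiv.ext
  intro y
  simp only [MulAut.mul_apply, MulAut.conj_apply, map_mul, map_inv]

/-- powers of `conj g * x` -/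
theorem exists_conj_pow (g : Y) (x : MulAut Y) (m : ℕ) : ∃ g' : Y, (MulAut.conj g * x) ^ m = MulAut.conj g' * x ^ m := by
  induction m with
  | zero => exact ⟨1, by rw [pow_zero, pow_zero, map_one, one_mul]⟩
  | succ m ih =>
    obtain ⟨g', e⟩ := ih
    refine ⟨g' * (x ^ m) g, ?_⟩
    rw [pow_succ, e, pow_succ, map_mul]
    calc MulAut.conj g' * x ^ m * (MulAut.conj g * x) = MulAut.conj g' * (x ^ m * MulAut.conj g) * x := by group
      _ = _ := by rw [mul_conj]; group

end Pow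

variable {I W Y : Type*} [Fintype I] [DecidableEq I] [Group W] [Group Y] {M : CoxeterMatrix I}
  {cs : CoxeterSystem M W} {A : I → I → ℤ} {h : IsCartan M A} {p : ℕ} {T : Subgroup Y} {n : I → Y}
  {X : (I → ℤ) → Subgroup Y} (R : RGD cs h p T n X)

include R

theorem exists_conj_fix [Finite W] [Finite Y] [Fact p.Prime] (hG : GG cs h T X = ⊤) (x : MulAut Y) :
    ∃ g : Y, _root_.Cfsg.Agent.KFacts.RgdAut.Fix (MulAut.conj g * x) (RGD.Sup X (RGD.Pos cs h)) := by
  obtain ⟨P, hP⟩ := R.isPGroup_Upos.exists_le_sylow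
  have hPU : (P : Subgroup Y) = RGD.Sup X (RGD.Pos cs h) :=
    eq_U_of_isPGroup R P.isPGroup' hP (by rw [hG]; exact le_top)
  obtain ⟨g, hg⟩ := MulAction.exists_smul_eq Y (x • P) P
  refine ⟨g, ?_⟩
  rw [fix_iff, ← hPU]
  have h1 : ((g • (x • P) : Sylow p Y) : Subgroup Y) = (P : Subgroup Y).map (MulAut.conj g * x).toMonoidHom := by
    ext y
    constructor
    · rintro ⟨z, ⟨w, hw, rfl⟩, rfl⟩
      exact ⟨w, hw, rfl⟩
    · rintro ⟨w, hw, rfl⟩
      exact ⟨x w, ⟨w, hw, rfl⟩, rfl⟩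
  rw [← h1, hg]

theorem exists_frame_any [Finite W] [Finite Y] [Fact p.Prime] (hG : GG cs h T X = ⊤) (x : MulAut Y) :
    ∃ g : Y, _root_.Cfsg.Agent.KFacts.RgdAut.Fix (MulAut.conj g * x) (RGD.Sup X (RGD.Pos cs h)) ∧ _root_.Cfsg.Agent.KFacts.RgdAut.Fix (MulAut.conj g * x) (UN cs h X) ∧
      ∃ σ : Equiv.Perm I, Diag T X (MulAut.conj g * x) σ := by
  obtain ⟨g, hg⟩ := exists_conj_fix R hG x
  obtain ⟨u, hu, h1, h2, -, σ, D⟩ := exists_frame_pow R hG hg
  have e : MulAut.conj u * (MulAut.conj g * x) = MulAut.conj (u * g) * x := by rw [map_mul, mul_assoc]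
  rw [e] at h1 h2 D
  exact ⟨u * g, h1, h2, σ, D⟩

theorem mem_T_of_frame [Finite W] (hG : GG cs h T X = ⊤) {g : Y}
    (h1 : _root_.Cfsg.Agent.KFacts.RgdAut.Fix (MulAut.conj g) (RGD.Sup X (RGD.Pos cs h))) (h2 : _root_.Cfsg.Agent.KFacts.RgdAut.Fix (MulAut.conj g) (UN cs h X)) : g ∈ T := by
  have key : ∀ {S : Subgroup Y}, _root_.Cfsg.Agent.KFacts.RgdAut.Fix (MulAut.conj g) S → g ∈ normalizer (S : Set Y) := by
    intro S hS
    rw [mem_normalizer_iff]
    intro y
    exact (hS y).symm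
  have h3 : g ∈ RGD.B cs h T X := by
    rw [← normalizer_U' R hG]
    exact key h1
  have h4 : g ∈ BN cs h T X := by
    have h5 := normalizer_U' (opp R) (by rw [GG_opp, hG])
    rw [U_opp, B_opp] at h5
    rw [← h5]
    exact key h2
  rw [← B_inf_BN R]
  exact ⟨h3, h4⟩

theorem diag_conj [Finite W] {t : Y} (ht : t ∈ T) : Diag T X (MulAut.conj t) (1 : Equiv.Perm I) where
  tor y := (Subgroup.mem_normalizer_iff.1 (Subgroup.le_normalizer ht) y).symm
  pos i y := (Subgroup.mem_normalizer_iff.1 (mem_normalizer_iff_cj.2 (R.tor _ (isRoot_sr cs h i) t ht)) y).symm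
  neg i y := (Subgroup.mem_normalizer_iff.1 (mem_normalizer_iff_cj.2 (R.tor _ (isRoot_sr cs h i).neg t ht)) y).symm

variable {F : Type*} [Field F] {x : (I → ℤ) → F → Y} {χ : (I → ℤ) → Y → F}

theorem tau_conj [Finite W] (C : Coords cs h T n X x χ) {t : Y} (ht : t ∈ T) :
    Tau T X χ A (MulAut.conj t) (1 : Equiv.Perm I) (1 : F ≃+* F) where
  diag := diag_conj R ht
  cartan _ _ := rfl
  char i s hs := by
    have Ci := C.coord _ (isRoot_sr cs h i)
    show χ (sr i) (t * s * t⁻¹) = χ (sr i) s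
    rw [Ci.chi_mul (mul_mem ht hs) (inv_mem ht), Ci.chi_mul ht hs]
    have h1 := Ci.chi_mul ht (inv_mem ht)
    have h2 := Ci.chi_mul (one_mem T) (one_mem T)
    rw [mul_one] at h2
    have h3 := (mul_eq_left₀ (Ci.chi_ne_zero (one_mem T))).1 h2.symm
    rw [mul_inv_cancel, h3] at h1
    rw [mul_right_comm, ← h1, one_mul]

/-- **The frame form.** -/
theorem exists_frame_tau [Finite W] [Finite Y] [Nonempty I] [Fact p.Prime] (hG : GG cs h T X = ⊤)
    {hh : I → F → Y} (C : Coords cs h T n X x χ) (H : Coroots A T X χ hh)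
    (hconn : ∀ J : Set I, J.Nonempty → J ≠ Set.univ → ∃ a ∈ J, ∃ b, b ∉ J ∧ M a b ≠ 2) {m : ℕ}
    (hσ : ∀ σ : Equiv.Perm I, (∀ i j, M (σ i) (σ j) = M i j) → σ ^ m = 1 → σ = 1)
    {α : MulAut Y} (hα : α ^ m = 1) :
    ∃ (g : Y) (τ : F ≃+* F), Tau T X χ A (MulAut.conj g * α) 1 τ ∧ τ ^ m = 1 := by
  obtain ⟨g, h1, h2, σ, D⟩ := exists_frame_any R hG α
  obtain ⟨g', e⟩ := exists_conj_pow g α m
  rw [hα, mul_one] at e
  have hpow : ∀ {S : Subgroup Y}, _root_.Cfsg.Agent.KFacts.RgdAut.Fix (MulAut.conj g * α) S → _root_.Cfsg.Agent.KFacts.RgdAut.Fix ((MulAut.conj g * α) ^ m) S := by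
    intro S hS
    generalize m = k
    induction k with
    | zero => intro y; rw [pow_zero]; exact Iff.rfl
    | succ k ih => rw [pow_succ]; exact ih.mul hS
  have hg' : g' ∈ T := by
    refine mem_T_of_frame R hG ?_ ?_
    · rw [← e]; exact hpow h1
    · rw [← e]; exact hpow h2
  have hσm : σ ^ m = 1 := by
    have h3 := D.pow m
    rw [e] at h3
    have h4 := h3.mul (diag_conj R (inv_mem hg'))
    rw [← map_mul, mul_inv_cancel, map_one, mul_one] at h4
    ext i
    obtain ⟨u, hu, hu1⟩ := exists_ne_one R i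
    exact Diag.apply_eq R h4 hu hu1 rfl
  have hσ1 : σ = 1 := hσ σ (D.matrix R) hσm
  subst hσ1
  obtain ⟨τ, hτ⟩ := exists_tau R C H hconn D (fun _ _ => rfl)
  refine ⟨g, τ, hτ, ?_⟩
  have h3 := hτ.pow m
  rw [e, one_pow] at h3
  exact (Tau.unique R C h3 (tau_conj R C hg')).2

end Cfsg.Agent.BpExc.FamFrame

end

-- merged: Cfsg.Agent.BpExc.FamField
section

/-!
# Automorphisms of finite fields of prime order (S1332-EXC (i2), helper66)

* `exists_pow_eq` : an automorphism of a finite field of characteristic `r` is `a ↦ a ^ r ^ j`;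
* `exists_field` : `τ ^ p = 1`, `τ ≠ 1`: some power `τ ^ i`, `i` prime to `p`, is `a ↦ a ^ q₀` with `q₀ ^ p = |F|`;
* `frb k r e` : the Frobenius automorphism `a ↦ a ^ r ^ e` of a perfect field.
-/

set_option autoImplicit false

namespace Cfsg.Agent.BpExc.FamField

variable {F : Type*} [Field F]

theorem pow_apply_of {τ : F ≃+* F} {r j : ℕ} (h : ∀ a, τ a = a ^ r ^ j) (m : ℕ) (a : F) :
    (τ ^ m) a = a ^ r ^ (j * m) := by
  induction m generalizing a with
  | zero => rw [pow_zero, mul_zero, pow_zero, pow_one]; rfl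
  | succ m ih =>
    rw [pow_succ, RingAut.mul_apply, h, ih, ← pow_mul, ← pow_add]
    congr 2
    rw [Nat.mul_succ, add_comm]

variable [Finite F] (r : ℕ) [Fact r.Prime] [CharP F r]

theorem exists_pow_eq (τ : F ≃+* F) : ∃ j : ℕ, ∀ a, τ a = a ^ r ^ j := by
  let _ : Algebra (ZMod r) F := ZMod.algebra F r
  let τ' : F ≃ₐ[ZMod r] F := AlgEquiv.ofRingEquiv (f := τ) (fun x => by
    obtain ⟨n, rfl⟩ := ZMod.natCast_zmod_surjective x
    rw [map_natCast, map_natCast])
  obtain ⟨⟨j, hj0⟩, hj⟩ := (FiniteField.bijective_frobeniusAlgEquivOfAlgebraic_pow (ZMod r) F).2 τ'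
  refine ⟨j, fun a => ?_⟩
  have h1 : τ a = τ' a := rfl
  have h2 : (FiniteField.frobeniusAlgEquivOfAlgebraic (ZMod r) F ^ j) a = a ^ r ^ j := by
    rw [AlgEquiv.coe_pow, FiniteField.coe_frobeniusAlgEquivOfAlgebraic_iterate, ZMod.card]
  have h3 : FiniteField.frobeniusAlgEquivOfAlgebraic (ZMod r) F ^ j = τ' := hj
  rw [h1, ← h3]
  exact h2

theorem exists_card : ∃ n : ℕ, 0 < n ∧ Nat.card F = r ^ n := by
  have := Fintype.ofFinite F
  obtain ⟨n, -, hn⟩ := FiniteField.card F r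
  exact ⟨n, n.pos, by rw [Nat.card_eq_fintype_card, hn]⟩

/-- `a ^ r ^ m = a` for all `a` iff `n ∣ m`, `|F| = r ^ n` -/
theorem forall_pow_iff {n : ℕ} (hn : Nat.card F = r ^ n) (m : ℕ) : (∀ a : F, a ^ r ^ m = a) ↔ n ∣ m := by
  let _ : Algebra (ZMod r) F := ZMod.algebra F r
  have hf : Module.finrank (ZMod r) F = n := by
    have h1 := Module.natCard_eq_pow_finrank (K := ZMod r) (V := F)
    rw [hn, Nat.card_zmod] at h1
    exact (Nat.pow_right_injective (Fact.out : r.Prime).two_le h1).symm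
  have h2 := FiniteField.orderOf_frobeniusAlgEquivOfAlgebraic (ZMod r) F
  rw [hf] at h2
  rw [← h2, orderOf_dvd_iff_pow_eq_one]
  constructor
  · intro h
    ext a
    rw [AlgEquiv.coe_pow, FiniteField.coe_frobeniusAlgEquivOfAlgebraic_iterate, ZMod.card]
    exact h a
  · intro h a
    have h3 := congrArg (fun g : F ≃ₐ[ZMod r] F => g a) h
    simp only [AlgEquiv.coe_pow, FiniteField.coe_frobeniusAlgEquivOfAlgebraic_iterate, ZMod.card] at h3
    exact h3

theorem exists_field {τ : F ≃+* F} {p : ℕ} (hp : p.Prime) (h : τ ^ p = 1) (h1 : τ ≠ 1) :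
    ∃ i e : ℕ, i.Coprime p ∧ 0 < e ∧ Nat.card F = r ^ (e * p) ∧ ∀ a, (τ ^ i) a = a ^ r ^ e := by
  obtain ⟨n, hn0, hn⟩ := exists_card (F := F) r
  obtain ⟨j, hj⟩ := exists_pow_eq r τ
  have h2 : n ∣ j * p := by
    rw [← forall_pow_iff r hn]
    intro a
    rw [← pow_apply_of hj, h]
    rfl
  have h3 : ¬ n ∣ j := by
    intro h3
    rw [← forall_pow_iff r hn] at h3
    apply h1
    ext a
    rw [hj a, h3 a]
    rfl
  have h4 : p ∣ n := by
    by_contra hcon
    have h5 : n.Coprime p := ((Nat.Prime.coprime_iff_not_dvd hp).2 hcon).symm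
    exact h3 (h5.dvd_of_dvd_mul_right h2)
  obtain ⟨e, rfl⟩ := h4
  have he0 : 0 < e := Nat.pos_of_mul_pos_left hn0 |> fun _ => by
    rcases Nat.eq_zero_or_pos e with h0 | h0
    · rw [h0, mul_zero] at hn0
      exact absurd hn0 (lt_irrefl _)
    · exact h0
  have h5 : e ∣ j := by
    rw [mul_comm j p] at h2
    exact Nat.dvd_of_mul_dvd_mul_left hp.pos h2
  obtain ⟨m, rfl⟩ := h5
  have h6 : ¬ p ∣ m := by
    rintro ⟨m', rfl⟩
    apply h3
    exact ⟨m', by ring⟩
  have h7 : m.Coprime p := ((Nat.Prime.coprime_iff_not_dvd hp).2 h6).symm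
  obtain ⟨i, -, hi⟩ := Nat.exists_mul_mod_eq_one_of_coprime h7 hp.one_lt
  have hi' : i.Coprime p := by
    have h8 : ¬ p ∣ i := by
      intro h8
      have h9 : (m * i) % p = 0 := Nat.mod_eq_zero_of_dvd (h8.mul_left m)
      rw [hi] at h9
      exact absurd h9 one_ne_zero
    exact ((Nat.Prime.coprime_iff_not_dvd hp).2 h8).symm
  refine ⟨i, e, hi', he0, by rw [hn, mul_comm], fun a => ?_⟩
  rw [pow_apply_of hj]
  -- `e m i = e + e p t`
  obtain ⟨t, ht⟩ : ∃ t, m * i = p * t + 1 := ⟨m * i / p, by rw [← hi]; exact (Nat.div_add_mod _ _).symm⟩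
  have h8 : e * m * i = p * e * t + e := by
    calc e * m * i = e * (m * i) := by ring
      _ = e * (p * t + 1) := by rw [ht]
      _ = p * e * t + e := by ring
  rw [h8, pow_add, pow_mul, (forall_pow_iff r hn (p * e * t)).2 ⟨t, rfl⟩ a]

section Perfect

variable (k : Type*) [Field k] (r : ℕ) [Fact r.Prime] [CharP k r] [PerfectRing k r]

/-- the automorphism `a ↦ a ^ r ^ e` -/
noncomputable def frb (e : ℕ) : k ≃+* k := frobeniusEquiv k r ^ e

theorem frb_apply (e : ℕ) (a : k) : frb k r e a = a ^ r ^ e := by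
  unfold frb
  have h := pow_apply_of (τ := frobeniusEquiv k r) (r := r) (j := 1) (fun a => by
    rw [pow_one]; rfl) e a
  rwa [one_mul] at h

theorem frb_pow (e m : ℕ) : frb k r e ^ m = frb k r (e * m) := by
  unfold frb
  rw [pow_mul]

end Perfect

end Cfsg.Agent.BpExc.FamField

end

-- merged: Cfsg.Agent.BpExc.FamUntw
section

/-!
# The automorphisms of odd prime order of `D.group F`, inside `D.group k` (S1332-EXC (i2), helper66)

`F` finite of characteristic `r`, `k` a locally finite perfect field (algebraic closure) with `f : F →+* k`,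
`e = emb hp.inList f : D.group F →* D.group k`, `phi m` = the Frobenius automorphism `a ↦ a ^ r ^ m` of `D.group k`.

* `eq_one_of_comm` : `C(e (D.group F)) = 1`;
* `cases` : an automorphism `x` of `D.group F` of odd prime order `p` is induced by `y ∈ D.group k` with `y ^ p = 1`
  fixed by the Frobenius, or a power `x ^ i`, `i` prime to `p`, is induced by `conj y * phi e`, whose `p`-th power is the
  Frobenius automorphism of `F`.
-/

set_option autoImplicit false
set_option linter.unusedSectionVars false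

namespace Cfsg.Agent.BpExc.FamUntw

open CoxeterSystem Subgroup Cfsg Cfsg.Lie Cfsg.Lie.ChevalleyDatum
open Cfsg.Agent.ChevalleyStructure Cfsg.Agent.ChevalleyStructure.Elts Cfsg.Agent.ChevalleyStructure.CoxeterGeom
  Cfsg.Agent.ChevalleyStructure.CoxeterGeomTypes Cfsg.Agent.ChevalleyStructure.NPerm
open Cfsg.Agent.Tits.Roots Cfsg.Agent.Tits.Core Cfsg.Agent.Nodes.Reps Cfsg.Agent.Nodes.BNOf
  Cfsg.Agent.Nodes.RGDChev Cfsg.Agent.Nodes.Bruhat Cfsg.Agent.Nodes.OppDec
open Cfsg.Agent.KFacts.RgdAut Cfsg.Agent.KFacts.RgdDiag Cfsg.Agent.KFacts.RgdRigid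
  Cfsg.Agent.KFacts.RgdField Cfsg.Agent.KFacts.RgdTau Cfsg.Agent.KFacts.RgdChevCoord
  Cfsg.Agent.CpAut.RgdUntw Cfsg.Agent.CpAut.RgdConj
open Cfsg.Agent.GpExc.Field (glMap emb coe_emb glMap_xG emb_injective coe_glMap)
open Cfsg.Agent.BpExc.FamExt Cfsg.Agent.BpExc.FamFrame Cfsg.Agent.BpExc.FamField Cfsg.Agent.BpExc.Tow
  Cfsg.Agent.BpExc.TowChev
open scoped commutatorElement

universe u

variable {D : ChevalleyDatum} {l : ℕ} {M : CoxeterMatrix (Fin l)} (hp : IsType D l M)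

section Cent

variable {F : Type u} [Field F] {k : Type u} [Field k]

/-- **The centralizer of the subfield group is trivial.** -/
theorem eq_one_of_comm (hk : LocFin k) (r : ℕ) [Fact r.Prime] [CharP k r] (f : F →+* k) (hZ : center ↥(D.group k) = ⊥) {z : ↥(D.group k)}
    (hz : ∀ y, z * emb hp.inList f y = emb hp.inList f y * z) : z = 1 := by
  obtain ⟨cs⟩ : Nonempty (CoxeterSystem M M.Group) := ⟨M.toCoxeterSystem⟩
  have hW := finite_W hp cs
  have H := tow hp cs hk r
  have hTL := TL_eq hp hk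
  have hXL := XL_eq hp hk
  have hzx : ∀ v, z * xc hp v 1 = xc hp v 1 * z := by
    intro v
    have h1 := hz (xc hp v 1)
    rwa [TowChev.emb_xc hp f, map_one] at h1
  have hz1 : z ∈ GG cs hp.isCartan (TL (Tj hp (k := k))) (XL (Xj hp)) := by
    rw [hTL, hXL, TorChev.GG_top hp cs]
    exact mem_top z
  obtain ⟨E, hE⟩ := H.mem_GG.1 hz1
  have hmem : ∀ v, IsRoot cs hp.isCartan v → xc (K := k) hp v 1 ∈ Xj hp E v := by
    intro v hv
    refine ⟨xc hp v 1, ?_, by rw [TowChev.emb_xc hp, map_one]⟩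
    obtain ⟨s, hs, rfl⟩ := (isRoot_iff hp cs v).1 hv
    rw [SetLike.mem_coe, Subgroup.mem_subgroupOf, XV_vec hp _ hs, mem_rootSubgroup_iff hp.inList]
    exact ⟨1, coe_xc hp hs 1⟩
  have hne : ∀ v, IsRoot cs hp.isCartan v → xc (K := k) hp v 1 ≠ 1 := by
    intro v hv h1
    obtain ⟨s, hs, rfl⟩ := (isRoot_iff hp cs v).1 hv
    have C := coordsL hp cs hk r
    exact (C.coord _ hv).ne_one one_ne_zero h1
  have hT : z ∈ TT D k := by
    rw [← hTL]
    exact le_TL E (FamCent.mem_T_of_comm (H.rgd E) hE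
      (fun i => ⟨_, hmem _ (isRoot_sr cs hp.isCartan i), hne _ (isRoot_sr cs hp.isCartan i), hzx _⟩)
      (fun i => ⟨_, hmem _ (isRoot_sr cs hp.isCartan i).neg, hne _ (isRoot_sr cs hp.isCartan i).neg, hzx _⟩))
  have C := coordsL hp cs hk r
  have hch : ∀ v, IsRoot cs hp.isCartan v → ch hp v z = 1 := by
    intro v hv
    have h1 := (C.coord v hv).act z hT 1
    rw [hzx v, mul_inv_cancel_right, mul_one] at h1
    exact ((C.coord v hv).inj h1).symm
  have hcent : z ∈ center ↥(D.group k) := by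
    rw [mem_center_iff]
    intro y
    have h1 : RGD.Sup (XX D l k) {x | IsRoot cs hp.isCartan x} ≤ centralizer ({z} : Set ↥(D.group k)) := by
      refine RGD.Sup_le fun v hv w hw => ?_
      obtain ⟨a, rfl⟩ := ((C.coord v hv).mem w).1 hw
      rw [mem_centralizer_singleton_iff]
      have h2 := (C.coord v hv).act z hT a
      rw [hch v hv, one_mul, mul_inv_eq_iff_eq_mul] at h2
      exact h2.symm
    have h2 : y ∈ RGD.Sup (XX D l k) {x | IsRoot cs hp.isCartan x} := by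
      have h3 : RGD.Sup (XX D l k) {x | IsRoot cs hp.isCartan x} = ⊤ := G1_eq_top hp cs
      rw [h3]
      exact mem_top y
    exact mem_centralizer_singleton_iff.1 (h1 h2)
  rwa [hZ, mem_bot] at hcent

end Cent

section Main

variable {F : Type u} [Field F] [Finite F] {k : Type u} [Field k] (hk : LocFin k) (r : ℕ) [Fact r.Prime] [CharP F r]
  [CharP k r] [PerfectRing k r] (f : F →+* k)

/-- the Frobenius automorphism `a ↦ a ^ r ^ m` of `D.group k` -/
noncomputable def phi (D : ChevalleyDatum) (k : Type u) [Field k] (r : ℕ) [Fact r.Prime] [CharP k r]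
    [PerfectRing k r] (m : ℕ) : MulAut ↥(D.group k) := fld D (frb k r m)

theorem phi_pow (m j : ℕ) : phi D k r m ^ j = phi D k r (m * j) := by
  unfold phi
  rw [← fld_pow, frb_pow]

theorem phi_coe (m : ℕ) (g : ↥(D.group k)) :
    (((phi D k r m g : D.group k) : GL D.Idx k) : Matrix D.Idx D.Idx k) =
      (((g : GL D.Idx k)) : Matrix D.Idx D.Idx k).map (fun a => a ^ r ^ m) := by
  unfold phi
  rw [fld_coe]
  ext i j
  exact frb_apply k r m _

theorem phi_emb {n : ℕ} (hn : Nat.card F = r ^ n) (g : ↥(D.group F)) :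
    phi D k r n (emb hp.inList f g) = emb hp.inList f g := by
  have h1 : ∀ a : F, frb k r n (f a) = f ((1 : F ≃+* F) a) := by
    intro a
    rw [frb_apply, ← map_pow, (forall_pow_iff r hn n).2 dvd_rfl a]
    rfl
  unfold phi
  rw [fld_emb hp f h1, fld_one]
  rfl

variable {d : ℕ} {B : Fin l → Fin l → ℤ} (hB : InvC D l d B) (hd : d ≠ 0)
  (hroots : ∀ c : F, c ≠ 0 → ∃ b : k, b ^ d = f c)

include hk hB hd hroots in
/-- **The automorphisms of prime order `p` of `D.group F`.** -/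
theorem cases (hl : Nonempty (Fin l))
    (hconn : ∀ J : Set (Fin l), J.Nonempty → J ≠ Set.univ → ∃ a ∈ J, ∃ b, b ∉ J ∧ M a b ≠ 2)
    (hZ : center ↥(D.group k) = ⊥) {p : ℕ} (hpp : p.Prime)
    (hσ : ∀ σ : Equiv.Perm (Fin l), (∀ i j, M (σ i) (σ j) = M i j) → σ ^ p = 1 → σ = 1)
    {n : ℕ} (hn : Nat.card F = r ^ n) {x : MulAut ↥(D.group F)} (hx : x ^ p = 1) :
    (∃ y : ↥(D.group k), y ^ p = 1 ∧ phi D k r n y = y ∧
      ∀ g, emb hp.inList f (x g) = y * emb hp.inList f g * y⁻¹) ∨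
    ∃ i m : ℕ, i.Coprime p ∧ 0 < m ∧ m * p = n ∧ ∃ y : ↥(D.group k),
      (MulAut.conj y * phi D k r m) ^ p = phi D k r n ∧
      ∀ g, emb hp.inList f ((x ^ i) g) = (MulAut.conj y * phi D k r m) (emb hp.inList f g) := by
  obtain ⟨cs⟩ : Nonempty (CoxeterSystem M M.Group) := ⟨M.toCoxeterSystem⟩
  have hW := finite_W hp cs
  have R := rgd (K := F) hp cs r
  have C := coords (K := F) hp cs r
  have H := coroots (K := F) hp cs r
  have hG1 : RGD.Sup (XX D l F) {x | IsRoot cs hp.isCartan x} = ⊤ := G1_eq_top hp cs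
  have hG := TorChev.GG_top (K := F) hp cs
  have hone : ∀ z : ↥(D.group k), (∀ y, z * emb hp.inList f y * z⁻¹ = emb hp.inList f y) → z = 1 :=
    fun z hz => eq_one_of_comm hp hk r f hZ fun y => by rw [← mul_inv_eq_iff_eq_mul, hz y]
  obtain ⟨g, τ, hτ, hτp⟩ := exists_frame_tau R hG C H hconn hσ hx
  by_cases hτ1 : τ = 1
  · left
    subst hτ1
    obtain ⟨t, ht, e⟩ := exists_ext hp f r hconn hB hd hroots hτ (τ' := (1 : k ≃+* k)) (fun a => rfl)
    have e' : ∀ y, emb hp.inList f (x y) = ((emb hp.inList f g)⁻¹ * t) * emb hp.inList f y *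
        ((emb hp.inList f g)⁻¹ * t)⁻¹ := by
      intro y
      have h1 := e y
      rw [fld_one, MulAut.mul_apply, MulAut.conj_apply, map_mul, map_mul, map_inv] at h1
      have h2 : emb hp.inList f (x y) = (emb hp.inList f g)⁻¹ * (emb hp.inList f g * emb hp.inList f (x y) *
        (emb hp.inList f g)⁻¹) * emb hp.inList f g := by group
      rw [h2, h1]
      show _ * (t * emb hp.inList f y * t⁻¹) * _ = _
      group
    obtain ⟨z, hz⟩ : ∃ z, z = (emb hp.inList f g)⁻¹ * t := ⟨_, rfl⟩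
    rw [← hz] at e'
    refine ⟨z, hone _ fun y => ?_, ?_, e'⟩
    · have h1 : ∀ m : ℕ, ∀ y, emb hp.inList f ((x ^ m) y) = z ^ m * emb hp.inList f y * (z ^ m)⁻¹ := by
        intro m
        induction m with
        | zero => intro y; rw [pow_zero, pow_zero, one_mul, inv_one, mul_one]; rfl
        | succ m ih =>
          intro y
          rw [pow_succ, MulAut.mul_apply, ih, e', pow_succ]
          group
      rw [← h1 p y, hx]
      rfl
    · have h1 : z⁻¹ * phi D k r n z = 1 := by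
        refine hone _ fun y => ?_
        have h2 := congrArg (phi D k r n) (e' y)
        rw [phi_emb hp r f hn, map_mul, map_mul, map_inv, phi_emb hp r f hn, e'] at h2
        calc z⁻¹ * phi D k r n z * emb hp.inList f y * (z⁻¹ * phi D k r n z)⁻¹
            = z⁻¹ * (phi D k r n z * emb hp.inList f y * (phi D k r n z)⁻¹) * z := by group
          _ = emb hp.inList f y := by rw [← h2]; group
      exact (inv_mul_eq_one.1 h1).symm
  · right
    obtain ⟨i, m, hi, hm0, hcard, hfr⟩ := exists_field r hpp hτp hτ1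
    have hmn : m * p = n := by
      rw [hn] at hcard
      exact (Nat.pow_right_injective (Fact.out : r.Prime).two_le hcard).symm
    obtain ⟨g', eg⟩ := exists_conj_pow g x i
    have hτi := hτ.pow i
    rw [eg, one_pow] at hτi
    obtain ⟨t, ht, e⟩ := exists_ext hp f r hconn hB hd hroots hτi (τ' := frb k r m) (fun a => by
      rw [frb_apply, hfr, map_pow])
    have e' : ∀ y, emb hp.inList f ((x ^ i) y) =
        (MulAut.conj ((emb hp.inList f g')⁻¹ * t) * phi D k r m) (emb hp.inList f y) := by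
      intro y
      have h1 := e y
      rw [MulAut.mul_apply, MulAut.conj_apply, map_mul, map_mul, map_inv] at h1
      have h2 : emb hp.inList f ((x ^ i) y) = (emb hp.inList f g')⁻¹ * (emb hp.inList f g' *
        emb hp.inList f ((x ^ i) y) * (emb hp.inList f g')⁻¹) * emb hp.inList f g' := by group
      rw [h2, h1, MulAut.mul_apply, MulAut.conj_apply]
      show _ * (t * phi D k r m (emb hp.inList f y) * t⁻¹) * _ = _
      group
    obtain ⟨z, hz⟩ : ∃ z, z = (emb hp.inList f g')⁻¹ * t := ⟨_, rfl⟩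
    rw [← hz] at e'
    refine ⟨i, m, hi, hm0, hmn, z, ?_, e'⟩
    obtain ⟨z', ez⟩ := exists_conj_pow z (phi D k r m) p
    rw [phi_pow, hmn] at ez
    have h1 : ∀ j : ℕ, ∀ y, emb hp.inList f (((x ^ i) ^ j) y) =
        ((MulAut.conj z * phi D k r m) ^ j) (emb hp.inList f y) := by
      intro j
      induction j with
      | zero => intro y; rw [pow_zero, pow_zero]; rfl
      | succ j ih =>
        intro y
        rw [pow_succ (x ^ i) j, MulAut.mul_apply, ih, e', pow_succ (MulAut.conj z * phi D k r m) j]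
        rfl
    have h2 : z' = 1 := by
      refine hone _ fun y => ?_
      have h3 := h1 p y
      rw [ez, MulAut.mul_apply, phi_emb hp r f hn, MulAut.conj_apply, ← pow_mul, mul_comm i p, pow_mul, hx, one_pow] at h3
      exact h3.symm
    rw [ez, h2, map_one, one_mul]

end Main

end Cfsg.Agent.BpExc.FamUntw

end

-- merged: Cfsg.Agent.BpExc.FamInst
section

/-!
# S1332-EXC (i2), untwisted families: the instances (helper66)

`fam_g2`, `fam_f4`, `fam_e6`, `fam_e7`, `fam_e8` : the hypothesis `hfam` of `Asm.bps` for `ι = emb hp.inList f : D.group F →*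
D.group k`, `σ` the Frobenius automorphism `g ↦ frob r n g`, `|F| = r ^ n`.
-/

set_option autoImplicit false
set_option linter.unusedSectionVars false

namespace Cfsg.Agent.BpExc.FamInst

open CoxeterSystem Subgroup Cfsg Cfsg.Lie Cfsg.Lie.ChevalleyDatum
open Cfsg.Agent.ChevalleyStructure Cfsg.Agent.ChevalleyStructure.Elts Cfsg.Agent.ChevalleyStructure.CoxeterGeom
  Cfsg.Agent.ChevalleyStructure.CoxeterGeomTypes Cfsg.Agent.ChevalleyStructure.NPerm
open Cfsg.Agent.Tits.Roots Cfsg.Agent.Tits.Core Cfsg.Agent.Nodes.Reps Cfsg.Agent.Nodes.BNOf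
  Cfsg.Agent.Nodes.RGDChev Cfsg.Agent.Nodes.Bruhat Cfsg.Agent.Nodes.OppDec
open Cfsg.Agent.KFacts.RgdAut Cfsg.Agent.KFacts.RgdDiag Cfsg.Agent.KFacts.RgdRigid
  Cfsg.Agent.KFacts.RgdField Cfsg.Agent.KFacts.RgdTau Cfsg.Agent.KFacts.RgdChevCoord
  Cfsg.Agent.CpAut.RgdUntw Cfsg.Agent.CpAut.RgdConj
open Cfsg.Agent.GpExc.Field (glMap emb coe_emb glMap_xG emb_injective coe_glMap)
open Cfsg.Agent.BpExc.FamExt Cfsg.Agent.BpExc.FamFrame Cfsg.Agent.BpExc.FamField Cfsg.Agent.BpExc.Tow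
  Cfsg.Agent.BpExc.TowChev Cfsg.Agent.BpExc.FamUntw Cfsg.Agent.BpExc.LangFr Cfsg.Agent.BpExc.Fr Cfsg.Agent.LangThm
open scoped commutatorElement

universe u v

section Std

variable {D : ChevalleyDatum} {l : ℕ} {M : CoxeterMatrix (Fin l)} (hp : IsType D l M)
  {k : Type u} [Field k] {W : Type v} [Group W] (cs : CoxeterSystem M W)

theorem fld_eq_emb (τ : k ≃+* k) (g : ↥(D.group k)) : fld D τ g = emb hp.inList (τ : k →+* k) g :=
  Subtype.ext (Units.ext rfl)

theorem fld_inv_fld (τ : k ≃+* k) (g : ↥(D.group k)) : fld D τ⁻¹ (fld D τ g) = g := by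
  rw [← MulAut.mul_apply, ← fld_mul, inv_mul_cancel, fld_one]
  rfl

include hp in
theorem fld_T {τ : k ≃+* k} {t : ↥(D.group k)} (ht : t ∈ TT D k) : fld D τ t ∈ TT D k := by
  rw [fld_eq_emb hp]
  exact GpExc.Field.emb_T hp _ ⟨t, ht, rfl⟩

theorem fld_X {τ : k ≃+* k} (hk : LocFin k) (r : ℕ) [Fact r.Prime] [CharP k r] {a : Fin l → ℤ}
    (ha : IsRoot cs hp.isCartan a) {y : ↥(D.group k)} (hy : y ∈ XX D l k a) : fld D τ y ∈ XX D l k a := by
  have C := coordsL hp cs hk r
  obtain ⟨s, hs, rfl⟩ := (isRoot_iff hp cs a).1 ha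
  obtain ⟨c, rfl⟩ := ((C.coord _ ha).mem y).1 hy
  rw [fld_xc hp τ hs]
  exact ((C.coord _ ha).mem _).2 ⟨_, rfl⟩

/-- field automorphisms are frame automorphisms -/
theorem fr_fld (hk : LocFin k) (r : ℕ) [Fact r.Prime] [CharP k r] (τ : k ≃+* k) :
    Fr cs hp.isCartan (TT D k) (XX D l k) (fld D τ) (AddEquiv.refl _) where
  tor t := ⟨fun ht => by rw [← fld_inv_fld τ t]; exact fld_T hp ht, fun ht => fld_T hp ht⟩
  root _ := Iff.rfl
  map a ha y := ⟨fun hy => by rw [← fld_inv_fld τ y]; exact fld_X hp cs hk r ha hy,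
    fun hy => fld_X hp cs hk r ha hy⟩

variable (r : ℕ) [Fact r.Prime] [CharP k r] [PerfectRing k r]

theorem phi_frob (m : ℕ) (g : ↥(D.group k)) : ((phi D k r m g : D.group k) : GL D.Idx k) = frob r m (g : GL D.Idx k) := by
  apply Units.ext
  rw [phi_coe]
  rfl

theorem phi_isFrob (m : ℕ) : IsFrob r m (phi D k r m) :=
  ⟨1, fun g => by rw [phi_frob, one_mul, inv_one, mul_one]⟩

theorem phi_fr (hk : LocFin k) (m : ℕ) :
    Fr cs hp.isCartan (TT D k) (XX D l k) (phi D k r m) (AddEquiv.refl _) := fr_fld hp cs hk r _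

theorem eq_phi {m : ℕ} {σ : MulAut ↥(D.group k)} (hσ : ∀ g, (σ g : GL D.Idx k) = frob r m (g : GL D.Idx k)) :
    σ = phi D k r m := by
  apply MulEquiv.ext
  intro g
  apply Subtype.ext
  rw [hσ, phi_frob]

end Std

section Main

variable {D : ChevalleyDatum} {l : ℕ} {M : CoxeterMatrix (Fin l)} (hp : IsType D l M)
  {k : Type u} [Field k] [IsAlgClosed k] (hk : LocFin k) {F : Type u} [Field F] [Finite F] (f : F →+* k)
  (r : ℕ) [Fact r.Prime] [CharP k r] [CharP F r] {W : Type v} [Group W] (cs : CoxeterSystem M W)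

include hk in
theorem fam {d : ℕ} {B : Fin l → Fin l → ℤ} (hB : InvC D l d B) (hd : d ≠ 0) (hM : SymTwo M)
    (hk1 : IsSimpleGroup ↥(D.group k) ∧ ¬ IsMulCommutative ↥(D.group k))
    (hF1 : IsSimpleGroup ↥(D.group F) ∧ ¬ IsMulCommutative ↥(D.group F))
    {p : ℕ} (hpp : p.Prime) (hp2 : p ≠ 2) {n : ℕ} (hn : Nat.card F = r ^ n) {σ : MulAut ↥(D.group k)}
    (hσ : ∀ g, (σ g : GL D.Idx k) = frob r n (g : GL D.Idx k)) (x : MulAut ↥(D.group F)) (hx : orderOf x = p) :
    (∃ y : ↥(D.group k), y ^ p = 1 ∧ σ y = y ∧ ∀ a, emb hp.inList f (x a) = y * emb hp.inList f a * y⁻¹) ∨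
    ∃ (i : ℕ) (c : ↥(D.group k)) (φ : MulAut ↥(D.group k)) (g' : (Fin l → ℤ) ≃+ (Fin l → ℤ)) (e' : ℕ),
      i.Coprime p ∧ 0 < e' ∧ IsFrob r e' φ ∧ Fr cs hp.isCartan (TT D k) (XX D l k) φ g' ∧
      fixedSubgroup (MulAut.conj c * φ) ≤ fixedSubgroup σ ∧
      ∀ a, emb hp.inList f ((x ^ i) a) = (MulAut.conj c * φ) (emb hp.inList f a) := by
  have hperf : PerfectRing k r := inferInstance
  obtain ⟨hks, hkc⟩ := hk1
  obtain ⟨hFs, hFc⟩ := hF1
  have hcent : ∀ {G : Type u} [Group G], IsSimpleGroup G → ¬ IsMulCommutative G → center G = ⊥ := by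
    intro G _ h1 h2
    refine KFacts.RgdLieCharP.center_eq_bot ?_
    by_contra hcon
    push Not at hcon
    exact h2 ⟨⟨hcon⟩⟩
  have hZ := hcent hks hkc
  have hZF := hcent hFs hFc
  have hW := finite_W hp M.toCoxeterSystem
  have R := rgd (K := F) hp M.toCoxeterSystem r
  have hG1 : RGD.Sup (XX D l F) {x | IsRoot M.toCoxeterSystem hp.isCartan x} = ⊤ := G1_eq_top hp M.toCoxeterSystem
  have hconn := KFacts.RgdLieCharP.conn_of_simple R hG1 hZF
  have hl : Nonempty (Fin l) := by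
    rw [← Fin.pos_iff_nonempty]
    rcases Nat.eq_zero_or_pos l with h0 | h0
    · exfalso
      subst h0
      have h1 : (⊤ : Subgroup ↥(D.group F)) = ⊥ := by
        rw [← hG1, eq_bot_iff]
        refine RGD.Sup_le fun x hx => ?_
        obtain ⟨w, i, -⟩ := hx
        exact i.elim0
      apply hFc
      have h2 : ∀ g : ↥(D.group F), g = 1 := fun g => by
        have : g ∈ (⊤ : Subgroup ↥(D.group F)) := Subgroup.mem_top g
        rwa [h1, Subgroup.mem_bot] at this
      exact ⟨⟨fun a b => by rw [h2 a, h2 b]⟩⟩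
    · exact h0
  have hxp : x ^ p = 1 := by rw [← hx, pow_orderOf_eq_one]
  rw [eq_phi r hσ]
  have hroots : ∀ c : F, c ≠ 0 → ∃ b : k, b ^ d = f c := fun c _ =>
    IsAlgClosed.exists_pow_nat_eq (f c) (Nat.pos_of_ne_zero hd)
  rcases FamUntw.cases hp hk r f hB hd hroots hl hconn hZ hpp (hM.eq_one hpp hp2) hn hxp with h | h
  · exact Or.inl h
  · obtain ⟨i, m, hi, hm0, hmn, y, hy, h⟩ := h
    refine Or.inr ⟨i, y, phi D k r m, AddEquiv.refl _, m, hi, hm0, phi_isFrob r m, phi_fr hp cs r hk m, ?_, h⟩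
    intro z hz
    have h1 := Glue.mem_fixed_pow (Glue.mem_fixed.1 hz) p
    rw [hy] at h1
    exact h1

end Main

/-! ### the tables -/

theorem inv_G2 : InvC chevG2 2 1 ![![2,3],![1,2]] := by
  unfold InvC
  decide +kernel

theorem inv_F4 : InvC chevF4 4 1 ![![2,3,4,2],![3,6,8,4],![2,4,6,3],![1,2,3,2]] := by
  unfold InvC
  decide +kernel

theorem inv_E6 : InvC chevE6 6 3 ![![4,3,5,6,4,2],![3,6,6,9,6,3],![5,6,10,12,8,4],![6,9,12,18,12,6],![4,6,8,12,10,5],
    ![2,3,4,6,5,4]] := by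
  unfold InvC
  decide +kernel

theorem inv_E7 : InvC chevE7 7 2 ![![4,4,6,8,6,4,2],![4,7,8,12,9,6,3],![6,8,12,16,12,8,4],![8,12,16,24,18,12,6],
    ![6,9,12,18,15,10,5],![4,6,8,12,10,8,4],![2,3,4,6,5,4,3]] := by
  unfold InvC
  decide +kernel

theorem inv_E8 : InvC chevE8 8 1 ![![4,5,7,10,8,6,4,2],![5,8,10,15,12,9,6,3],![7,10,14,20,16,12,8,4],
    ![10,15,20,30,24,18,12,6],![8,12,16,24,20,15,10,5],![6,9,12,18,15,12,8,4],![4,6,8,12,10,8,6,3],
    ![2,3,4,6,5,4,3,2]] := by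
  unfold InvC
  decide +kernel

/-! ### the instances -/

section Inst

variable {k : Type u} [Field k] [IsAlgClosed k] (hk : LocFin k) {F : Type u} [Field F] [Finite F] (f : F →+* k)
  (r : ℕ) [Fact r.Prime] [CharP k r] [CharP F r] {W : Type v} [Group W]

/-- the conclusion of `fam` = the hypothesis `hfam` of `Asm.bps` -/
def Fam {D : ChevalleyDatum} {l : ℕ} {M : CoxeterMatrix (Fin l)} (hp : IsType D l M) (cs : CoxeterSystem M W)
    (f : F →+* k) (r : ℕ) [Fact r.Prime] [CharP k r] (p : ℕ) (σ : MulAut ↥(D.group k)) : Prop :=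
  ∀ x : MulAut ↥(D.group F), orderOf x = p →
    (∃ y : ↥(D.group k), y ^ p = 1 ∧ σ y = y ∧ ∀ a, emb hp.inList f (x a) = y * emb hp.inList f a * y⁻¹) ∨
    ∃ (i : ℕ) (c : ↥(D.group k)) (φ : MulAut ↥(D.group k)) (g' : (Fin l → ℤ) ≃+ (Fin l → ℤ)) (e' : ℕ),
      i.Coprime p ∧ 0 < e' ∧ IsFrob r e' φ ∧ Fr cs hp.isCartan (TT D k) (XX D l k) φ g' ∧
      fixedSubgroup (MulAut.conj c * φ) ≤ fixedSubgroup σ ∧
      ∀ a, emb hp.inList f ((x ^ i) a) = (MulAut.conj c * φ) (emb hp.inList f a)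

theorem exists_ne_algClosed (k : Type u) [Field k] [IsAlgClosed k] : ∃ a : k, a ≠ 0 ∧ a ≠ 1 := by
  classical
  have : Infinite k := IsAlgClosed.instInfinite
  obtain ⟨a, ha⟩ := Infinite.exists_notMem_finset ({0, 1} : Finset k)
  refine ⟨a, fun h => ha (by simp only [h, _root_.Finset.mem_insert, _root_.Finset.mem_singleton, _root_.zero_ne_one, _root_.or_false]), fun h => ha (by simp only [h, _root_.Finset.mem_insert, _root_.one_ne_zero, _root_.Finset.mem_singleton, _root_.or_true])⟩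

include hk in
theorem fam_g2 (hp : IsType chevG2 2 CoxeterMatrix.G₂) (cs : CoxeterSystem CoxeterMatrix.G₂ W)
    (hF : ∃ a : F, a ≠ 0 ∧ a ≠ 1) {p : ℕ} (hpp : p.Prime) (hp2 : p ≠ 2) {n : ℕ} (hn : Nat.card F = r ^ n)
    {σ : MulAut ↥(chevG2.group k)} (hσ : ∀ g, (σ g : GL chevG2.Idx k) = frob r n (g : GL chevG2.Idx k)) :
    Fam hp cs f r p σ :=
  fam hp hk f r cs inv_G2 one_ne_zero symTwo_G2 (S1055.result (exists_ne_algClosed k)) (S1055.result hF) hpp hp2 hn hσ

include hk in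
theorem fam_f4 (hp : IsType chevF4 4 CoxeterMatrix.F₄) (cs : CoxeterSystem CoxeterMatrix.F₄ W)
    {p : ℕ} (hpp : p.Prime) (hp2 : p ≠ 2) {n : ℕ} (hn : Nat.card F = r ^ n)
    {σ : MulAut ↥(chevF4.group k)} (hσ : ∀ g, (σ g : GL chevF4.Idx k) = frob r n (g : GL chevF4.Idx k)) :
    Fam hp cs f r p σ :=
  fam hp hk f r cs inv_F4 one_ne_zero symTwo_F4 (S1054.result chevF4 (by simp)) (S1054.result chevF4 (by simp)) hpp hp2
    hn hσ

include hk in
theorem fam_e6 (hp : IsType chevE6 6 CoxeterMatrix.E₆) (cs : CoxeterSystem CoxeterMatrix.E₆ W)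
    {p : ℕ} (hpp : p.Prime) (hp2 : p ≠ 2) {n : ℕ} (hn : Nat.card F = r ^ n)
    {σ : MulAut ↥(chevE6.group k)} (hσ : ∀ g, (σ g : GL chevE6.Idx k) = frob r n (g : GL chevE6.Idx k)) :
    Fam hp cs f r p σ :=
  fam hp hk f r cs inv_E6 three_ne_zero symTwo_E6 (S1054.result chevE6 (by simp)) (S1054.result chevE6 (by simp)) hpp
    hp2 hn hσ

include hk in
theorem fam_e7 (hp : IsType chevE7 7 CoxeterMatrix.E₇) (cs : CoxeterSystem CoxeterMatrix.E₇ W)
    {p : ℕ} (hpp : p.Prime) (hp2 : p ≠ 2) {n : ℕ} (hn : Nat.card F = r ^ n)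
    {σ : MulAut ↥(chevE7.group k)} (hσ : ∀ g, (σ g : GL chevE7.Idx k) = frob r n (g : GL chevE7.Idx k)) :
    Fam hp cs f r p σ :=
  fam hp hk f r cs inv_E7 two_ne_zero symTwo_E7 (S1054.result chevE7 (by simp)) (S1054.result chevE7 (by simp)) hpp
    hp2 hn hσ

include hk in
theorem fam_e8 (hp : IsType chevE8 8 CoxeterMatrix.E₈) (cs : CoxeterSystem CoxeterMatrix.E₈ W)
    {p : ℕ} (hpp : p.Prime) (hp2 : p ≠ 2) {n : ℕ} (hn : Nat.card F = r ^ n)
    {σ : MulAut ↥(chevE8.group k)} (hσ : ∀ g, (σ g : GL chevE8.Idx k) = frob r n (g : GL chevE8.Idx k)) :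
    Fam hp cs f r p σ :=
  fam hp hk f r cs inv_E8 one_ne_zero symTwo_E8 (S1054.result chevE8 (by simp)) (S1054.result chevE8 (by simp)) hpp
    hp2 hn hσ

end Inst

end Cfsg.Agent.BpExc.FamInst

end

-- merged: Cfsg.Agent.BpExc.RowsUntw
section

/-!
# S1332-EXC: the untwisted rows (helper79)

`bps_of_fam` : `BpS p (D.group F)`, `F` of characteristic `r ≠ p`, from `Asm.End` over the algebraic closure of `ZMod r`
and the description `FamInst.Fam` of the automorphisms of order `p`.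
-/

set_option autoImplicit false
set_option linter.unusedSectionVars false

namespace Cfsg.Agent.BpExc.RowsUntw

open CoxeterSystem Subgroup Cfsg Cfsg.Lie Cfsg.Lie.ChevalleyDatum
open Cfsg.Agent.ChevalleyStructure Cfsg.Agent.ChevalleyStructure.Elts Cfsg.Agent.ChevalleyStructure.CoxeterGeom
  Cfsg.Agent.ChevalleyStructure.CoxeterGeomTypes Cfsg.Agent.ChevalleyStructure.NPerm
open Cfsg.Agent.Nodes.RGDChev Cfsg.Agent.KFacts.RgdChevCoord Cfsg.Agent.GpExc.Field
open Cfsg.Agent.BpTab Cfsg.Agent.BpExc Cfsg.Agent.BpExc.TowChev Cfsg.Agent.BpExc.FamUntw Cfsg.Agent.BpExc.FamInst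
  Cfsg.Agent.BpExc.LangFr Cfsg.Agent.BpExc.FamField

universe u

theorem exists_emb (r : ℕ) [Fact r.Prime] (F : Type) [Field F] [Finite F] [CharP F r] :
    Nonempty (F →+* AlgebraicClosure (ZMod r)) := by
  letI : Algebra (ZMod r) F := ZMod.algebra F r
  have : Algebra.IsAlgebraic (ZMod r) F := Algebra.IsAlgebraic.of_finite (ZMod r) F
  exact ⟨(IsAlgClosed.lift : F →ₐ[ZMod r] AlgebraicClosure (ZMod r)).toRingHom⟩

theorem finite_roots {k : Type u} [Field k] {q : ℕ} (hq : 1 < q) : {a : k | a ^ q = a}.Finite := by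
  classical
  have hp0 : (Polynomial.X ^ q - Polynomial.X : Polynomial k) ≠ 0 := FiniteField.X_pow_card_sub_X_ne_zero k hq
  refine ((Polynomial.X ^ q - Polynomial.X : Polynomial k).roots.toFinset.finite_toSet).subset ?_
  intro a ha
  rw [Finset.mem_coe, Multiset.mem_toFinset, Polynomial.mem_roots hp0, Polynomial.IsRoot, Polynomial.eval_sub,
    Polynomial.eval_pow, Polynomial.eval_X, sub_eq_zero]
  exact ha

/-- The fixed points of a Frobenius automorphism are finite. -/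
theorem finite_phi {D : ChevalleyDatum} {k : Type u} [Field k] {r : ℕ} [Fact r.Prime] [CharP k r] [PerfectRing k r]
    {n : ℕ} (hn : 0 < n) : Finite ↥(fixedSubgroup (phi D k r n)) := by
  have hS : Finite ↥{a : k | a ^ r ^ n = a} := (finite_roots (Nat.one_lt_pow hn.ne' (Fact.out : r.Prime).one_lt)).to_subtype
  refine Finite.of_injective (β := D.Idx → D.Idx → ↥{a : k | a ^ r ^ n = a})
    (fun g i j => ⟨((g.1 : GL D.Idx k) : Matrix D.Idx D.Idx k) i j, ?_⟩) ?_
  · have h1 : phi D k r n g.1 = g.1 := g.2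
    have h2 := congrArg (fun y : ↥(D.group k) => ((y : GL D.Idx k) : Matrix D.Idx D.Idx k) i j) h1
    simp only [phi_coe] at h2
    exact h2
  · intro g g' h
    apply Subtype.ext
    apply Subtype.ext
    apply Units.ext
    ext i j
    have h1 := congrFun (congrFun h i) j
    exact congrArg Subtype.val h1

section

variable {D : ChevalleyDatum} {l : ℕ} {M : CoxeterMatrix (Fin l)} (hp : IsType D l M)

/-- The geometry over the algebraic closure of `ZMod r`. -/
def EndR (hp : IsType D l M) (r p : ℕ) [Fact r.Prime] : Prop :=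
  Asm.End hp M.toCoxeterSystem (k := AlgebraicClosure (ZMod r)) r p

include hp in
theorem bps_of_fam {r p : ℕ} [Fact r.Prime] [Fact p.Prime] (hpr : p ≠ r) (hEnd : EndR hp r p)
    {F : Type} [Field F] [Fintype F] [CharP F r]
    (hfam : ∀ (f : F →+* AlgebraicClosure (ZMod r)) {n : ℕ} (_ : Nat.card F = r ^ n)
      {σ : MulAut ↥(D.group (AlgebraicClosure (ZMod r)))}
      (_ : ∀ g, (σ g : GL D.Idx (AlgebraicClosure (ZMod r))) =
        LangThm.frob r n (g : GL D.Idx (AlgebraicClosure (ZMod r)))), Fam hp M.toCoxeterSystem f r p σ) :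
    BpS p ↥(D.group F) := by
  obtain ⟨f⟩ := exists_emb r F
  obtain ⟨n, hn0, hn⟩ := exists_card (F := F) r
  have hk : LocFin (AlgebraicClosure (ZMod r)) := locFin_of_isAlgebraic r _
  have := finite_phi (D := D) (k := AlgebraicClosure (ZMod r)) (r := r) hn0
  have hT : ∀ y : ↥(D.group (AlgebraicClosure (ZMod r))), y ^ p = 1 →
      ∃ z : ↥(D.group (AlgebraicClosure (ZMod r))), z * y * z⁻¹ ∈ TT D (AlgebraicClosure (ZMod r)) := by
    intro y hy
    obtain ⟨z, hz⟩ := TorAll.exists_toral' hp r Fact.out hpr hy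
    exact ⟨z⁻¹, by rwa [inv_inv]⟩
  have hfr := fun g => phi_frob (D := D) (k := AlgebraicClosure (ZMod r)) r n g
  have hq : Fintype.card F = r ^ n := by rw [← hn, Nat.card_eq_fintype_card]
  let φ : AlgebraicClosure (ZMod r) →+* AlgebraicClosure (ZMod r) :=
    ((frb (AlgebraicClosure (ZMod r)) r n : AlgebraicClosure (ZMod r) ≃+* AlgebraicClosure (ZMod r)) :
      AlgebraicClosure (ZMod r) →+* AlgebraicClosure (ZMod r))
  have hφ : ∀ t, φ t = t ^ Fintype.card F := by
    intro t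
    rw [hq]
    exact frb_apply _ r n t
  have hσφ : ∀ y : ↥(D.group (AlgebraicClosure (ZMod r))),
      ((phi D (AlgebraicClosure (ZMod r)) r n y : ↥(D.group (AlgebraicClosure (ZMod r)))) :
        GL D.Idx (AlgebraicClosure (ZMod r))) = glMap D φ (y : GL D.Idx (AlgebraicClosure (ZMod r))) := by
    intro y
    apply Units.ext
    rfl
  refine Asm.bps hp M.toCoxeterSystem hk hEnd hT hn0 (phi_isFrob r n)
    (phi_fr hp M.toCoxeterSystem r hk n) (emb hp.inList f) (emb_injective hp.inList f)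
    (fun a => Emb.emb_fix hp.inList hφ hσφ a) (fun y hy a => ?_) (hfam f hn hfr)
  obtain ⟨b, hb⟩ := Emb.conj_mem_range hp.inList (f := f) hφ hσφ hy ⟨a, rfl⟩
  exact ⟨b, hb.symm⟩

end

/-! ### the rows -/

theorem exists_char (F : Type) [Field F] [Fintype F] : ∃ r : ℕ, r.Prime ∧ CharP F r := by
  obtain ⟨r, hr⟩ := CharP.exists F
  exact ⟨r, (CharP.char_is_prime F r), hr⟩

theorem exists_ne {F : Type} [Field F] [Fintype F] (h : 3 ≤ Fintype.card F) : ∃ a : F, a ≠ 0 ∧ a ≠ 1 := by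
  classical
  by_contra hcon
  push Not at hcon
  have h1 : (Finset.univ : Finset F) ⊆ {0, 1} := by
    intro a _
    rw [Finset.mem_insert, Finset.mem_singleton]
    by_cases h0 : a = 0
    · exact Or.inl h0
    · exact Or.inr (hcon a h0)
  have h2 := (Finset.card_le_card h1).trans Finset.card_le_two
  rw [Finset.card_univ] at h2
  omega

theorem g2T : IsType chevG2 2 CoxeterMatrix.G₂ := by simp [IsType, typeList]
theorem f4T : IsType chevF4 4 CoxeterMatrix.F₄ := by simp [IsType, typeList]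
theorem e6T : IsType chevE6 6 CoxeterMatrix.E₆ := by simp [IsType, typeList]
theorem e7T : IsType chevE7 7 CoxeterMatrix.E₇ := by simp [IsType, typeList]
theorem e8T : IsType chevE8 8 CoxeterMatrix.E₈ := by simp [IsType, typeList]

variable {p : ℕ} [Fact p.Prime]

theorem row_g2 (hp2 : p ≠ 2) (hEnd : ∀ (r : ℕ) [Fact r.Prime], p ≠ r → EndR g2T r p) :
    Row.{u} p fun X _ => Lie.IsoChevG2 X := by
  rintro X _ _ ⟨F, _, _, h3, ⟨e⟩⟩
  obtain ⟨r, hr, hF⟩ := exists_char F
  by_cases hpr : p = r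
  · subst hpr
    exact BpLieP.Untw.bpS_of_exceptional p hp2 (X := X) ⟨F, inferInstance, inferInstance, hF, Or.inl ⟨h3, ⟨e⟩⟩⟩
  · have : Fact r.Prime := ⟨hr⟩
    refine BpS.congr (bps_of_fam g2T hpr (hEnd r hpr) (F := F) fun f n hn σ hσ => ?_) e.symm
    exact fam_g2 (locFin_of_isAlgebraic r _) f r g2T _ (exists_ne h3) Fact.out hp2 hn hσ

theorem row_f4 (hp2 : p ≠ 2) (hEnd : ∀ (r : ℕ) [Fact r.Prime], p ≠ r → EndR f4T r p) :
    Row.{u} p fun X _ => Lie.IsoF4 X := by
  rintro X _ _ ⟨F, _, _, ⟨e⟩⟩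
  obtain ⟨r, hr, hF⟩ := exists_char F
  by_cases hpr : p = r
  · subst hpr
    exact BpLieP.Untw.bpS_of_exceptional p hp2 (X := X) ⟨F, inferInstance, inferInstance, hF, Or.inr (Or.inl ⟨e⟩)⟩
  · have : Fact r.Prime := ⟨hr⟩
    refine BpS.congr (bps_of_fam f4T hpr (hEnd r hpr) (F := F) fun f n hn σ hσ => ?_) e.symm
    exact fam_f4 (locFin_of_isAlgebraic r _) f r f4T _ Fact.out hp2 hn hσ

theorem row_e6 (hp2 : p ≠ 2) (hEnd : ∀ (r : ℕ) [Fact r.Prime], p ≠ r → EndR e6T r p) :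
    Row.{u} p fun X _ => Lie.IsoChevE6 X := by
  rintro X _ _ ⟨F, _, _, ⟨e⟩⟩
  obtain ⟨r, hr, hF⟩ := exists_char F
  by_cases hpr : p = r
  · subst hpr
    exact BpLieP.Untw.bpS_of_exceptional p hp2 (X := X) ⟨F, inferInstance, inferInstance, hF, Or.inr (Or.inr (Or.inl ⟨e⟩))⟩
  · have : Fact r.Prime := ⟨hr⟩
    refine BpS.congr (bps_of_fam e6T hpr (hEnd r hpr) (F := F) fun f n hn σ hσ => ?_) e.symm
    exact fam_e6 (locFin_of_isAlgebraic r _) f r e6T _ Fact.out hp2 hn hσ

theorem row_e7 (hp2 : p ≠ 2) (hEnd : ∀ (r : ℕ) [Fact r.Prime], p ≠ r → EndR e7T r p) :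
    Row.{u} p fun X _ => Lie.IsoE7 X := by
  rintro X _ _ ⟨F, _, _, ⟨e⟩⟩
  obtain ⟨r, hr, hF⟩ := exists_char F
  by_cases hpr : p = r
  · subst hpr
    exact BpLieP.Untw.bpS_of_exceptional p hp2 (X := X) ⟨F, inferInstance, inferInstance, hF, Or.inr (Or.inr (Or.inr (Or.inl ⟨e⟩)))⟩
  · have : Fact r.Prime := ⟨hr⟩
    refine BpS.congr (bps_of_fam e7T hpr (hEnd r hpr) (F := F) fun f n hn σ hσ => ?_) e.symm
    exact fam_e7 (locFin_of_isAlgebraic r _) f r e7T _ Fact.out hp2 hn hσ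

theorem row_e8 (hp2 : p ≠ 2) (hEnd : ∀ (r : ℕ) [Fact r.Prime], p ≠ r → EndR e8T r p) :
    Row.{u} p fun X _ => Lie.IsoE8 X := by
  rintro X _ _ ⟨F, _, _, ⟨e⟩⟩
  obtain ⟨r, hr, hF⟩ := exists_char F
  by_cases hpr : p = r
  · subst hpr
    exact BpLieP.Untw.bpS_of_exceptional p hp2 (X := X) ⟨F, inferInstance, inferInstance, hF, Or.inr (Or.inr (Or.inr (Or.inr ⟨e⟩)))⟩
  · have : Fact r.Prime := ⟨hr⟩
    refine BpS.congr (bps_of_fam e8T hpr (hEnd r hpr) (F := F) fun f n hn σ hσ => ?_) e.symm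
    exact fam_e8 (locFin_of_isAlgebraic r _) f r e8T _ Fact.out hp2 hn hσ

end Cfsg.Agent.BpExc.RowsUntw

end

private theorem dce_221907d5f1c1 : _root_.True := by
  try have : _root_.True := by simp only [_root_.Cfsg.Agent.GpExc.Field.emb.congr_simp]
  try have : _root_.True := by simp only [_root_.Cfsg.Agent.KFacts.RgdChevCoord.hc.congr_simp]
  try have : _root_.True := by simp only [_root_.Cfsg.Agent.BpExc.FamUntw.phi.congr_simp]
  exact _root_.True.intro
end

-- part: BpExc/AsmN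
section
set_option linter.all false
open scoped Cfsg.Agent.FastGrp

/-!
# S1332-EXC: assembly, the second end (helper79)

* `NS r H` : the normaliser of some Sylow `r`-subgroup of `H` is solvable; `NS.comap`, `NS.congr`;
* `EndN` : `NS r (fixC τ t)` for the frame automorphisms `τ` fixing `t` and the positive roots of `Sx t`;
* `ns` : `NS r (fixedSubgroup x)` for every automorphism `x` of order `p` of `K₀`.
-/

set_option autoImplicit false
set_option linter.unusedSectionVars false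

namespace Cfsg.Agent.BpExc.AsmN

open CoxeterSystem Subgroup Cfsg Cfsg.Lie Cfsg.Agent.ChevalleyStructure Cfsg.Agent.ChevalleyStructure.Elts
  Cfsg.Agent.ChevalleyStructure.CoxeterGeom Cfsg.Agent.ChevalleyStructure.CoxeterGeomTypes
  Cfsg.Agent.ChevalleyStructure.NPerm Cfsg.Agent.Tits.Roots Cfsg.Agent.Tits.Core Cfsg.Agent.Nodes.Reps
  Cfsg.Agent.Nodes.BNOf Cfsg.Agent.Nodes.RGDChev Cfsg.Agent.KFacts.RgdChevCoord Cfsg.Agent.KFacts.RgdField
  Cfsg.Agent.BpExc.TorCent Cfsg.Agent.BpExc.Tow Cfsg.Agent.BpExc.Fr Cfsg.Agent.BpExc.Pair Cfsg.Agent.LangThm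
  Cfsg.Agent.BpTab Cfsg.Agent.BpExc.TowChev Cfsg.Agent.BpExc.LangFr Cfsg.Agent.BpExc.Asm

universe u v w

/-- some Sylow `r`-subgroup has a solvable normaliser -/
def NS (r : ℕ) (H : Type w) [Group H] : Prop :=
  ∃ P : Sylow r H, Group.IsSolvable ↥(Subgroup.normalizer ((P : Subgroup H) : Set H))

theorem NS.comap {r : ℕ} {H : Type v} {K : Type w} [Group H] [Group K] {f : K →* H} (hf : Function.Injective f)
    (hr : ∀ Q : Subgroup H, IsPGroup r ↥Q → Q ≤ f.range) (h : NS r H) : NS r K := by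
  obtain ⟨P, hP⟩ := h
  have hle := hr P P.isPGroup'
  refine ⟨P.comapOfInjective f hf hle, ?_⟩
  have key : ∀ n ∈ Subgroup.normalizer (((P.comapOfInjective f hf hle : Sylow r K) : Subgroup K) : Set K),
      f n ∈ Subgroup.normalizer ((P : Subgroup H) : Set H) := by
    intro n hn
    rw [Subgroup.mem_normalizer_iff] at hn ⊢
    have h1 : ∀ k, k ∈ ((P.comapOfInjective f hf hle : Sylow r K) : Subgroup K) ↔ f k ∈ (P : Subgroup H) := by
      intro k
      rw [Sylow.coe_comapOfInjective, Subgroup.mem_comap]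
    intro y
    constructor
    · intro hy
      obtain ⟨k, rfl⟩ := hle hy
      have h2 := (hn k).1 ((h1 k).2 hy)
      have h3 := (h1 _).1 h2
      rwa [map_mul, map_mul, map_inv] at h3
    · intro hy
      obtain ⟨k, hk⟩ := hle hy
      have h2 : y = f (n⁻¹ * k * n) := by
        rw [map_mul, map_mul, map_inv, hk]; group
      rw [h2]
      refine (h1 _).1 ((hn _).2 ?_)
      have h3 : n * (n⁻¹ * k * n) * n⁻¹ = k := by group
      rw [h3]
      exact (h1 k).2 (by rw [hk]; exact hy)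
  let g : ↥(Subgroup.normalizer (((P.comapOfInjective f hf hle : Sylow r K) : Subgroup K) : Set K)) →*
      ↥(Subgroup.normalizer ((P : Subgroup H) : Set H)) :=
    { toFun := fun n => ⟨f n.1, key n.1 n.2⟩
      map_one' := Subtype.ext (map_one f)
      map_mul' := fun a b => Subtype.ext (map_mul f _ _) }
  refine Group.isSolvable_of_isSolvable_injective (f := g) ?_
  intro a b hab
  exact Subtype.ext (hf (congrArg Subtype.val hab))

theorem NS.congr {r : ℕ} {H : Type v} {K : Type w} [Group H] [Group K] (h : NS r H) (e : H ≃* K) : NS r K := by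
  refine h.comap (f := e.symm.toMonoidHom) e.symm.injective fun Q _ => ?_
  rw [MonoidHom.range_eq_top.2 e.symm.surjective]
  exact le_top

/-- `r`-subgroups are contained in a subgroup containing a power prime to `r` of every element. -/
theorem le_of_pow {H : Type v} [Group H] {r : ℕ} [Fact r.Prime] {N Q : Subgroup H} (hQ : IsPGroup r ↥Q)
    (h : ∀ y ∈ Q, ∃ m : ℕ, m.Coprime r ∧ y ^ m ∈ N) : Q ≤ N := by
  intro y hy
  obtain ⟨m, hm, hmN⟩ := h y hy
  obtain ⟨j, hj⟩ := hQ ⟨y, hy⟩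
  have hj' : y ^ r ^ j = 1 := congrArg Subtype.val hj
  have h1 : m.Coprime (r ^ j) := Nat.Coprime.pow_right j hm
  have h2 : (m.gcd (r ^ j) : ℤ) = m * m.gcdA (r ^ j) + (r ^ j : ℕ) * m.gcdB (r ^ j) := Nat.gcd_eq_gcd_ab m (r ^ j)
  rw [h1.gcd_eq_one] at h2
  have h3 : y = (y ^ m) ^ (m.gcdA (r ^ j)) := by
    calc y = y ^ (((1 : ℕ) : ℤ)) := by rw [Nat.cast_one, zpow_one]
      _ = y ^ ((m : ℤ) * m.gcdA (r ^ j)) * (y ^ (((r ^ j : ℕ) : ℤ) * m.gcdB (r ^ j))) := by rw [h2, zpow_add]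
      _ = (y ^ m) ^ (m.gcdA (r ^ j)) := by
        rw [zpow_mul, zpow_mul, zpow_natCast, zpow_natCast, hj', one_zpow, mul_one]
  rw [h3]
  exact N.zpow_mem hmN _

section

variable {D : ChevalleyDatum} {l : ℕ} {M : CoxeterMatrix (Fin l)} (hp : IsType D l M) {k : Type u} [Field k]
  {W : Type v} [Group W] (cs : CoxeterSystem M W) {r : ℕ} [Fact r.Prime] [CharP k r]

/-- What the geometry proves, second form. -/
def EndN (r : ℕ) [Fact r.Prime] [CharP k r] (p : ℕ) : Prop :=
  ∀ (t : ↥(D.group k)) (τ : MulAut ↥(D.group k)) (g : (Fin l → ℤ) ≃+ (Fin l → ℤ)) (e : ℕ),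
    t ∈ TT D k → t ^ p = 1 → 0 < e → IsFrob r e τ → Fr cs hp.isCartan (TT D k) (XX D l k) τ g → τ t = t →
    (∀ a ∈ Sx cs hp.isCartan (ch hp) t, 0 ≤ a → 0 ≤ g a) → Finite ↥(fixedSubgroup τ) → NS r ↥(fixC τ t)

variable {p : ℕ} [Fact p.Prime]

theorem ns_inner [IsAlgClosed k] (hk : LocFin k) (hEnd : EndN hp cs (k := k) r p)
    {σ : MulAut ↥(D.group k)} {g : (Fin l → ℤ) ≃+ (Fin l → ℤ)} {e : ℕ} (he : 0 < e) (hσ : IsFrob r e σ)
    (Fσ : Fr cs hp.isCartan (TT D k) (XX D l k) σ g) [Finite ↥(fixedSubgroup σ)] {x : ↥(D.group k)}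
    (hσx : σ x = x) (hxp : x ^ p = 1) {z : ↥(D.group k)} (hz : z * x * z⁻¹ ∈ TT D k) : NS r ↥(fixC σ x) := by
  obtain ⟨t, τ, g', h1, h2, h3, h4, h5, h6, h7, ⟨h8⟩⟩ := exists_pair hp cs (p := p) hk he hσ Fσ hσx hxp hz
  exact (hEnd t τ g' e h1 h2 he h3 h4 h5 h6 h7).congr h8

include hp cs in
theorem ns_fld [IsAlgClosed k] (hk : LocFin k) (hEnd : EndN hp cs (k := k) r p)
    {φ : MulAut ↥(D.group k)} {g : (Fin l → ℤ) ≃+ (Fin l → ℤ)} {e : ℕ} (he : 0 < e) (hφ : IsFrob r e φ)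
    (Fφ : Fr cs hp.isCartan (TT D k) (XX D l k) φ g) (c : ↥(D.group k))
    [Finite ↥(fixedSubgroup (MulAut.conj c * φ))] : NS r ↥(fixedSubgroup (MulAut.conj c * φ)) := by
  obtain ⟨z, hz⟩ := lang_all hp cs he hφ Fφ 1 c
  rw [map_one, one_mul] at hz
  have hfin : Finite ↥(fixedSubgroup φ) := Finite.of_equiv _ (Good.fieldEquiv hz).symm.toEquiv
  have h1 := ns_inner hp cs (p := p) hk hEnd he hφ Fφ (x := 1) (map_one φ) (one_pow p) (z := 1)
    (by rw [mul_one, mul_inv_cancel]; exact one_mem _)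
  rw [fixC_one] at h1
  exact h1.congr (Good.fieldEquiv hz)

include hp cs in
/-- **The assembly, second form**: `NS r (C_{K₀}(x))` for every automorphism `x` of order `p`. -/
theorem ns [IsAlgClosed k] (hk : LocFin k) (hEnd : EndN hp cs (k := k) r p)
    (hT : ∀ y : ↥(D.group k), y ^ p = 1 → ∃ z : ↥(D.group k), z * y * z⁻¹ ∈ TT D k)
    {σ : MulAut ↥(D.group k)} {g : (Fin l → ℤ) ≃+ (Fin l → ℤ)} {e : ℕ} (he : 0 < e) (hσ : IsFrob r e σ)
    (Fσ : Fr cs hp.isCartan (TT D k) (XX D l k) σ g) [Finite ↥(fixedSubgroup σ)]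
    {K₀ : Type v} [Group K₀] (ι : K₀ →* ↥(D.group k)) (hι : Function.Injective ι) (hfix : ∀ a, σ (ι a) = ι a)
    (hidx : ∀ y, σ y = y → ∃ m : ℕ, m.Coprime r ∧ y ^ m ∈ ι.range)
    (hfam : ∀ x : MulAut K₀, orderOf x = p →
      (∃ y : ↥(D.group k), y ^ p = 1 ∧ σ y = y ∧ ∀ a, ι (x a) = y * ι a * y⁻¹) ∨
      ∃ (i : ℕ) (c : ↥(D.group k)) (φ : MulAut ↥(D.group k)) (g' : (Fin l → ℤ) ≃+ (Fin l → ℤ)) (e' : ℕ),
        i.Coprime p ∧ 0 < e' ∧ IsFrob r e' φ ∧ Fr cs hp.isCartan (TT D k) (XX D l k) φ g' ∧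
        fixedSubgroup (MulAut.conj c * φ) ≤ fixedSubgroup σ ∧ ∀ a, ι ((x ^ i) a) = (MulAut.conj c * φ) (ι a))
    {x : MulAut K₀} (hx : orderOf x = p) : NS r ↥(fixedSubgroup x) := by
  have key : ∀ {H : Subgroup ↥(D.group k)} {x : MulAut K₀}, (∀ y ∈ H, σ y = y) →
      (∀ a, x a = a ↔ ι a ∈ H) → NS r ↥H → NS r ↥(fixedSubgroup x) := by
    intro H x hH hx h
    let f : ↥(fixedSubgroup x) →* ↥H :=
      { toFun := fun a => ⟨ι a, (hx a.1).1 a.2⟩
        map_one' := Subtype.ext (map_one ι)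
        map_mul' := fun a b => Subtype.ext (map_mul ι _ _) }
    have hf : Function.Injective f := fun a b hab => Subtype.ext (hι (congrArg Subtype.val hab))
    refine h.comap hf fun Q hQ => le_of_pow hQ fun y _ => ?_
    obtain ⟨m, hm, a, ha⟩ := hidx y.1 (hH y.1 y.2)
    refine ⟨m, hm, ⟨a, (hx a).2 ?_⟩, Subtype.ext ha⟩
    rw [ha]
    exact H.pow_mem y.2 m
  rcases hfam x hx with ⟨y, hyp, hσy, hy⟩ | ⟨i, c, φ, g', e', hi, he', hφ, Fφ, hle, hy⟩
  · obtain ⟨z, hz⟩ := hT y hyp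
    refine key (H := fixC σ y) (fun a ha => ha.1) (fun a => ?_) (ns_inner hp cs (p := p) hk hEnd he hσ Fσ hσy hyp hz)
    rw [fixC_eq]
    constructor
    · intro ha
      refine ⟨hfix a, Subgroup.mem_centralizer_singleton_iff.2 ?_⟩
      have h1 := hy a
      rw [ha] at h1
      exact eq_mul_inv_iff_mul_eq.1 h1
    · intro ha
      apply hι
      rw [hy a, mul_inv_eq_iff_eq_mul]
      exact (Subgroup.mem_centralizer_singleton_iff.1 ha.2).symm
  · have hfin : Finite ↥(fixedSubgroup (MulAut.conj c * φ)) :=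
      Finite.of_injective (Subgroup.inclusion hle) (Subgroup.inclusion_injective _)
    have h3 : x ^ p = 1 := by rw [← hx]; exact pow_orderOf_eq_one x
    rw [← Glue.fixedSubgroup_pow h3 hi]
    refine key (H := fixedSubgroup (MulAut.conj c * φ)) (fun a ha => hle ha) (fun a => ?_) (ns_fld hp cs (p := p) hk hEnd he' hφ Fφ c)
    constructor
    · intro ha
      show (MulAut.conj c * φ) (ι a) = ι a
      rw [← hy, ha]
    · intro ha
      apply hι
      rw [hy]
      exact ha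

end

end Cfsg.Agent.BpExc.AsmN
end

-- part: H944/TorAnyChev
section
prune_inst 0x420304401e0000800182082d10022044400049200608c009d810a4c0802736208038001050039135238a280000100081000007000000000000004000001012088a8120430000108400096000004000000000000000000000000000000041004000000000
set_option linter.all false
open scoped Cfsg.Agent.FastGrp

-- part: H944/CoprimeConj
section
/-!
# Elements of order prime to `p` in a coset of a normal `p`-subgroup (helper944)

`exists_conj_eq` : `U` a finite `p`-subgroup normalised by `t`, `⟨t⟩ ∩ U = 1`, `y ∈ t U` with `y ^ N = 1`, `N` prime to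
`p`: `y` is conjugate to `t` by an element of `U`.
-/

set_option autoImplicit false

namespace Cfsg.Agent.H944.CoprimeConj

open Subgroup Pointwise

variable {Y : Type*} [Group Y]

/-- **Schur–Zassenhaus for elements.** -/
theorem exists_conj_eq [Finite Y] {p N : ℕ} [Fact p.Prime] (hN : N.Coprime p) {U : Subgroup Y} (hU : IsPGroup p U)
    {t y : Y} (ht : t ∈ normalizer (U : Set Y)) (htU : zpowers t ⊓ U = ⊥) (hy : y ^ N = 1) (hyt : t⁻¹ * y ∈ U) :
    ∃ v ∈ U, v * y * v⁻¹ = t := by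
  classical
  have hzn : zpowers t ≤ normalizer (U : Set Y) := by
    rw [zpowers_le]; exact ht
  set Γ : Subgroup Y := U ⊔ zpowers t with hΓ
  have hUΓ : U ≤ Γ := le_sup_left
  have htΓ : t ∈ Γ := (le_sup_right : zpowers t ≤ Γ) (mem_zpowers t)
  have hyΓ : y ∈ Γ := by
    have h1 : y = t * (t⁻¹ * y) := by group
    rw [h1]
    exact mul_mem htΓ (hUΓ hyt)
  have hΓn : Γ ≤ normalizer (U : Set Y) := sup_le le_normalizer hzn
  have hNn : (U.subgroupOf Γ).Normal := by
    rw [normal_subgroupOf_iff_le_normalizer hUΓ]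
    exact hΓn
  -- `Γ / U` is generated by the image of `t`, and of `y`
  have hmem : ∀ g ∈ Γ, ∃ u ∈ U, ∃ i : ℤ, g = u * t ^ i := by
    intro g hg
    have h1 : g ∈ ((U ⊔ zpowers t : Subgroup Y) : Set Y) := hg
    rw [Subgroup.coe_mul_of_right_le_normalizer_left _ _ hzn, Set.mem_mul] at h1
    obtain ⟨u, hu, z, hz, e⟩ := h1
    obtain ⟨i, rfl⟩ := mem_zpowers_iff.1 hz
    exact ⟨u, hu, i, e.symm⟩
  -- the order of `t` is prime to `p`
  have hpow : ∀ i : ℕ, ∃ u ∈ U, y ^ i = t ^ i * u := by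
    intro i
    induction i with
    | zero => exact ⟨1, one_mem _, by simp⟩
    | succ i ih =>
      obtain ⟨u, hu, e⟩ := ih
      have h1 : t⁻¹ * u * t ∈ U := by
        have := (mem_normalizer_iff''.1 ht u).1 hu
        exact this
      refine ⟨t⁻¹ * u * t * (t⁻¹ * y), mul_mem h1 hyt, ?_⟩
      rw [pow_succ, e, pow_succ]
      group
  have htN : t ^ N = 1 := by
    obtain ⟨u, hu, e⟩ := hpow N
    rw [hy] at e
    have h1 : t ^ N ∈ U := by
      have : t ^ N = u⁻¹ := eq_inv_of_mul_eq_one_left e.symm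
      rw [this]; exact inv_mem hu
    have h2 : t ^ N ∈ zpowers t ⊓ U := ⟨pow_mem (mem_zpowers t) _, h1⟩
    rw [htU, mem_bot] at h2
    exact h2
  obtain ⟨m, hm⟩ := IsPGroup.iff_card.1 hU
  have hp : p.Prime := Fact.out
  have hcop : ∀ z : Y, z ^ N = 1 → (Nat.card U).Coprime (Nat.card (zpowers z)) := by
    intro z hz
    rw [hm, Nat.card_zpowers]
    apply Nat.Coprime.pow_left
    exact (Nat.Coprime.coprime_dvd_left (orderOf_dvd_of_pow_eq_one hz) hN).symm
  have hyU : zpowers y ⊓ U = ⊥ := by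
    rw [eq_bot_iff]
    intro g hg
    have h1 : orderOf g ∣ Nat.card U := by
      have := _root_.orderOf_dvd_natCard (⟨g, hg.2⟩ : U)
      rwa [← Subgroup.orderOf_coe] at this
    have h2 : orderOf g ∣ Nat.card (zpowers y) := by
      have := _root_.orderOf_dvd_natCard (⟨g, hg.1⟩ : zpowers y)
      rwa [← Subgroup.orderOf_coe] at this
    have h3 : orderOf g = 1 := Nat.eq_one_of_dvd_coprimes (hcop y hy) h1 h2
    exact mem_bot.2 (orderOf_eq_one_iff.1 h3)
  -- complements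
  have hcompl : ∀ z : Y, z ∈ Γ → zpowers z ⊓ U = ⊥ → (∀ g ∈ Γ, ∃ u ∈ U, ∃ i : ℤ, g = u * z ^ i) →
      IsComplement' (U.subgroupOf Γ) ((zpowers z).subgroupOf Γ) := by
    intro z hz hzU hg
    apply isComplement'_of_disjoint_and_mul_eq_univ
    · rw [disjoint_iff, eq_bot_iff]
      intro g hg
      have h1 : (g : Y) ∈ zpowers z ⊓ U := ⟨hg.2, hg.1⟩
      rw [hzU, mem_bot] at h1
      exact mem_bot.2 (Subtype.ext h1)
    · rw [Set.eq_univ_iff_forall]
      intro g
      obtain ⟨u, hu, i, e⟩ := hg g g.2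
      refine Set.mem_mul.2 ⟨⟨u, hUΓ hu⟩, hu, ⟨z ^ i, zpow_mem hz i⟩, ?_, Subtype.ext e.symm⟩
      exact zpow_mem (mem_zpowers z) i
  have hmem' : ∀ g ∈ Γ, ∃ u ∈ U, ∃ i : ℤ, g = u * y ^ i := by
    intro g hg
    obtain ⟨u, hu, i, e⟩ := hmem g hg
    -- `t ^ i ≡ y ^ i`
    have hpowz : ∀ i : ℤ, ∃ u ∈ U, t ^ i = u * y ^ i := by
      have hyn : y ∈ normalizer (U : Set Y) := hΓn hyΓ
      intro i
      have key : ∀ j : ℕ, ∃ u ∈ U, t ^ j = u * y ^ j := by
        intro j
        obtain ⟨u, hu, e⟩ := hpow j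
        refine ⟨y ^ j * u⁻¹ * (y ^ j)⁻¹, (mem_normalizer_iff.1 (pow_mem hyn j) _).1 (inv_mem hu), ?_⟩
        rw [e]; group
      rcases Int.eq_nat_or_neg i with ⟨j, rfl | rfl⟩
      · obtain ⟨u, hu, e⟩ := key j
        exact ⟨u, hu, by simpa using e⟩
      · obtain ⟨u, hu, e⟩ := key j
        refine ⟨(y ^ j)⁻¹ * u⁻¹ * (y ^ j), ?_, ?_⟩
        · exact (mem_normalizer_iff''.1 (pow_mem hyn j) _).1 (inv_mem hu)
        · rw [zpow_neg, zpow_neg, zpow_natCast, zpow_natCast, e]; group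
    obtain ⟨u', hu', e'⟩ := hpowz i
    exact ⟨u * u', mul_mem hu hu', i, by rw [e, e', mul_assoc]⟩
  have hC1 := hcompl t htΓ htU hmem
  have hC2 := hcompl y hyΓ hyU hmem'
  have hcopidx : (Nat.card (U.subgroupOf Γ)).Coprime (U.subgroupOf Γ).index := by
    rw [hC1.symm.index_eq_card, Nat.card_congr (subgroupOfEquivOfLe hUΓ).toEquiv,
      Nat.card_congr (subgroupOfEquivOfLe (le_sup_right : zpowers t ≤ Γ)).toEquiv]
    exact hcop t htN
  have hsolv : Group.IsSolvable (U.subgroupOf Γ) ∨ Group.IsSolvable (Γ ⧸ (U.subgroupOf Γ)) := by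
    left
    have h1 : IsPGroup p (U.subgroupOf Γ) := hU.comap_subtype
    have : Group.IsNilpotent (U.subgroupOf Γ) := h1.isNilpotent
    infer_instance
  obtain ⟨g, hg⟩ := Cfsg.Agent.S0001.result (U.subgroupOf Γ) hcopidx hsolv _ _ hC2 hC1
  obtain ⟨u, hu, i, e⟩ := hmem' g g.2
  -- `u y u⁻¹ ∈ ⟨t⟩`
  have h1 : (g : Y) * y * (g : Y)⁻¹ ∈ zpowers t := by
    have h2 : (g * ⟨y, hyΓ⟩ * g⁻¹ : Γ) ∈ MulAut.conj g • ((zpowers y).subgroupOf Γ) := by
      rw [Subgroup.mem_pointwise_smul_iff_inv_smul_mem, ← map_inv, MulAut.smul_def, MulAut.conj_apply, inv_inv]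
      have : g⁻¹ * (g * ⟨y, hyΓ⟩ * g⁻¹) * g = (⟨y, hyΓ⟩ : Γ) := by group
      rw [this]
      exact mem_zpowers y
    rw [hg] at h2
    exact h2
  have h2 : (g : Y) * y * (g : Y)⁻¹ = u * y * u⁻¹ := by
    rw [e]; group
  rw [h2] at h1
  refine ⟨u, hu, ?_⟩
  obtain ⟨j, hj⟩ := mem_zpowers_iff.1 h1
  -- compare modulo `U`
  have h3 : t ^ (j - 1) ∈ zpowers t ⊓ U := by
    refine ⟨zpow_mem (mem_zpowers t) _, ?_⟩
    have h4 : t ^ (j - 1) = t⁻¹ * (u * y * u⁻¹) := by
      rw [← hj, sub_eq_neg_add, zpow_add, zpow_neg, zpow_one]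
    have h5 : t⁻¹ * (u * y * u⁻¹) = (t⁻¹ * u * t) * (t⁻¹ * y) * u⁻¹ := by group
    rw [h4, h5]
    exact U.mul_mem (U.mul_mem ((mem_normalizer_iff''.1 ht u).1 hu) hyt) (U.inv_mem hu)
  rw [htU, mem_bot] at h3
  rw [← hj]
  have h6 : t ^ j = t ^ (j - 1) * t := by
    rw [zpow_sub_one]; group
  rw [h6, h3, one_mul]

end Cfsg.Agent.H944.CoprimeConj
end

-- part: H944/TorAny
section
/-!
# Torality of elements of composite order (helper944)

`R : RGD cs h p T n X`, `Y` finite, `GG = ⊤`.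

* `card_fix_pair` : the number of chambers fixed by two frame automorphisms;
* `exists_pair_conj` : a frame automorphism `β` and an element `c` with `β c = c`, `c ^ N = 1`, `N` prime to `p`, with a
  common fixed chamber are simultaneously conjugate to `conj t * β`, `conj t₁`, `t, t₁ ∈ T`;
* `exists_conj_mem_T_coprime` : torality from Lang's theorem for an element `x` with `x ^ N = 1`, `N` prime to `p`.
-/

set_option autoImplicit false
set_option linter.unusedSectionVars false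

namespace Cfsg.Agent.H944.TorAny

open CoxeterSystem Cfsg.Agent.ChevalleyStructure.CoxeterGeom Cfsg.Agent.Tits.Roots Cfsg.Agent.Tits.Core
  Cfsg.Agent.Tits.RootComb Cfsg.Agent.Tits.Exchange Cfsg.Agent.Nodes.Reps Cfsg.Agent.Nodes.BNOf
  Cfsg.Agent.Nodes.Comb Cfsg.Agent.Nodes.BNOf.RGD Cfsg.Agent.Nodes.Unique Cfsg.Agent.Nodes.CardSup
  Cfsg.Agent.Nodes.StabComb Cfsg.Agent.Nodes.Bruhat Cfsg.Agent.Nodes.OppDec Cfsg.Agent.Nodes.LeviDec
  Cfsg.Agent.Nodes.NormalForm Cfsg.Agent.KFacts.RgdOpp Cfsg.Agent.KFacts.RgdAut Cfsg.Agent.KFacts.RgdDiag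
  Cfsg.Agent.KFacts.RgdRigid Cfsg.Agent.CpAut.RgdFix Cfsg.Agent.CpAut.RgdCoh Cfsg.Agent.CpAut.RgdConj
  Cfsg.Agent.BpExc.TorRgd Cfsg.Agent.BpExc
open scoped commutatorElement Pointwise

variable {I W Y : Type*} [Fintype I] [DecidableEq I] [Group W] [Group Y] {M : CoxeterMatrix I}
  {cs : CoxeterSystem M W} {A : I → I → ℤ} {h : IsCartan M A} {p : ℕ} {T : Subgroup Y} {n : I → Y}
  {X : (I → ℤ) → Subgroup Y} (R : RGD cs h p T n X)

include R

/-! ### fixed points of two automorphisms -/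

/-- the splitting of a fixed element -/
theorem fix_split [Finite W] {β : MulAut Y} (D : _root_.Cfsg.Agent.KFacts.RgdDiag.Diag T X β 1) {w : W} {i : I} {s : Set (I → ℤ)}
    (hi : rep cs h w (sr i) ∈ s) (hS : s ⊆ Pos cs h) (hsub : s \ {rep cs h w (sr i)} ⊆ Fut cs h (w * cs.simple i))
    {a b : Y} (ha : a ∈ X (rep cs h w (sr i))) (hb : b ∈ Sup X (s \ {rep cs h w (sr i)}))
    (hg : β (a * b) = a * b) : β a = a ∧ β b = b := by
  have hinf : X (rep cs h w (sr i)) ⊓ Sup X (s \ {rep cs h w (sr i)}) = ⊥ := by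
    rw [eq_bot_iff, ← tail_inf R (w := w) (i := i)]
    exact inf_le_inf_left _ (Sup_mono hsub)
  have hroot : ∀ z ∈ s, _root_.Cfsg.Agent.KFacts.RgdAut.Fix β (X z) := fun z hz => fix_X R D (hS hz).1
  have ha' : β a ∈ X (rep cs h w (sr i)) := (hroot _ hi a).2 ha
  have hb' : β b ∈ Sup X (s \ {rep cs h w (sr i)}) :=
    (fix_Sup (fun z hz => hroot z hz.1) b).2 hb
  rw [map_mul] at hg
  have e2 : a⁻¹ * β a = b * (β b)⁻¹ := by
    rw [eq_mul_inv_iff_mul_eq, mul_assoc, hg, inv_mul_cancel_left]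
  have e3 : a⁻¹ * β a ∈ X (rep cs h w (sr i)) ⊓ Sup X (s \ {rep cs h w (sr i)}) :=
    Subgroup.mem_inf.2 ⟨mul_mem (inv_mem ha) ha', by rw [e2]; exact mul_mem hb (inv_mem hb')⟩
  rw [hinf, Subgroup.mem_bot] at e3
  have e4 : β a = a := (inv_mul_eq_one.1 e3).symm
  rw [e4] at hg
  exact ⟨e4, mul_left_cancel hg⟩

theorem card_fix_pair_fut [Finite W] {β τ : MulAut Y} (D : _root_.Cfsg.Agent.KFacts.RgdDiag.Diag T X β 1) (D' : _root_.Cfsg.Agent.KFacts.RgdDiag.Diag T X τ 1) (w : W)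
    {s : Finset (I → ℤ)} (hS : (s : Set (I → ℤ)) ⊆ Fut cs h w) (hc : Closed cs h (s : Set (I → ℤ))) :
    Nat.card ↥(Sup X (s : Set (I → ℤ)) ⊓ (fixedSubgroup β ⊓ fixedSubgroup τ)) =
      ∏ x ∈ s, Nat.card ↥(X x ⊓ (fixedSubgroup β ⊓ fixedSubgroup τ)) := by
  classical
  induction hn : (Fut cs h w).ncard generalizing w s with
  | zero =>
    have h1 := (Set.ncard_eq_zero (finite_fut w)).1 hn
    rw [h1, Set.subset_empty_iff, Finset.coe_eq_empty] at hS
    subst hS
    have h2 : Sup X ((∅ : Finset (I → ℤ)) : Set (I → ℤ)) ⊓ (fixedSubgroup β ⊓ fixedSubgroup τ) = ⊥ := by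
      rw [eq_bot_iff]
      refine le_trans inf_le_left (Sup_le fun z hz => ?_)
      simp at hz
    rw [h2, Subgroup.card_bot, Finset.prod_empty]
  | succ k ih =>
    have hne : (Fut cs h w).Nonempty := by
      rw [Set.nonempty_iff_ne_empty]
      intro h1
      rw [h1, Set.ncard_empty] at hn
      omega
    obtain ⟨y, hy⟩ := hne
    obtain ⟨i, hi⟩ := exists_simple hy
    have hcard : (Fut cs h (w * cs.simple i)).ncard = k := by
      rw [fut_mul hi, Set.ncard_sdiff_singleton_of_mem (mem_fut hi), hn]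
      rfl
    have hsub : (s : Set (I → ℤ)) \ {rep cs h w (sr i)} ⊆ Fut cs h (w * cs.simple i) := by
      rw [fut_mul hi]
      exact Set.sdiff_subset_sdiff_left hS
    have hcl := closed_diff hi hS hc
    by_cases hx : rep cs h w (sr i) ∈ s
    · have e1 : ((s.erase (rep cs h w (sr i)) : Finset (I → ℤ)) : Set (I → ℤ)) =
          (s : Set (I → ℤ)) \ {rep cs h w (sr i)} := Finset.coe_erase _ s
      have key := ih (w * cs.simple i) (s := s.erase (rep cs h w (sr i))) (by rw [e1]; exact hsub)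
        (by rw [e1]; exact hcl) hcard
      rw [e1] at key
      rw [← Finset.mul_prod_erase s _ hx, ← key]
      have hpos : (s : Set (I → ℤ)) ⊆ Pos cs h := hS.trans (fut_subset_pos w)
      have hinf : X (rep cs h w (sr i)) ⊓ Sup X ((s : Set (I → ℤ)) \ {rep cs h w (sr i)}) = ⊥ := by
        rw [eq_bot_iff, ← tail_inf R (w := w) (i := i)]
        exact inf_le_inf_left _ (Sup_mono hsub)
      refine card_mul_of_disjoint
        (inf_le_inf_right _ (le_Sup (S := (s : Set (I → ℤ))) (Finset.mem_coe.2 hx)))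
        (inf_le_inf_right _ (Sup_mono Set.sdiff_subset)) ?_ ?_
      · rintro g ⟨hg, hgf, hgf'⟩
        obtain ⟨a, ha, b, hb, rfl⟩ := (mem_peel R hpos hc (Finset.mem_coe.2 hx)).1 hg
        obtain ⟨f1, f2⟩ := fix_split R D (Finset.mem_coe.2 hx) hpos hsub ha hb hgf
        obtain ⟨f3, f4⟩ := fix_split R D' (Finset.mem_coe.2 hx) hpos hsub ha hb hgf'
        exact ⟨a, ⟨ha, f1, f3⟩, b, ⟨hb, f2, f4⟩, rfl⟩
      · rw [eq_bot_iff, ← hinf]
        exact inf_le_inf inf_le_left inf_le_left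
    · have hs : (s : Set (I → ℤ)) \ {rep cs h w (sr i)} = s :=
        Set.sdiff_singleton_eq_self (fun h => hx (Finset.mem_coe.1 h))
      rw [hs] at hsub
      exact ih (w * cs.simple i) hsub hc hcard

theorem card_fix_pair_NW_modEq [Finite W] {β τ : MulAut Y} (D : _root_.Cfsg.Agent.KFacts.RgdDiag.Diag T X β 1) (D' : _root_.Cfsg.Agent.KFacts.RgdDiag.Diag T X τ 1) {k : ℕ}
    (hk : ∀ x, IsRoot cs h x → Nat.card ↥(X x ⊓ (fixedSubgroup β ⊓ fixedSubgroup τ)) ≡ 1 [MOD k]) (w : W) :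
    Nat.card ↥(Sup X (NW cs h w) ⊓ (fixedSubgroup β ⊓ fixedSubgroup τ)) ≡ 1 [MOD k] := by
  classical
  have h1 := card_fix_pair_fut R D D' 1 (s := (finite_NW w).toFinset) (by
    rw [fut_one, Set.Finite.coe_toFinset]
    exact fun x hx => ⟨hx.1, hx.2.1⟩) (by
    rw [Set.Finite.coe_toFinset]
    exact closed_NW w)
  rw [Set.Finite.coe_toFinset] at h1
  rw [h1]
  have h2 : ∀ s : Finset (I → ℤ), (∀ x ∈ s, IsRoot cs h x) →
      ∏ x ∈ s, Nat.card ↥(X x ⊓ (fixedSubgroup β ⊓ fixedSubgroup τ)) ≡ 1 [MOD k] := by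
    intro s
    induction s using Finset.induction_on with
    | empty => intro _; rw [Finset.prod_empty]
    | insert a s ha ih =>
      intro hs
      rw [Finset.prod_insert ha]
      have := (hk a (hs a (Finset.mem_insert_self a s))).mul (ih fun x hx => hs x (Finset.mem_insert_of_mem hx))
      rwa [one_mul] at this
  exact h2 _ fun x hx => ((Set.Finite.mem_toFinset _).1 hx).1

section Chambers

variable [Finite Y] [Fact p.Prime]

omit [Finite Y] in
theorem act_cell [Finite W] (hG : GG cs h T X = ⊤) {P : Sylow p Y}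
    (hP : (P : Subgroup Y) = RGD.Sup X (RGD.Pos cs h)) {β : MulAut Y} (D : _root_.Cfsg.Agent.KFacts.RgdDiag.Diag T X β 1) {w : W} {k : Y}
    (hk : Rp cs R.nsys w k) (v : Y) : β • ((k * v)⁻¹ • P) = (k * β v)⁻¹ • P := by
  have hβP : β • P = P := by
    rw [aut_smul_eq_iff, hP]
    exact fix_Sup fun x hx => fix_X R D hx.1
  have hmv : β • ((k * v)⁻¹ • P) = (β k * β v)⁻¹ • P := by
    rw [aut_smul_smul, hβP, map_inv, map_mul]
  have hT : ∀ {t g : Y}, t ∈ T → (t * g)⁻¹ • P = g⁻¹ • P := by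
    intro t g ht
    rw [mul_inv_rev, mul_smul, (smul_eq_iff_mem_B R hG hP).2 (RGD.T_le_B (inv_mem ht))]
  have hkβ : ∃ t ∈ T, β k = t * k := by
    refine ⟨β k * k⁻¹, ?_, by rw [inv_mul_cancel_right]⟩
    have := (fix_rp R D hk).mul hk.inv
    rw [mul_inv_cancel] at this
    exact this.mem_of_one
  obtain ⟨t, ht, e⟩ := hkβ
  rw [hmv, e, mul_assoc, hT ht]

/-- every chamber is in a cell -/
theorem exists_cell [Finite W] (hG : GG cs h T X = ⊤) {P : Sylow p Y}
    (hP : (P : Subgroup Y) = RGD.Sup X (RGD.Pos cs h)) (S : Sylow p Y) :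
    ∃ w : W, ∀ k, Rp cs R.nsys w k → ∃ v ∈ Sup X (NW cs h w), S = (k * v)⁻¹ • P := by
  obtain ⟨g₀, hg₀⟩ := MulAction.exists_smul_eq Y P S
  obtain ⟨g, rfl⟩ : ∃ g, g₀ = g⁻¹ := ⟨g₀⁻¹, (inv_inv g₀).symm⟩
  have hgG : g ∈ GG cs h T X := by rw [hG]; exact Subgroup.mem_top g
  obtain ⟨w, hw⟩ := (mem_GG R).1 hgG
  obtain ⟨u, hu, k', hk', v, hv, rfl⟩ := exists_normal_form R hw
  refine ⟨w, fun k hk => ⟨v, hv, ?_⟩⟩
  have hT : ∀ {t g : Y}, t ∈ T → (t * g)⁻¹ • P = g⁻¹ • P := by
    intro t g ht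
    rw [mul_inv_rev, mul_smul, (smul_eq_iff_mem_B R hG hP).2 (RGD.T_le_B (inv_mem ht))]
  have h1 : k' * k⁻¹ ∈ T := by
    have := hk'.mul hk.inv
    rw [mul_inv_cancel] at this
    exact this.mem_of_one
  have h2 : u * k' * v = u * ((k' * k⁻¹) * (k * v)) := by group
  rw [← hg₀, h2, mul_inv_rev, mul_smul, (smul_eq_iff_mem_B R hG hP).2 (RGD.U_le_B (inv_mem hu)), hT h1]

/-- the fixed chambers in a cell -/
theorem fix_cell [Finite W] (hG : GG cs h T X = ⊤) {P : Sylow p Y}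
    (hP : (P : Subgroup Y) = RGD.Sup X (RGD.Pos cs h)) {β : MulAut Y} (D : _root_.Cfsg.Agent.KFacts.RgdDiag.Diag T X β 1) {w : W} {k v : Y}
    (hk : Rp cs R.nsys w k) (hv : v ∈ Sup X (NW cs h w)) (hS : β • ((k * v)⁻¹ • P) = (k * v)⁻¹ • P) : β v = v := by
  rw [act_cell R hG hP D hk] at hS
  have hv' : β v ∈ Sup X (NW cs h w) := (fix_Sup (fun x hx => fix_X R D hx.1) v).2 hv
  exact (cell_inj R hG hP hk hk hv' hv hS).2

/-- **The number of chambers fixed by two frame automorphisms.** -/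
theorem card_fix_pair [Fintype W] (hG : GG cs h T X = ⊤) {β τ : MulAut Y} (D : _root_.Cfsg.Agent.KFacts.RgdDiag.Diag T X β 1) (D' : _root_.Cfsg.Agent.KFacts.RgdDiag.Diag T X τ 1) :
    Nat.card {S : Sylow p Y // β • S = S ∧ τ • S = S} =
      ∑ w : W, Nat.card ↥(Sup X (NW cs h w) ⊓ (fixedSubgroup β ⊓ fixedSubgroup τ)) := by
  classical
  obtain ⟨P, hP⟩ := exists_sylow_eq R hG
  have hex : ∀ w : W, ∃ k, Rp cs R.nsys w k := fun w => exists_rp cs R.nsys w
  choose k hk using hex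
  let f : (Σ w : W, ↥(Sup X (NW cs h w) ⊓ (fixedSubgroup β ⊓ fixedSubgroup τ))) →
      {S : Sylow p Y // β • S = S ∧ τ • S = S} := fun q =>
    ⟨(k q.1 * q.2)⁻¹ • P, by
      have h1 : β (q.2 : Y) = q.2 := q.2.2.2.1
      rw [act_cell R hG hP D (hk _), h1], by
      have h1 : τ (q.2 : Y) = q.2 := q.2.2.2.2
      rw [act_cell R hG hP D' (hk _), h1]⟩
  have hf : Function.Bijective f := by
    constructor
    · rintro ⟨w, ⟨v, hv, hvf⟩⟩ ⟨w', ⟨v', hv', hvf'⟩⟩ e
      have e1 : (k w * v)⁻¹ • P = (k w' * v')⁻¹ • P := congrArg Subtype.val e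
      obtain ⟨rfl, rfl⟩ := cell_inj R hG hP (hk w) (hk w') hv hv' e1
      rfl
    · rintro ⟨S, hS, hS'⟩
      obtain ⟨w, hw⟩ := exists_cell R hG hP S
      obtain ⟨v, hv, rfl⟩ := hw (k w) (hk w)
      exact ⟨⟨w, ⟨v, hv, fix_cell R hG hP D (hk w) hv hS, fix_cell R hG hP D' (hk w) hv hS'⟩⟩, rfl⟩
  rw [← Nat.card_congr (Equiv.ofBijective f hf), Nat.card_sigma]

theorem card_fix_pair_modEq [Finite W] (hG : GG cs h T X = ⊤) {β τ : MulAut Y} (D : _root_.Cfsg.Agent.KFacts.RgdDiag.Diag T X β 1)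
    (D' : _root_.Cfsg.Agent.KFacts.RgdDiag.Diag T X τ 1) {k : ℕ}
    (hk : ∀ x, IsRoot cs h x → Nat.card ↥(X x ⊓ (fixedSubgroup β ⊓ fixedSubgroup τ)) ≡ 1 [MOD k]) :
    Nat.card {S : Sylow p Y // β • S = S ∧ τ • S = S} ≡ Nat.card W [MOD k] := by
  classical
  have := Fintype.ofFinite W
  rw [card_fix_pair R hG D D']
  have h2 : ∀ s : Finset W, ∑ w ∈ s, Nat.card ↥(Sup X (NW cs h w) ⊓ (fixedSubgroup β ⊓ fixedSubgroup τ)) ≡
      s.card [MOD k] := by
    intro s
    induction s using Finset.induction_on with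
    | empty => rw [Finset.sum_empty, Finset.card_empty]
    | insert a s ha ih =>
      rw [Finset.sum_insert ha, Finset.card_insert_of_notMem ha, Nat.add_comm s.card 1]
      exact (card_fix_pair_NW_modEq R D D' hk a).add ih
  have := h2 Finset.univ
  rwa [Finset.card_univ, ← Nat.card_eq_fintype_card] at this

omit R [Finite Y] [Fact p.Prime] in
/-- the number of fixed chambers of a pair is invariant under conjugation -/
theorem card_fix_pair_conj (e γ δ : MulAut Y) :
    Nat.card {S : Sylow p Y // (e * γ * e⁻¹) • S = S ∧ (e * δ * e⁻¹) • S = S} =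
      Nat.card {S : Sylow p Y // γ • S = S ∧ δ • S = S} := by
  have h1 : ∀ (γ : MulAut Y) (S : Sylow p Y), (e * γ * e⁻¹) • S = S ↔ γ • (e⁻¹ • S) = e⁻¹ • S := by
    intro γ S
    rw [mul_smul, mul_smul, smul_eq_iff_eq_inv_smul]
  refine Nat.card_congr ⟨fun S => ⟨e⁻¹ • S.1, (h1 γ _).1 S.2.1, (h1 δ _).1 S.2.2⟩, fun S => ⟨e • S.1, ?_, ?_⟩,
    fun S => Subtype.ext (smul_inv_smul e S.1), fun S => Subtype.ext (inv_smul_smul e S.1)⟩
  · rw [h1, inv_smul_smul]; exact S.2.1
  · rw [h1, inv_smul_smul]; exact S.2.2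

/-! ### simultaneous conjugation to the frame -/

omit [Finite Y] [Fact p.Prime] in
/-- conjugation by an element of the torus is a frame automorphism -/
theorem diag_conj_T {t : Y} (ht : t ∈ T) : _root_.Cfsg.Agent.KFacts.RgdDiag.Diag T X (MulAut.conj t) 1 where
  tor x := by
    rw [MulAut.conj_apply]
    constructor
    · intro hx
      have := mul_mem (mul_mem (inv_mem ht) hx) ht
      have e : t⁻¹ * (t * x * t⁻¹) * t = x := by group
      rwa [e] at this
    · intro hx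
      exact mul_mem (mul_mem ht hx) (inv_mem ht)
  pos i x := by
    have h1 := R.tor _ (isRoot_sr cs h i) t ht
    have h2 : MulAut.conj t x ∈ cj t (X (sr i)) ↔ x ∈ X (sr i) := by
      rw [mem_cj, MulAut.conj_apply]
      have e : t⁻¹ * (t * x * t⁻¹) * t = x := by group
      rw [e]
    rw [h1] at h2
    exact h2
  neg i x := by
    have h1 := R.tor _ (isRoot_sr cs h i).neg t ht
    have h2 : MulAut.conj t x ∈ cj t (X (-sr i)) ↔ x ∈ X (-sr i) := by
      rw [mem_cj, MulAut.conj_apply]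
      have e : t⁻¹ * (t * x * t⁻¹) * t = x := by group
      rw [e]
    rw [h1] at h2
    exact h2

/-- **Simultaneous conjugation to the frame.** -/
theorem exists_pair_conj [Finite W] (hG : GG cs h T X = ⊤) {β : MulAut Y} (D : _root_.Cfsg.Agent.KFacts.RgdDiag.Diag T X β 1) {c : Y} {N : ℕ}
    (hN : N.Coprime p) (hc : c ^ N = 1) (hβc : β c = c) {S : Sylow p Y} (h1 : β • S = S)
    (h2 : MulAut.conj c • S = S) :
    ∃ g : Y, ∃ t ∈ T, ∃ t₁ ∈ T, MulAut.conj g * β * (MulAut.conj g)⁻¹ = MulAut.conj t * β ∧ g * c * g⁻¹ = t₁ := by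
  classical
  obtain ⟨P, hP⟩ := exists_sylow_eq R hG
  obtain ⟨w, hw⟩ := exists_cell R hG hP S
  obtain ⟨k, hk⟩ := exists_rp cs R.nsys w
  obtain ⟨v, hv, rfl⟩ := hw k hk
  have hβv := fix_cell R hG hP D hk hv h1
  have ht : k * (β k)⁻¹ ∈ T := by
    have := hk.mul (fix_rp R D hk).inv
    rw [mul_inv_cancel] at this
    exact this.mem_of_one
  have hconj : ∀ (g : Y) (β : MulAut Y), MulAut.conj g * β * (MulAut.conj g)⁻¹ = MulAut.conj (g * (β g)⁻¹) * β := by
    intro g β
    rw [map_mul, mul_assoc, mul_assoc, map_inv MulAut.conj (β g), ← map_inv, ← map_inv, conj_mul_eq, map_inv]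
  have hg1 : MulAut.conj (k * v) * β * (MulAut.conj (k * v))⁻¹ = MulAut.conj (k * (β k)⁻¹) * β := by
    rw [hconj]
    congr 2
    rw [map_mul, hβv, mul_inv_rev]
    group
  set g := k * v with hg
  set t := k * (β k)⁻¹ with htdef
  set β₁ := MulAut.conj t * β with hβ₁
  have D1 : _root_.Cfsg.Agent.KFacts.RgdDiag.Diag T X β₁ 1 := by
    have := (diag_conj_T R ht).mul D
    rwa [one_mul] at this
  set y := g * c * g⁻¹ with hydef
  have hyfix : β₁ y = y := by
    rw [← hg1, MulAut.mul_apply, MulAut.mul_apply, ← map_inv, MulAut.conj_apply, MulAut.conj_apply, inv_inv, hydef]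
    have e1 : g⁻¹ * (g * c * g⁻¹) * g = c := by group
    rw [e1, hβc]
  have hyN : y ^ N = 1 := by
    rw [hydef, conj_pow, hc, mul_one, mul_inv_cancel]
  have hyP : y • P = P := by
    have h3 : c • (g⁻¹ • P) = g⁻¹ • P := h2
    rw [hydef, mul_smul, mul_smul, h3, smul_inv_smul]
  have hyB := (smul_eq_iff_mem_B R hG hP).1 hyP
  obtain ⟨t₁, ht₁, u, hu, e⟩ := R.mem_B.1 hyB
  -- both parts are fixed
  have hUfix : _root_.Cfsg.Agent.KFacts.RgdAut.Fix β₁ (RGD.Sup X (RGD.Pos cs h)) := fix_Sup fun x hx => fix_X R D1 hx.1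
  have hparts : β₁ t₁ = t₁ ∧ β₁ u = u := by
    have h3 := hyfix
    rw [e, map_mul] at h3
    have h4 : t₁⁻¹ * β₁ t₁ = u * (β₁ u)⁻¹ := by
      rw [eq_mul_inv_iff_mul_eq, mul_assoc, h3, inv_mul_cancel_left]
    have h5 : t₁⁻¹ * β₁ t₁ ∈ RGD.Sup X (RGD.Pos cs h) ⊓ T :=
      ⟨by rw [h4]; exact Subgroup.mul_mem _ hu (Subgroup.inv_mem _ ((hUfix u).2 hu)),
        Subgroup.mul_mem _ (Subgroup.inv_mem _ ht₁) ((D1.tor t₁).2 ht₁)⟩
    rw [U_inf_T R, Subgroup.mem_bot] at h5
    have h6 : β₁ t₁ = t₁ := (inv_mul_eq_one.1 h5).symm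
    rw [h6] at h3
    exact ⟨h6, mul_left_cancel h3⟩
  obtain ⟨v', hv', e'⟩ := CoprimeConj.exists_conj_eq (p := p) hN
    (U := RGD.Sup X (RGD.Pos cs h) ⊓ fixedSubgroup β₁) (t := t₁) (y := y)
    (R.isPGroup_Upos.to_le inf_le_left) (by
      rw [Subgroup.mem_normalizer_iff]
      intro a
      have hn := Subgroup.mem_normalizer_iff.1 (R.T_le_normalizer_U ht₁) a
      constructor
      · rintro ⟨ha, hb⟩
        refine ⟨hn.1 ha, ?_⟩
        show β₁ _ = _
        rw [map_mul, map_mul, map_inv, hparts.1, show β₁ a = a from hb]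
      · rintro ⟨ha, hb⟩
        refine ⟨hn.2 ha, ?_⟩
        have hb' : β₁ (t₁ * a * t₁⁻¹) = t₁ * a * t₁⁻¹ := hb
        rw [map_mul, map_mul, map_inv, hparts.1] at hb'
        exact mul_left_cancel (mul_right_cancel hb')) (by
      rw [eq_bot_iff, ← U_inf_T R]
      rintro a ⟨ha, hb⟩
      exact ⟨hb.1, (Subgroup.zpowers_le.2 ht₁) ha⟩) hyN (by
      rw [e]
      have : t₁⁻¹ * (t₁ * u) = u := by group
      rw [this]
      exact ⟨hu, hparts.2⟩)
  refine ⟨v' * g, t, ht, t₁, ht₁, ?_, ?_⟩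
  · have h3 : MulAut.conj (v' * g) * β * (MulAut.conj (v' * g))⁻¹ =
        MulAut.conj v' * (MulAut.conj g * β * (MulAut.conj g)⁻¹) * (MulAut.conj v')⁻¹ := by
      rw [map_mul]; group
    rw [h3, hg1, hconj]
    have h4 : β₁ v' = v' := hv'.2
    rw [h4, mul_inv_cancel, map_one, one_mul]
  · have h3 : v' * g * c * (v' * g)⁻¹ = v' * y * v'⁻¹ := by
      rw [hydef]; group
    rw [h3, e']

/-- The condition on the fixed points on root groups. -/
def RootCond (cs : CoxeterSystem M W) {A : I → I → ℤ} (h : IsCartan M A) (T : Subgroup Y) (X : (I → ℤ) → Subgroup Y)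
    (β : MulAut Y) (k : ℕ) : Prop :=
  ∀ a, IsRoot cs h a → ∀ t ∈ T, ∀ t₁ ∈ T,
    Nat.card ↥(X a ⊓ (fixedSubgroup (MulAut.conj t * β) ⊓ fixedSubgroup (MulAut.conj t₁))) ≡ 1 [MOD k]

/-- one step of the chain -/
theorem step [Finite W] (hG : GG cs h T X = ⊤) {N : ℕ} (hN : N.Coprime p) {x z : Y} {f : MulAut Y} {J e : ℕ}
    (hx : x ^ N = 1) (hfx : f x = x) (hz : z⁻¹ * (f ^ J) z = x) (D : _root_.Cfsg.Agent.KFacts.RgdDiag.Diag T X (f ^ J) 1) {l : ℕ} (hl : l.Prime)
    (hk : RootCond cs h T X (f ^ J) (l ^ (e + 1))) (hJ : l ^ e ∣ J) (hW : ¬ l ^ (e + 1) ∣ Nat.card W) {d : ℕ}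
    {S : Sylow p Y} (h1 : (MulAut.conj x * f ^ J) • S = S) (h2 : MulAut.conj (x ^ (d * l)) • S = S) :
    ∃ S : Sylow p Y, (MulAut.conj x * f ^ J) • S = S ∧ MulAut.conj (x ^ d) • S = S := by
  classical
  have hfJx : ∀ j : ℕ, (f ^ j) x = x := by
    intro j
    induction j with
    | zero => rfl
    | succ j ih => rw [pow_succ, MulAut.mul_apply, hfx, ih]
  have hcomm : Commute (MulAut.conj x) f := by
    show MulAut.conj x * f = f * MulAut.conj x
    rw [conj_mul_eq, hfx]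
  have he : MulAut.conj x * f ^ J = (MulAut.conj z)⁻¹ * f ^ J * (MulAut.conj z)⁻¹⁻¹ := by
    rw [inv_inv, mul_assoc, conj_mul_eq, ← mul_assoc, ← map_inv, ← map_mul, hz]
  -- the element `c`
  set c := z * x ^ (d * l) * z⁻¹ with hc
  have hec : MulAut.conj (x ^ (d * l)) = (MulAut.conj z)⁻¹ * MulAut.conj c * (MulAut.conj z)⁻¹⁻¹ := by
    rw [inv_inv, hc, map_mul, map_mul, map_inv]; group
  have hcN : c ^ N = 1 := by
    rw [hc, conj_pow, ← pow_mul, mul_comm, pow_mul, hx, one_pow, mul_one, mul_inv_cancel]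
  have hβz : (f ^ J) z = z * x := by
    rw [← hz]; group
  have hβc : (f ^ J) c = c := by
    rw [hc, map_mul, map_mul, map_inv, map_pow, hfJx, hβz]
    have h3 : x * x ^ (d * l) * x⁻¹ = x ^ (d * l) := by
      rw [← pow_succ', pow_succ]; group
    calc z * x * x ^ (d * l) * (z * x)⁻¹ = z * (x * x ^ (d * l) * x⁻¹) * z⁻¹ := by group
      _ = _ := by rw [h3]
  have h3 : (f ^ J) • (MulAut.conj z • S) = MulAut.conj z • S := by
    have h4 := h1
    rw [he, inv_inv, mul_smul, mul_smul, inv_smul_eq_iff] at h4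
    exact h4
  have h4 : MulAut.conj c • (MulAut.conj z • S) = MulAut.conj z • S := by
    have h5 := h2
    rw [hec, inv_inv, mul_smul, mul_smul, inv_smul_eq_iff] at h5
    exact h5
  obtain ⟨g, t, ht, t₁, ht₁, e1, e2⟩ := exists_pair_conj R hG D hN hcN hβc h3 h4
  -- the number of chambers fixed by the pair
  have hcard : Nat.card {S : Sylow p Y // (MulAut.conj x * f ^ J) • S = S ∧ MulAut.conj (x ^ (d * l)) • S = S} ≡
      Nat.card W [MOD l ^ (e + 1)] := by
    rw [he, hec, card_fix_pair_conj, ← card_fix_pair_conj (MulAut.conj g), e1]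
    have h5 : MulAut.conj g * MulAut.conj c * (MulAut.conj g)⁻¹ = MulAut.conj t₁ := by
      have h6 : ∀ a b : Y, MulAut.conj a * MulAut.conj b * (MulAut.conj a)⁻¹ = MulAut.conj (a * b * a⁻¹) := by
        intro a b
        rw [map_mul, map_mul, map_inv]
      rw [h6, e2]
    rw [h5]
    refine card_fix_pair_modEq R hG ?_ (diag_conj_T R ht₁) fun a ha => hk a ha t ht t₁ ht₁
    have := (diag_conj_T R ht).mul D
    rwa [one_mul] at this
  by_contra hcon
  push Not at hcon
  set γ := MulAut.conj x * f ^ J with hγ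
  set δ := MulAut.conj (x ^ (d * l)) with hδ
  have hγf : Commute γ f := by
    rw [hγ]
    exact hcomm.mul_left ((Commute.refl f).pow_left _)
  have hδf : Commute δ f := by
    rw [hδ, map_pow]
    exact hcomm.pow_left _
  obtain ⟨r, hr⟩ : l ^ e ∣ J * d := Dvd.dvd.mul_right hJ d
  have hγfr : Commute γ (f ^ r) := hγf.pow_right _
  have hδfr : Commute δ (f ^ r) := hδf.pow_right _
  let τ : Equiv.Perm {S : Sylow p Y // γ • S = S ∧ δ • S = S} :=
    { toFun := fun S => ⟨(f ^ r) • S.1, by rw [← mul_smul, hγfr.eq, mul_smul, S.2.1],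
        by rw [← mul_smul, hδfr.eq, mul_smul, S.2.2]⟩
      invFun := fun S => ⟨(f ^ r)⁻¹ • S.1, by rw [← mul_smul, hγfr.inv_right.eq, mul_smul, S.2.1],
        by rw [← mul_smul, hδfr.inv_right.eq, mul_smul, S.2.2]⟩
      left_inv := fun S => Subtype.ext (inv_smul_smul _ S.1)
      right_inv := fun S => Subtype.ext (smul_inv_smul _ S.1) }
  have hτ : ∀ (k : ℕ) (S : {S : Sylow p Y // γ • S = S ∧ δ • S = S}), ((τ ^ k) S).1 = (f ^ (r * k)) • S.1 := by
    intro k
    induction k with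
    | zero => intro S; rw [pow_zero, mul_zero, pow_zero, one_smul]; rfl
    | succ k ih =>
      intro S
      rw [pow_succ, Equiv.Perm.mul_apply, ih, mul_add, mul_one, pow_add, mul_smul]
      rfl
  -- powers of `f ^ J` act as inverse powers of `x`
  have hγpow : ∀ (k : ℕ) (S : Sylow p Y), γ • S = S → γ ^ k • S = S := by
    intro k S hS
    induction k with
    | zero => rw [pow_zero, one_smul]
    | succ k ih => rw [pow_succ, mul_smul, hS, ih]
  have hfJ : ∀ (k : ℕ) (S : Sylow p Y), γ • S = S → (f ^ (J * k)) • S = (MulAut.conj (x ^ k))⁻¹ • S := by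
    intro k S hS
    have h5 : γ ^ k = MulAut.conj (x ^ k) * f ^ (J * k) := by
      rw [hγ, (hcomm.pow_right J).mul_pow, map_pow, pow_mul]
    rw [eq_inv_smul_iff, ← mul_smul, ← h5, hγpow k S hS]
  have hrk : ∀ k : ℕ, r * (l ^ e * k) = J * (d * k) := by
    intro k
    rw [← mul_assoc, ← mul_assoc, hr]; ring
  have h5 := TorCount.dvd_card hl (τ := τ) (j := e) (by
    ext1 S
    apply Subtype.ext
    have h6 : r * l ^ (e + 1) = J * (d * l) := by
      rw [pow_succ, hrk]
    rw [hτ, h6, hfJ _ _ S.2.1]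
    have h7 : (MulAut.conj (x ^ (d * l)))⁻¹ • S.1 = S.1 := by
      rw [inv_smul_eq_iff]
      exact S.2.2.symm
    rw [h7]
    rfl) (by
    intro S hS
    apply hcon S.1 S.2.1
    have h6 := congrArg Subtype.val hS
    have h7 : r * l ^ e = J * d := by
      have := hrk 1
      rwa [mul_one, mul_one] at this
    rw [hτ, h7, hfJ _ _ S.2.1, inv_smul_eq_iff] at h6
    exact h6.symm)
  exact hW ((Nat.modEq_zero_iff_dvd.1 (hcard.symm.trans (Nat.modEq_zero_iff_dvd.2 h5))))

/-- **Torality from Lang's theorem** for an element of order prime to `p`. -/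
theorem exists_conj_mem_T_coprime [Finite W] (hG : GG cs h T X = ⊤) {N : ℕ} (hN0 : N ≠ 0) (hN : N.Coprime p) {x z : Y}
    {f : MulAut Y} {J e : ℕ} (hx : x ^ N = 1) (hfx : f x = x) (hz : z⁻¹ * (f ^ J) z = x) (D : _root_.Cfsg.Agent.KFacts.RgdDiag.Diag T X (f ^ J) 1)
    (hk : ∀ l : ℕ, l.Prime → l ∣ N → RootCond cs h T X (f ^ J) (l ^ (e + 1)))
    (hJ : ∀ l : ℕ, l.Prime → l ∣ N → l ^ e ∣ J) (hW : ∀ l : ℕ, l.Prime → l ∣ N → ¬ l ^ (e + 1) ∣ Nat.card W) :
    ∃ g : Y, g * x * g⁻¹ ∈ T := by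
  classical
  have he : MulAut.conj x * f ^ J = (MulAut.conj z)⁻¹ * f ^ J * MulAut.conj z := by
    rw [mul_assoc, conj_mul_eq, ← mul_assoc, ← map_inv, ← map_mul, hz]
  -- the start of the chain
  obtain ⟨P, hP⟩ := exists_sylow_eq R hG
  have hβP : (f ^ J) • P = P := by
    rw [aut_smul_eq_iff, hP]
    exact fix_Sup fun x hx => fix_X R D hx.1
  have hstart : (MulAut.conj x * f ^ J) • ((MulAut.conj z)⁻¹ • P) = (MulAut.conj z)⁻¹ • P := by
    rw [he, mul_smul, mul_smul, smul_inv_smul, hβP]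
  have key : ∀ M : ℕ, ∀ d : ℕ, d * M = N → ∃ S : Sylow p Y, (MulAut.conj x * f ^ J) • S = S ∧
      MulAut.conj (x ^ d) • S = S := by
    intro M
    induction M using Nat.strong_induction_on with
    | _ M ih =>
      intro d hd
      have hM0 : M ≠ 0 := by
        rintro rfl
        exact hN0 (by rw [← hd, mul_zero])
      by_cases hM1 : M = 1
      · subst hM1
        rw [mul_one] at hd
        subst hd
        refine ⟨_, hstart, ?_⟩
        rw [hx, map_one, one_smul]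
      · obtain ⟨l, hl, M', rfl⟩ := Nat.exists_prime_and_dvd hM1
        have hM' : 0 < M' := Nat.pos_of_ne_zero fun h => hM0 (by rw [h, mul_zero])
        obtain ⟨S, h1, h2⟩ := ih M' (by nlinarith only [hM', hl.two_le]) (d * l) (by rw [← hd]; ring)
        have hlN : l ∣ N := by
          rw [← hd]
          exact Dvd.dvd.mul_left (Dvd.intro _ rfl) _
        exact step R hG hN hx hfx hz D hl (hk l hl hlN) (hJ l hl hlN) (hW l hl hlN) h1 h2
  obtain ⟨S, -, h2⟩ := key N 1 (one_mul N)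
  rw [pow_one] at h2
  obtain ⟨g, -, -, t₁, ht₁, -, e2⟩ := exists_pair_conj R hG (β := 1) Diag.one hN hx rfl (one_smul _ S) h2
  exact ⟨g, by rw [e2]; exact ht₁⟩

end Chambers

end Cfsg.Agent.H944.TorAny
end

-- part: H944/TorAnyChev
section
/-!
# Elements of order prime to `p` of `D.group k` are toral (helper944)

`k` algebraically closed of characteristic `p`, every element of `k` in a finite subfield (`HAlg p k`), `D` one of the
tabulated types: an element `x` of `D.group k` with `x ^ N = 1`, `N` prime to `p`, is conjugate into the diagonal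
subgroup `TT D k`.
-/

set_option autoImplicit false
set_option linter.unusedSectionVars false

namespace Cfsg.Agent.H944.TorAnyChev

open CoxeterSystem Cfsg.Agent.ChevalleyStructure.CoxeterGeom Cfsg.Agent.Tits.Roots Cfsg.Agent.Tits.Core
  Cfsg.Agent.Nodes.Reps Cfsg.Agent.Nodes.BNOf Cfsg.Agent.Nodes.Bruhat
  Cfsg.Agent.Nodes.OppDec Cfsg.Agent.Nodes.RGDChev
  Cfsg.Agent.KFacts.RgdAut Cfsg.Agent.KFacts.RgdDiag Cfsg.Agent.KFacts.RgdRigid
  Cfsg.Agent.KFacts.RgdField Cfsg.Agent.KFacts.RgdChevCoord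
  Cfsg.Agent.CpAut.RgdFix Cfsg.Agent.CpAut.RgdSub
open Cfsg.Lie Cfsg.Agent.ChevalleyStructure Cfsg.Agent.ChevalleyStructure.Elts
  Cfsg.Agent.ChevalleyStructure.NPerm Cfsg.Agent.ChevalleyStructure.CoxeterGeomTypes
  Cfsg.Agent.ChevStructure.FieldMap Cfsg.Agent.BpExc.TorRgd Cfsg.Agent.BpExc.TorAll Cfsg.Agent.BpExc
  Cfsg.Agent.H944.TorAny

universe u

/-- the solutions of `c s ^ q = s` in a finite field: none but zero, or as many as those of `s ^ q = s` -/
theorem card_semilinear {K : Type u} [Field K] {σ : K ≃+* K} {c : K} :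
    Nat.card {s : K // c * σ s = s} = 1 ∨ Nat.card {s : K // c * σ s = s} = Nat.card {s : K // σ s = s} := by
  classical
  by_cases h : ∃ s : K, s ≠ 0 ∧ c * σ s = s
  · right
    obtain ⟨s₀, hs0, hs⟩ := h
    refine Nat.card_congr ⟨fun s => ⟨s.1 / s₀, ?_⟩, fun s => ⟨s.1 * s₀, ?_⟩, fun s => ?_, fun s => ?_⟩
    · have h1 := s.2
      have hσ0 : σ s₀ ≠ 0 := fun h0 => hs0 (by rw [← hs, h0, mul_zero])
      have hc0 : c ≠ 0 := fun h0 => hs0 (by rw [← hs, h0, zero_mul])
      rw [map_div₀, div_eq_div_iff hσ0 hs0]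
      have h2 : c * (σ s.1 * s₀) = c * (s.1 * σ s₀) := by
        calc c * (σ s.1 * s₀) = (c * σ s.1) * s₀ := by ring
          _ = s.1 * (c * σ s₀) := by rw [h1, hs]
          _ = _ := by ring
      exact mul_left_cancel₀ hc0 h2
    · have h1 := s.2
      rw [map_mul, h1]
      calc c * (s.1 * σ s₀) = s.1 * (c * σ s₀) := by ring
        _ = _ := by rw [hs]
    · exact Subtype.ext (div_mul_cancel₀ _ hs0)
    · exact Subtype.ext (mul_div_cancel_right₀ _ hs0)
  · left
    push Not at h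
    rw [Nat.card_eq_one_iff_unique]
    refine ⟨⟨fun a b => Subtype.ext ?_⟩, ⟨⟨0, by rw [map_zero, mul_zero]⟩⟩⟩
    have ha : a.1 = 0 := by
      by_contra h0
      exact h _ h0 a.2
    have hb : b.1 = 0 := by
      by_contra h0
      exact h _ h0 b.2
    rw [ha, hb]

section Main

variable {D : ChevalleyDatum} {l : ℕ} {M : CoxeterMatrix (Fin l)} (hp : IsType D l M)
  (p : ℕ) [Fact p.Prime]

section Fin

variable {K : Type u} [Field K] [Finite K] [CharP K p] {W : Type*} [Group W] (cs : CoxeterSystem M W)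

include p in
/-- the condition on root groups for a power of a field automorphism -/
theorem rootCond (τ : K ≃+* K) (j : ℕ) {n : ℕ} (hn : Nat.card {s : K // (τ ^ j) s = s} ≡ 1 [MOD n]) :
    RootCond cs hp.isCartan (TT D K) (XX D l K) ((fG D τ) ^ j) n := by
  classical
  intro a ha t ht t₁ ht₁
  have C := coords (K := K) hp cs p
  obtain ⟨r, hr, rfl⟩ := (isRoot_iff hp cs a).1 ha
  have key : ∀ (j : ℕ) (s : K), ((fG D τ) ^ j) (xc hp (vec D l r) s) = xc hp (vec D l r) ((τ ^ j) s) := by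
    intro j
    induction j with
    | zero => intro s; rfl
    | succ j ih =>
      intro s
      rw [pow_succ, MulAut.mul_apply, fG_xc hp τ hr, ih, pow_succ]
      rfl
  obtain ⟨hc0, hc⟩ := act hp hr ht
  obtain ⟨hc0', hc'⟩ := act hp hr ht₁
  set c := ch hp (vec D l r) t
  set c₁ := ch hp (vec D l r) t₁
  have hinj := (C.coord _ ha).inj
  -- the fixed points in coordinates
  have hfix : ∀ s : K, xc hp (vec D l r) s ∈ XX D l K (vec D l r) ⊓
      (fixedSubgroup (MulAut.conj t * (fG D τ) ^ j) ⊓ fixedSubgroup (MulAut.conj t₁)) ↔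
      c * (τ ^ j) s = s ∧ c₁ * s = s := by
    intro s
    have h1 : (MulAut.conj t * (fG D τ) ^ j) (xc hp (vec D l r) s) = xc hp (vec D l r) (c * (τ ^ j) s) := by
      rw [MulAut.mul_apply, key, MulAut.conj_apply, hc]
    have h2 : (MulAut.conj t₁) (xc hp (vec D l r) s) = xc hp (vec D l r) (c₁ * s) := by
      rw [MulAut.conj_apply, hc']
    constructor
    · rintro ⟨-, h3, h4⟩
      have h3' : (MulAut.conj t * (fG D τ) ^ j) (xc hp (vec D l r) s) = xc hp (vec D l r) s := h3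
      have h4' : (MulAut.conj t₁) (xc hp (vec D l r) s) = xc hp (vec D l r) s := h4
      rw [h1] at h3'
      rw [h2] at h4'
      exact ⟨hinj h3', hinj h4'⟩
    · rintro ⟨h3, h4⟩
      refine ⟨((C.coord _ ha).mem _).2 ⟨s, rfl⟩, ?_, ?_⟩
      · show (MulAut.conj t * (fG D τ) ^ j) (xc hp (vec D l r) s) = xc hp (vec D l r) s
        rw [h1, h3]
      · show (MulAut.conj t₁) (xc hp (vec D l r) s) = xc hp (vec D l r) s
        rw [h2, h4]
  have hcard : Nat.card ↥(XX D l K (vec D l r) ⊓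
      (fixedSubgroup (MulAut.conj t * (fG D τ) ^ j) ⊓ fixedSubgroup (MulAut.conj t₁))) =
      Nat.card {s : K // c * (τ ^ j) s = s ∧ c₁ * s = s} := by
    symm
    refine Nat.card_congr (Equiv.ofBijective (fun s => ⟨xc hp (vec D l r) s.1, (hfix s.1).2 s.2⟩) ⟨?_, ?_⟩)
    · rintro ⟨s, hs⟩ ⟨s', hs'⟩ e
      exact Subtype.ext (hinj (congrArg Subtype.val e))
    · rintro ⟨y, hy⟩
      obtain ⟨s, rfl⟩ := ((C.coord _ ha).mem y).1 hy.1
      exact ⟨⟨s, (hfix s).1 hy⟩, rfl⟩
  rw [hcard]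
  by_cases hc1 : c₁ = 1
  · have h1 : Nat.card {s : K // c * (τ ^ j) s = s ∧ c₁ * s = s} = Nat.card {s : K // c * (τ ^ j) s = s} := by
      refine Nat.card_congr (Equiv.subtypeEquivRight fun s => ?_)
      rw [hc1, one_mul]
      exact ⟨fun h => h.1, fun h => ⟨h, rfl⟩⟩
    rw [h1]
    rcases card_semilinear (σ := τ ^ j) (c := c) with h2 | h2
    · rw [h2]
    · rw [h2]; exact hn
  · have h1 : Nat.card {s : K // c * (τ ^ j) s = s ∧ c₁ * s = s} = 1 := by
      rw [Nat.card_eq_one_iff_unique]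
      have h0 : ∀ s : K, c₁ * s = s → s = 0 := by
        intro s hs
        by_contra h0
        exact hc1 (mul_right_cancel₀ h0 (by rw [hs, one_mul]))
      exact ⟨⟨fun a b => Subtype.ext (by rw [h0 _ a.2.2, h0 _ b.2.2])⟩,
        ⟨⟨0, by rw [map_zero, mul_zero], mul_zero _⟩⟩⟩
    rw [h1]

end Fin

variable {k : Type u} [Field k] [IsAlgClosed k] [CharP k p]

include hp in
/-- **Every element of order prime to `p` of `D.group k` is conjugate into the diagonal subgroup.** -/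
theorem exists_conj_mem_diag (hk : HAlg p k) {x : GL D.Idx k} (hx : x ∈ D.group k) {q : ℕ} (hq0 : q ≠ 0)
    (hqp : q.Coprime p) (hxq : x ^ q = 1) : ∃ g ∈ D.group k, g * x * g⁻¹ ∈ D.diagonalSubgroup k := by
  have hpp : p.Prime := Fact.out
  have hW := finite_W hp (M.toCoxeterSystem)
  set e := Nat.card M.Group with hedef
  have he : ∀ r : ℕ, r.Prime → r ∣ q → ¬ r ^ (e + 1) ∣ Nat.card M.Group := by
    intro r hr _ hd
    have h1 : Nat.card M.Group < r ^ (Nat.card M.Group + 1) :=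
      (Nat.lt_pow_self hr.one_lt).trans (Nat.pow_lt_pow_right hr.one_lt (Nat.lt_succ_self _))
    exact absurd (Nat.le_of_dvd Nat.card_pos hd) (not_le.2 h1)
  obtain ⟨m0, hm0, x0, hx0, hxx0⟩ := exists_level hp p hk hx
  have hcop : p.Coprime (q ^ (e + 1)) := (Nat.Coprime.pow_left _ hqp).symm
  set m := m0 * (q ^ (e + 1)).totient with hmdef
  have hm : 0 < m := Nat.mul_pos hm0 (Nat.totient_pos.2 (pow_pos (Nat.pos_of_ne_zero hq0) _))
  have hpm : p ^ m ≡ 1 [MOD q ^ (e + 1)] := by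
    rw [hmdef, mul_comm, pow_mul]
    have := (Nat.ModEq.pow_totient hcop).pow m0
    rwa [one_pow] at this
  set m1 := m * q ^ e with hm1def
  have hm1 : 0 < m1 := Nat.mul_pos hm (pow_pos (Nat.pos_of_ne_zero hq0) _)
  obtain ⟨z, hz, hzx⟩ := lang hp p hm1 hx
  obtain ⟨m2, hm2, hz2⟩ := exists_level hp p hk hz
  set N := m2 * m1 with hNdef
  have hN : 0 < N := Nat.mul_pos hm2 hm1
  have h01 : m0 ∣ m := Dvd.intro _ rfl
  have hmm1 : m ∣ m1 := Dvd.intro _ rfl
  have hm1N : m1 ∣ N := Dvd.intro_left _ rfl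
  obtain ⟨x', hx', hxx'⟩ := map_group_mono hp p ((h01.trans hmm1).trans hm1N)
    (show x ∈ (D.group ↥(EE p m0 : Subfield k)).map (glm D (EE p m0)) from ⟨x0, hx0, hxx0⟩)
  obtain ⟨z', hz', hzz'⟩ := map_group_mono hp p (show m2 ∣ N from Dvd.intro _ rfl) hz2
  have hfinN : Finite ↥(EE p N : Subfield k) := finite_EE p hN
  have : CharP ↥(EE p N : Subfield k) p := charP_fixF p _
  have : Finite (GL D.Idx ↥(EE p N : Subfield k)) := inferInstance
  have hGfin : Finite ↥(D.group ↥(EE p N : Subfield k)) := inferInstance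
  have R := rgd (K := ↥(EE p N : Subfield k)) hp M.toCoxeterSystem p
  have hG := GG_eq_top (T := TT D ↥(EE p N : Subfield k)) (G1_eq_top (K := ↥(EE p N : Subfield k)) hp M.toCoxeterSystem)
  have hfr : ∀ (j : ℕ) (a : ↥(EE p N : Subfield k)), (((frE p N m) ^ j) a : k) = (a : k) ^ p ^ (m * j) := by
    intro j
    induction j with
    | zero =>
      intro a
      rw [mul_zero, pow_zero p, pow_one, pow_zero]
      rfl
    | succ j ih =>
      intro a
      rw [pow_succ]
      show (((frE p N m) ^ j) (frE p N m a) : k) = _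
      rw [ih, coe_frE, ← pow_mul, ← pow_add, mul_add, mul_one, add_comm]
  have hfixcard : Nat.card {s : ↥(EE p N : Subfield k) // ((frE p N m) ^ q ^ e) s = s} = p ^ m1 := by
    rw [← card_EE p (k := k) hm1]
    refine Nat.card_congr ⟨fun s => ⟨(s.1 : k), ?_⟩, fun s => ⟨⟨s.1, EE_le p hm1N s.2⟩, ?_⟩, fun _ => rfl,
      fun _ => rfl⟩
    · rw [mem_EE]
      have h2 := congrArg Subtype.val s.2
      rw [hfr] at h2
      exact h2
    · apply Subtype.ext
      rw [hfr]
      exact (mem_EE p).1 s.2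
  obtain ⟨g, hg⟩ := exists_conj_mem_T_coprime R hG hq0 hqp (x := ⟨x', hx'⟩) (z := ⟨z', hz'⟩) (f := fG D (frE p N m))
    (J := q ^ e) (e := e)
    (by
      apply Subtype.ext
      apply glm_injective (EE p N)
      show glm D (EE p N) (x' ^ q) = glm D (EE p N) 1
      rw [map_pow, hxx', hxq, map_one])
    (by
      apply Subtype.ext
      apply Units.ext
      ext a b
      rw [fG_coe]
      show (((x' : Matrix D.Idx D.Idx ↥(EE p N : Subfield k)) a b : ↥(EE p N : Subfield k)) : k) ^ p ^ m =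
        (((x' : Matrix D.Idx D.Idx ↥(EE p N : Subfield k)) a b : ↥(EE p N : Subfield k)) : k)
      have h1 : (((x' : Matrix D.Idx D.Idx ↥(EE p N : Subfield k)) a b : ↥(EE p N : Subfield k)) : k) =
          (((x0 : Matrix D.Idx D.Idx ↥(EE p m0 : Subfield k)) a b : ↥(EE p m0 : Subfield k)) : k) := by
        have h2 : glm D (EE p N) x' = glm D (EE p m0) x0 := hxx'.trans hxx0.symm
        exact congrFun (congrFun (congrArg (fun x : GL D.Idx k => (x : Matrix D.Idx D.Idx k)) h2) a) b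
      rw [h1]
      exact (mem_EE p).1 (EE_le p h01 ((x0 : Matrix D.Idx D.Idx ↥(EE p m0 : Subfield k)) a b).2))
    (by
      apply Subtype.ext
      apply glm_injective (EE p N)
      show glm D (EE p N) (z'⁻¹ * ((((fG D (frE p N m)) ^ q ^ e) ⟨z', hz'⟩ : D.group ↥(EE p N : Subfield k)) :
        GL D.Idx ↥(EE p N : Subfield k))) = glm D (EE p N) x'
      rw [map_mul, map_inv, hxx', hzz', ← hzx]
      congr 1
      apply Units.ext
      ext a b
      rw [glm_coe, Matrix.map_apply, fG_pow_coe]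
      show (((frE p N m) ^ q ^ e) ((z' : Matrix D.Idx D.Idx ↥(EE p N : Subfield k)) a b) : k) =
        ((z : Matrix D.Idx D.Idx k).map (iterateFrobenius k p m1)) a b
      rw [hfr, Matrix.map_apply, iterateFrobenius_def]
      congr 1
      exact congrFun (congrFun (congrArg (fun x : GL D.Idx k => (x : Matrix D.Idx D.Idx k)) hzz') a) b)
    (diag_fG hp p M.toCoxeterSystem (frE p N m) (q ^ e))
    (fun r hr hrq => by
      refine rootCond hp p M.toCoxeterSystem (frE p N m) (q ^ e) ?_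
      rw [hfixcard, hm1def, pow_mul]
      have h1 := hpm.pow (q ^ e)
      rw [one_pow] at h1
      exact h1.of_dvd (pow_dvd_pow_of_dvd hrq _))
    (fun r hr hrq => pow_dvd_pow_of_dvd hrq _) he
  refine ⟨glm D (EE p N) (g : GL D.Idx ↥(EE p N : Subfield k)), map_group_le hp p ⟨_, g.2, rfl⟩, ?_⟩
  rw [← hxx', ← map_mul, ← map_inv, ← map_mul]
  exact glm_diag hp (EE p N) hg

include hp in
/-- The same in the group `D.group k`. -/
theorem exists_conj_mem_TT (hk : HAlg p k) {x : ↥(D.group k)} {q : ℕ} (hq0 : q ≠ 0) (hqp : q.Coprime p)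
    (hxq : x ^ q = 1) : ∃ g : ↥(D.group k), g * x * g⁻¹ ∈ TT D k := by
  obtain ⟨g, hg, h⟩ := exists_conj_mem_diag hp p hk x.2 hq0 hqp (congrArg Subtype.val hxq)
  exact ⟨⟨g, hg⟩, h⟩

end Main

end Cfsg.Agent.H944.TorAnyChev
end
end

-- part: H944/RootVals
section
prune_inst 0x3010754464e200080018208071003e66f6000190006b8c00c5010a4c0d892d43ad010e21b7e033021bfcaaf40038c04811100049420800000a000800411d0481000a02048208a008640098000100000000000000000000000000000000000004200000000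
set_option linter.all false
open scoped Cfsg.Agent.FastGrp

/-!
# Root values of the elements of order prime to `p` (helper944)

`D` one of the tabulated types of rank `l`, `F` a finite field of characteristic `p`, `x ∈ D.group F` with `x ^ N = 1`,
`N` prime to `p`. Over an algebraic closure `x` is conjugate to a diagonal element `t`, and `t` takes the value
`ζ ^ ⟨s, v⟩` on the root `s`, for a vector `v : Fin l → ZMod N`, `ζ` a primitive `N`-th root of unity.
`exists_vals` : such a `v`, with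

* `x ^ d = 1 ↔ d • v = 0`,
* the multiset of the values `⟨s, v⟩`, `s` running over the roots, is invariant under multiplication by `#F`, and by every
  `a` such that `x` is conjugate to `x ^ a`.
-/

set_option autoImplicit false
set_option linter.unusedSectionVars false

namespace Cfsg.Agent.H944.RootVals

open Cfsg.Agent.ChevalleyStructure.CoxeterGeom Cfsg.Agent.Tits.Roots
  Cfsg.Agent.Nodes.Reps Cfsg.Agent.Nodes.BNOf Cfsg.Agent.Nodes.RGDChev Cfsg.Agent.KFacts.RgdChevCoord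
open Cfsg.Lie Cfsg.Agent.ChevalleyStructure Cfsg.Agent.ChevalleyStructure.Elts
  Cfsg.Agent.ChevalleyStructure.RootVecTab
  Cfsg.Agent.ChevalleyStructure.CoxeterGeomTypes
  Cfsg.Agent.BpExc.TorAll Cfsg.Agent.BpExc.TorChev
open Cfsg.Agent.GpExc.Field (glMap emb coe_emb coe_glMap emb_injective)

universe u

variable {D : ChevalleyDatum} {l : ℕ} {M : CoxeterMatrix (Fin l)} (hp : IsType D l M)

/-! ### the diagonal form of the torus elements -/

include hp in
/-- a torus element as a diagonal matrix -/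
theorem TT_diag {K : Type u} [Field K] {t : ↥(D.group K)} (ht : t ∈ TT D K) :
    ∃ c : Fin l → Kˣ, (((t : ↥(D.group K)) : GL D.Idx K) : Matrix D.Idx D.Idx K) =
      Matrix.diagonal (Sum.elim (fun _ => (1 : K)) (fun s : Fin D.nroots =>
        ((∏ i, c i ^ (vec D l s i) : Kˣ) : K))) := by
  classical
  let S : Subgroup ↥(D.group K) :=
    { carrier := {t | ∃ c : Fin l → Kˣ, (((t : ↥(D.group K)) : GL D.Idx K) : Matrix D.Idx D.Idx K) =
        Matrix.diagonal (Sum.elim (fun _ => (1 : K)) (fun s : Fin D.nroots =>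
          ((∏ i, c i ^ (vec D l s i) : Kˣ) : K)))}
      one_mem' := by
        refine ⟨1, ?_⟩
        rw [Subgroup.coe_one, Units.val_one]
        ext i j
        rcases i with i | i <;> rcases j with j | j <;>
          simp only [Matrix.diagonal_apply, Matrix.one_apply, _root_.Sum.inl.injEq, _root_.Pi.one_apply, _root_.one_zpow, _root_.Finset.prod_const_one, _root_.Units.val_one, _root_.Sum.elim_lam_const_lam_const, _root_.ne_eq, _root_.reduceCtorEq, _root_.not_false_eq_true, _root_.Matrix.one_apply_ne, _root_.Matrix.diagonal_apply_ne, _root_.Sum.inr.injEq]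
      mul_mem' := by
        rintro a b ⟨c, hc⟩ ⟨d, hd⟩
        refine ⟨c * d, ?_⟩
        rw [Subgroup.coe_mul, Units.val_mul, hc, hd, Matrix.diagonal_mul_diagonal]
        congr 1
        funext i
        rcases i with i | i
        · simp only [_root_.Units.coe_prod, _root_.Units.val_zpow_eq_zpow_val, _root_.Sum.elim_inl, _root_.mul_one, _root_.Pi.mul_apply, _root_.Units.val_mul]
        · simp only [Sum.elim_inr, Pi.mul_apply]
          rw [← Units.val_mul, ← Finset.prod_mul_distrib]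
          congr 1
          refine Finset.prod_congr rfl fun j _ => ?_
          rw [mul_zpow]
      inv_mem' := by
        rintro a ⟨c, hc⟩
        refine ⟨c⁻¹, ?_⟩
        have h1 : (((a : ↥(D.group K)) : GL D.Idx K) : Matrix D.Idx D.Idx K) *
            Matrix.diagonal (Sum.elim (fun _ => (1 : K)) (fun s : Fin D.nroots =>
              ((∏ i, (c⁻¹) i ^ (vec D l s i) : Kˣ) : K))) = 1 := by
          rw [hc, Matrix.diagonal_mul_diagonal, ← Matrix.diagonal_one]
          congr 1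
          funext i
          rcases i with i | i
          · simp only [_root_.Units.coe_prod, _root_.Units.val_zpow_eq_zpow_val, _root_.Sum.elim_inl, _root_.Pi.inv_apply, _root_.inv_zpow', _root_.zpow_neg, _root_.Finset.prod_inv_distrib, _root_.Units.val_inv_eq_inv_val, _root_.mul_one]
          · simp only [Sum.elim_inr, Pi.inv_apply]
            rw [← Units.val_mul, ← Finset.prod_mul_distrib]
            have : ∀ j ∈ (Finset.univ : Finset (Fin l)), c j ^ vec D l i j * (c j)⁻¹ ^ vec D l i j = 1 := by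
              intro j _
              rw [inv_zpow, mul_inv_cancel]
            rw [Finset.prod_congr rfl this, Finset.prod_const_one, Units.val_one]
        rw [Subgroup.coe_inv, Matrix.coe_units_inv]
        exact Matrix.inv_eq_right_inv h1 }
  have h1 : TT D K ≤ S := by
    refine (TT_le hp).trans ?_
    rw [Subgroup.closure_le]
    rintro g ⟨j, a, ha, rfl⟩
    refine ⟨fun i => (Units.mk0 a ha) ^ (cartanOf D l j i), ?_⟩
    have h2 : (((hc hp j a : ↥(D.group K)) : GL D.Idx K) : Matrix D.Idx D.Idx K) = D.hMat K (D.simple j) a := by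
      show ((hG hp.inList (D.simple j) a : GL D.Idx K) : Matrix D.Idx D.Idx K) = _
      exact coe_hG hp.inList _ _
    rw [h2, Cfsg.Agent.S1033.result (F := K) D hp.inList j (lt_rank hp j) a ha]
    congr 1
    funext s
    rcases s with s | s
    · simp only [_root_.Sum.elim_inl, _root_.Units.coe_prod, _root_.Units.val_zpow_eq_zpow_val, _root_.Units.val_mk0]
    · simp only [Sum.elim_inr]
      rw [← pairing_vec hp j s.2]
      have h3 : ∀ (n : Fin l → ℤ) (S : Finset (Fin l)), ∏ i ∈ S, (Units.mk0 a ha) ^ (n i) =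
          (Units.mk0 a ha) ^ (∑ i ∈ S, n i) := by
        intro n S
        induction S using Finset.induction_on with
        | empty => simp
        | insert b S hb ih => rw [Finset.prod_insert hb, Finset.sum_insert hb, zpow_add, ih]
      have h4 : ∏ i, ((Units.mk0 a ha) ^ (cartanOf D l j i)) ^ (vec D l s i) =
          (Units.mk0 a ha) ^ (pairing (cartanOf D l) j (vec D l s)) := by
        have h5 : ∀ i ∈ (Finset.univ : Finset (Fin l)), ((Units.mk0 a ha) ^ (cartanOf D l j i)) ^ (vec D l s i) =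
            (Units.mk0 a ha) ^ (cartanOf D l j i * vec D l s i) := fun i _ => (zpow_mul _ _ _).symm
        rw [Finset.prod_congr rfl h5, h3]
        rfl
      rw [h4, Units.val_zpow_eq_zpow_val, Units.val_mk0]
  exact h1 ht

/-! ### multisets of diagonal entries -/

/-- conjugate diagonal matrices have the same entries -/
theorem diag_multiset {ι K : Type*} [Fintype ι] [DecidableEq ι] [Field K] {d e : ι → K}
    (h : (Matrix.diagonal d).charpoly = (Matrix.diagonal e).charpoly) :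
    Finset.univ.val.map d = Finset.univ.val.map e := by
  rw [Matrix.charpoly_diagonal, Matrix.charpoly_diagonal] at h
  have h1 := congrArg Polynomial.roots h
  have key : ∀ f : ι → K, (∏ i, (Polynomial.X - Polynomial.C (f i))).roots = Finset.univ.val.map f := by
    intro f
    have := Polynomial.roots_multiset_prod_X_sub_C (Finset.univ.val.map f)
    rw [Multiset.map_map] at this
    exact this
  rwa [key, key] at h1

/-- cancel the part of the Cartan subalgebra -/
theorem cancel_inl {α β K : Type*} [Fintype α] [Fintype β] [Field K] {f g : β → K}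
    (h : (Finset.univ : Finset (α ⊕ β)).val.map (Sum.elim (fun _ => (1 : K)) f) =
      (Finset.univ : Finset (α ⊕ β)).val.map (Sum.elim (fun _ => (1 : K)) g)) :
    (Finset.univ : Finset β).val.map f = (Finset.univ : Finset β).val.map g := by
  classical
  have key : ∀ f : β → K, (Finset.univ : Finset (α ⊕ β)).val.map (Sum.elim (fun _ => (1 : K)) f) =
      (Finset.univ : Finset α).val.map (fun _ => (1 : K)) + (Finset.univ : Finset β).val.map f := by
    intro f
    rw [← Finset.univ_disjSum_univ, Finset.val_disjSum, Multiset.disjSum, Multiset.map_add, Multiset.map_map,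
      Multiset.map_map]
    rfl
  rw [key, key] at h
  exact add_left_cancel h

/-- The multiset of the root values of a vector. -/
def ms (D : ChevalleyDatum) (l : ℕ) {R : Type*} [CommRing R] (v : Fin l → R) : Multiset R :=
  (Finset.univ : Finset (Fin D.nroots)).val.map fun s : Fin D.nroots => ∑ i, (vec D l s i : R) * v i

/-- The vector `v` describes the element `x` with `x ^ N = 1`. -/
structure Vals {F : Type*} [Field F] (x : ↥(D.group F)) (N : ℕ) (v : Fin l → ZMod N) : Prop where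
  ord : ∀ d : ℕ, (∀ i, (d : ZMod N) * v i = 0) ↔ x ^ d = 1
  frob : ms D l v = (ms D l v).map (fun a => (Nat.card F : ZMod N) * a)
  conj : ∀ a : ℕ, (∃ g : ↥(D.group F), g * x * g⁻¹ = x ^ a) → ms D l v = (ms D l v).map (fun b => (a : ZMod N) * b)

/-- every element of an algebraic closure of a finite field lies in a finite field -/
theorem hAlg_closure (p : ℕ) [Fact p.Prime] (F : Type u) [Field F] [Finite F] [CharP F p] :
    HAlg p (AlgebraicClosure F) := by
  intro a
  have hint : IsIntegral F a := (Algebra.IsAlgebraic.isAlgebraic a).isIntegral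
  have hfd : FiniteDimensional F (IntermediateField.adjoin F {a}) := IntermediateField.adjoin.finiteDimensional hint
  have hfin : Finite (IntermediateField.adjoin F {a}) := Module.finite_of_finite F
  have : Fintype (IntermediateField.adjoin F {a}) := Fintype.ofFinite _
  have hch : CharP (IntermediateField.adjoin F {a}) p := charP_of_injective_algebraMap
    (algebraMap F (IntermediateField.adjoin F {a})).injective p
  obtain ⟨⟨m, hm⟩, hp', hcard⟩ := FiniteField.card (IntermediateField.adjoin F {a}) p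
  have h1 := FiniteField.pow_card (⟨a, IntermediateField.mem_adjoin_simple_self F a⟩ :
    IntermediateField.adjoin F {a})
  rw [hcard] at h1
  exact ⟨m, hm, congrArg Subtype.val h1⟩

include hp in
/-- **Root values of an element of order prime to `p`.** -/
theorem exists_vals (p : ℕ) [Fact p.Prime] {F : Type u} [Field F] [Finite F] [CharP F p] {x : ↥(D.group F)} {N : ℕ}
    (hN0 : N ≠ 0) (hN : N.Coprime p) (hx : x ^ N = 1) : ∃ v : Fin l → ZMod N, Vals (l := l) x N v := by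
  classical
  have : NeZero N := ⟨hN0⟩
  have : Fintype F := Fintype.ofFinite F
  set k := AlgebraicClosure F with hk
  have hkch : CharP k p := charP_of_injective_algebraMap (algebraMap F k).injective p
  have hk' : HAlg p k := hAlg_closure p F
  set f : F →+* k := algebraMap F k with hf
  set x' : ↥(D.group k) := emb hp.inList f x with hx'
  have hxN : x' ^ N = 1 := by rw [hx', ← map_pow, hx, map_one]
  obtain ⟨g, hg⟩ := Cfsg.Agent.H944.TorAnyChev.exists_conj_mem_TT hp p hk' hN0 hN hxN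
  set t := g * x' * g⁻¹ with ht
  obtain ⟨c, hc⟩ := TT_diag hp hg
  have htN : t ^ N = 1 := by rw [ht, conj_pow, hxN, mul_one, mul_inv_cancel]
  -- the powers of `t`
  have hpow : ∀ d : ℕ, (((t ^ d : ↥(D.group k)) : GL D.Idx k) : Matrix D.Idx D.Idx k) =
      Matrix.diagonal (Sum.elim (fun _ => (1 : k)) (fun s : Fin D.nroots =>
        ((∏ i, c i ^ (vec D l s i) : kˣ) : k) ^ d)) := by
    intro d
    rw [Subgroup.coe_pow, Units.val_pow_eq_pow_val, hc, Matrix.diagonal_pow]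
    congr 1
    funext i
    rcases i with i | i
    · simp only [_root_.Units.coe_prod, _root_.Units.val_zpow_eq_zpow_val, _root_.Pi.pow_apply, _root_.Sum.elim_inl, _root_.one_pow]
    · simp only [_root_.Units.coe_prod, _root_.Units.val_zpow_eq_zpow_val, _root_.Pi.pow_apply, _root_.Sum.elim_inr]
  -- the value on the simple roots
  have hsimple : ∀ j : Fin l, ∃ s : Fin D.nroots, (∏ i, c i ^ (vec D l s i) : kˣ) = c j := by
    intro j
    have hlt := NPerm.simple_lt hp.inList (lt_rank hp j)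
    refine ⟨⟨D.simple j, hlt⟩, ?_⟩
    show (∏ i, c i ^ (vec D l (D.simple j) i) : kˣ) = c j
    rw [vec_simple hp j, Finset.prod_eq_single j]
    · rw [sr_self, zpow_one]
    · intro i _ hij
      rw [sr_ne hij, zpow_zero]
    · intro h
      exact absurd (Finset.mem_univ j) h
  have hcN : ∀ d : ℕ, t ^ d = 1 ↔ ∀ j, c j ^ d = 1 := by
    intro d
    constructor
    · intro h1 j
      obtain ⟨s, hs⟩ := hsimple j
      have h2 := hpow d
      rw [h1, Subgroup.coe_one, Units.val_one] at h2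
      have h3 := congrFun (congrFun h2 (Sum.inr s)) (Sum.inr s)
      rw [Matrix.one_apply_eq, Matrix.diagonal_apply_eq, Sum.elim_inr, hs, ← Units.val_pow_eq_pow_val] at h3
      exact Units.ext h3.symm
    · intro h1
      apply Subtype.ext
      apply Units.ext
      rw [hpow, Subgroup.coe_one, Units.val_one, ← Matrix.diagonal_one]
      congr 1
      funext i
      rcases i with i | i
      · rfl
      · rw [Sum.elim_inr, ← Units.val_pow_eq_pow_val, ← Finset.prod_pow]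
        have : ∀ j ∈ (Finset.univ : Finset (Fin l)), (c j ^ vec D l i j) ^ d = 1 := by
          intro j _
          rw [← zpow_natCast, ← zpow_mul, mul_comm, zpow_mul, zpow_natCast, h1, one_zpow]
        rw [Finset.prod_congr rfl this, Finset.prod_const_one, Units.val_one]
  have hcN' : ∀ j, c j ^ N = 1 := (hcN N).1 htN
  -- a primitive root of unity
  have hNk : ((N : ℕ) : k) ≠ 0 := by
    intro h0
    have h1 : p ∣ N := (CharP.cast_eq_zero_iff k p N).1 h0
    have h2 : p ∣ 1 := by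
      rw [← hN]
      exact Nat.dvd_gcd h1 dvd_rfl
    exact (Fact.out : p.Prime).one_lt.ne' (Nat.dvd_one.1 h2)
  have : NeZero ((N : ℕ) : k) := ⟨hNk⟩
  obtain ⟨ζ, hζ⟩ : ∃ ζ : k, IsPrimitiveRoot ζ N := HasEnoughRootsOfUnity.exists_primitiveRoot k N
  have hζu : IsPrimitiveRoot (hζ.toRootsOfUnity : kˣ) N := by
    rw [IsPrimitiveRoot.coe_units_iff.symm]
    exact hζ
  set z : kˣ := (hζ.toRootsOfUnity : kˣ) with hz
  have hex : ∀ j, ∃ a : ℕ, z ^ a = c j := by
    intro j
    have h1 : ((c j : kˣ) : k) ^ N = 1 := by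
      rw [← Units.val_pow_eq_pow_val, hcN' j, Units.val_one]
    obtain ⟨a, -, ha⟩ := hζ.eq_pow_of_pow_eq_one h1
    refine ⟨a, Units.ext ?_⟩
    rw [Units.val_pow_eq_pow_val, ← ha]
    rfl
  choose a ha using hex
  let v : Fin l → ZMod N := fun j => (a j : ZMod N)
  -- the values
  let pw : ZMod N → k := fun b => ((z ^ b.val : kˣ) : k)
  have hzpow : ∀ m : ℤ, z ^ m = z ^ ((m : ZMod N).val) := by
    intro m
    rw [← zpow_natCast, ZMod.val_intCast]
    have h1 : z ^ (N : ℤ) = 1 := by rw [zpow_natCast]; exact hζu.pow_eq_one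
    conv_lhs => rw [← Int.emod_add_mul_ediv m N]
    rw [zpow_add, zpow_mul, h1, one_zpow, mul_one]
  have hpw_inj : Function.Injective pw := by
    intro b b' h
    have h1 : z ^ b.val = z ^ b'.val := Units.ext h
    exact ZMod.val_injective N (hζu.pow_inj (ZMod.val_lt b) (ZMod.val_lt b') h1)
  have hval : ∀ s : Fin D.nroots, ((∏ i, c i ^ (vec D l s i) : kˣ) : k) =
      pw (∑ i, (vec D l s i : ZMod N) * v i) := by
    intro s
    have h1 : ∏ i, c i ^ (vec D l s i) = z ^ (∑ i, vec D l s i * (a i : ℤ)) := by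
      have h2 : ∀ S : Finset (Fin l), ∏ i ∈ S, c i ^ (vec D l s i) = z ^ (∑ i ∈ S, vec D l s i * (a i : ℤ)) := by
        intro S
        induction S using Finset.induction_on with
        | empty => simp
        | insert b S hb ih =>
          rw [Finset.prod_insert hb, Finset.sum_insert hb, zpow_add, ih, ← ha b, mul_comm (vec D l s b), zpow_mul,
            zpow_natCast]
      exact h2 _
    rw [h1, hzpow]
    congr 3
    push_cast
    rfl
  have hpwmul : ∀ (m : ℕ) (b : ZMod N), pw b ^ m = pw ((m : ZMod N) * b) := by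
    intro m b
    show (((z ^ b.val : kˣ) : k)) ^ m = ((z ^ ((m : ZMod N) * b).val : kˣ) : k)
    rw [← Units.val_pow_eq_pow_val, ← pow_mul]
    congr 1
    have h1 := hzpow ((b.val * m : ℕ) : ℤ)
    rw [zpow_natCast] at h1
    rw [h1]
    congr 2
    push_cast
    rw [ZMod.natCast_zmod_val, mul_comm]
  -- multisets
  have hms : ∀ m : ℕ, (Finset.univ : Finset (Fin D.nroots)).val.map
      (fun s : Fin D.nroots => ((∏ i, c i ^ (vec D l s i) : kˣ) : k) ^ m) = ((ms D l v).map (fun b => (m : ZMod N) * b)).map pw := by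
    intro m
    unfold ms
    rw [Multiset.map_map, Multiset.map_map]
    refine Multiset.map_congr rfl fun s _ => ?_
    simp only [Function.comp_apply]
    rw [hval, hpwmul]
  have hms1 : (Finset.univ : Finset (Fin D.nroots)).val.map
      (fun s : Fin D.nroots => ((∏ i, c i ^ (vec D l s i) : kˣ) : k)) = (ms D l v).map pw := by
    unfold ms
    rw [Multiset.map_map]
    refine Multiset.map_congr rfl fun s _ => ?_
    exact hval s
  -- the characteristic polynomial of `t`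
  have hchart : ∀ d : ℕ, (((t ^ d : ↥(D.group k)) : GL D.Idx k) : Matrix D.Idx D.Idx k).charpoly =
      ((((x ^ d : ↥(D.group F)) : GL D.Idx F) : Matrix D.Idx D.Idx F).charpoly).map f := by
    intro d
    have h1 : t ^ d = g * x' ^ d * g⁻¹ := by rw [ht, conj_pow]
    rw [h1, Subgroup.coe_mul, Subgroup.coe_mul, Subgroup.coe_inv, Units.val_mul, Units.val_mul,
      Matrix.coe_units_inv]
    have h2 := Matrix.charpoly_units_conj ((g : GL D.Idx k)) (((x' ^ d : ↥(D.group k)) : GL D.Idx k) : Matrix D.Idx D.Idx k)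
    rw [h2, ← Matrix.charpoly_map]
    congr 1
    rw [hx', ← map_pow, coe_emb, coe_glMap]
  refine ⟨v, ⟨?_, ?_, ?_⟩⟩
  · intro d
    have h1 : x ^ d = 1 ↔ t ^ d = 1 := by
      have h2 : t ^ d = g * x' ^ d * g⁻¹ := by rw [ht, conj_pow]
      rw [h2, conj_eq_one_iff, hx', ← map_pow]
      constructor
      · intro h; rw [h, map_one]
      · intro h
        exact emb_injective hp.inList f (by rw [h, map_one])
    rw [h1, hcN]
    refine forall_congr' fun j => ?_
    have h3 : c j ^ d = z ^ (((d : ZMod N) * v j).val) := by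
      rw [← ha j, ← pow_mul]
      have h4 := hzpow ((a j * d : ℕ) : ℤ)
      rw [zpow_natCast] at h4
      rw [h4]
      congr 2
      show (((a j * d : ℕ) : ℤ) : ZMod N) = (d : ZMod N) * (a j : ZMod N)
      push_cast
      rw [mul_comm]
    rw [h3]
    constructor
    · intro h; rw [h, ZMod.val_zero, pow_zero]
    · intro h
      have h5 : z ^ (((d : ZMod N) * v j).val) = z ^ (0 : ZMod N).val := by rw [h, ZMod.val_zero, pow_zero]
      have h6 := hζu.pow_inj (ZMod.val_lt _) (ZMod.val_lt _) h5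
      exact ZMod.val_injective N h6
  · -- Frobenius
    have hq : Nat.card F = Fintype.card F := Nat.card_eq_fintype_card
    obtain ⟨⟨m, hm⟩, hp', hcard⟩ := FiniteField.card F p
    simp only [PNat.mk_coe] at hcard
    let φ : k →+* k := iterateFrobenius k p m
    have hφf : ∀ b : F, φ (f b) = f b := by
      intro b
      show iterateFrobenius k p m (f b) = f b
      rw [iterateFrobenius_def, ← map_pow, ← hcard, FiniteField.pow_card]
    have h1 := hchart 1
    rw [pow_one, pow_one] at h1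
    have h2 : ((((t : ↥(D.group k)) : GL D.Idx k) : Matrix D.Idx D.Idx k).map φ).charpoly =
        (((t : ↥(D.group k)) : GL D.Idx k) : Matrix D.Idx D.Idx k).charpoly := by
      rw [Matrix.charpoly_map, h1, Polynomial.map_map]
      congr 1
      ext b
      exact hφf b
    rw [hc, Matrix.diagonal_map (map_zero φ)] at h2
    have h3 := diag_multiset h2
    have h4 : (φ ∘ Sum.elim (fun _ : Fin D.rank => (1 : k)) (fun s : Fin D.nroots => ((∏ i, c i ^ (vec D l s i) : kˣ) : k))) =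
        Sum.elim (fun _ : Fin D.rank => (1 : k)) (fun s : Fin D.nroots => ((∏ i, c i ^ (vec D l s i) : kˣ) : k) ^ (Nat.card F)) := by
      funext i
      rcases i with i | i
      · simp only [_root_.Units.coe_prod, _root_.Units.val_zpow_eq_zpow_val, _root_.Function.comp_apply, _root_.Sum.elim_inl, _root_.map_one, _root_.Nat.card_eq_fintype_card]
      · simp only [Function.comp_apply, Sum.elim_inr]
        show iterateFrobenius k p m _ = _
        rw [iterateFrobenius_def, hq, hcard]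
    have h3' : (Finset.univ : Finset (Fin D.rank ⊕ Fin D.nroots)).val.map
        (φ ∘ Sum.elim (fun _ => (1 : k)) (fun s : Fin D.nroots => ((∏ i, c i ^ (vec D l s i) : kˣ) : k))) =
        (Finset.univ : Finset (Fin D.rank ⊕ Fin D.nroots)).val.map
        (Sum.elim (fun _ => (1 : k)) (fun s : Fin D.nroots => ((∏ i, c i ^ (vec D l s i) : kˣ) : k))) := h3
    rw [h4] at h3'
    have h5 := cancel_inl h3'
    rw [hms1, hms] at h5
    exact (Multiset.map_injective hpw_inj h5).symm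
  · -- conjugation
    rintro b ⟨g', hg'⟩
    have h1 := hchart 1
    rw [pow_one, pow_one] at h1
    have h2 : (((t ^ b : ↥(D.group k)) : GL D.Idx k) : Matrix D.Idx D.Idx k).charpoly =
        (((t : ↥(D.group k)) : GL D.Idx k) : Matrix D.Idx D.Idx k).charpoly := by
      rw [hchart, h1, ← hg', Subgroup.coe_mul, Subgroup.coe_mul, Subgroup.coe_inv, Units.val_mul, Units.val_mul,
        Matrix.coe_units_inv, Matrix.charpoly_units_conj]
    rw [hpow, hc] at h2
    have h3 := cancel_inl (diag_multiset h2)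
    rw [hms1, hms] at h3
    exact (Multiset.map_injective hpw_inj h3).symm

end Cfsg.Agent.H944.RootVals
end

-- part: H696/GmnToral
section
set_option linter.all false
open scoped Cfsg.Agent.FastGrp

/-!
# Fusion of toral elements of the fixed points of a frame automorphism

`Y = D.group k` (`k` algebraically closed of characteristic `r`, locally finite), `σ` a frame automorphism
(`IsFrob r e σ`, `Fr … σ g`).

* `fr_ch` : `ch (g a) (σ t) = ch a t ^ r ^ e` on the torus;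
* `ext_TT` : elements of the torus are determined by the characters;
* `torus_lang` : Lang's theorem for the torus;
* `exists_fixed_rp` : elements of the Weyl group commuting with the action on the roots have fixed representatives;
* `frame_of_toral` : a toral fixed element is `z t z⁻¹` with `t` in the torus and `k = z⁻¹ σ(z) ∈ N`;
* `real_of_neg`, `conj_pow` : the fixed elements of prime order `≠ r` are conjugate under the fixed points of `σ` to
  their inverses (when `-1` is in the Weyl group), to their `± r ^ e`-th powers (when `g` is `±` an element of the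
  Weyl group).
-/

set_option autoImplicit false
set_option linter.unusedSectionVars false

namespace Cfsg.Agent.H696.GmnToral

open CoxeterSystem Cfsg Cfsg.Lie Cfsg.Lie.ChevalleyDatum
open Cfsg.Agent.ChevalleyStructure Cfsg.Agent.ChevalleyStructure.Elts Cfsg.Agent.ChevalleyStructure.CoxeterGeom
  Cfsg.Agent.ChevalleyStructure.CoxeterGeomTypes Cfsg.Agent.ChevalleyStructure.NPerm
open Cfsg.Agent.Tits.Roots Cfsg.Agent.Tits.Core Cfsg.Agent.Nodes Cfsg.Agent.Nodes.Reps Cfsg.Agent.Nodes.BNOf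
  Cfsg.Agent.Nodes.RGDChev Cfsg.Agent.Nodes.Bruhat
open Cfsg.Agent.KFacts.RgdField Cfsg.Agent.KFacts.RgdChevCoord
open Cfsg.Agent.BpExc Cfsg.Agent.BpExc.TorCent Cfsg.Agent.BpExc.TorChev Cfsg.Agent.BpExc.Tow
open Cfsg.Agent.BpExc.TowChev Cfsg.Agent.BpExc.Fr Cfsg.Agent.BpExc.LangFr Cfsg.Agent.BpExc.HX
open Cfsg.Agent.BpExc.NChev Cfsg.Agent.BpExc.NInst Cfsg.Agent.BpExc.Pair
open scoped commutatorElement

universe u v

variable {D : ChevalleyDatum} {l : ℕ} {M : CoxeterMatrix (Fin l)} (hp : IsType D l M) {k : Type u} [Field k]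
  {W : Type v} [Group W] (cs : CoxeterSystem M W) {r : ℕ} [Fact r.Prime] [CharP k r]

/-! ### characters -/

section Char

variable [IsAlgClosed k] (hk : LocFin k)

include hk cs in
theorem ch_mul (r : ℕ) [Fact r.Prime] [CharP k r] {a : Fin l → ℤ} (ha : IsRoot cs hp.isCartan a) {s t : ↥(D.group k)} (hs : s ∈ TT D k)
    (ht : t ∈ TT D k) : ch hp a (s * t) = ch hp a s * ch hp a t :=
  ((coordsL hp cs hk r).coord a ha).chi_mul hs ht

include hk cs in
theorem ch_ne_zero (r : ℕ) [Fact r.Prime] [CharP k r] {a : Fin l → ℤ} (ha : IsRoot cs hp.isCartan a) {t : ↥(D.group k)}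
    (ht : t ∈ TT D k) : ch hp a t ≠ 0 := ((coordsL hp cs hk r).coord a ha).chi_ne_zero ht

include hk cs in
theorem ch_one (r : ℕ) [Fact r.Prime] [CharP k r] {a : Fin l → ℤ} (ha : IsRoot cs hp.isCartan a) :
    ch hp a (1 : ↥(D.group k)) = 1 := by
  have h1 := ch_mul hp cs hk r ha (one_mem (TT D k)) (one_mem _)
  rw [mul_one] at h1
  exact (mul_eq_left₀ (ch_ne_zero hp cs hk r ha (one_mem _))).1 h1.symm

include hk cs in
theorem ch_inv (r : ℕ) [Fact r.Prime] [CharP k r] {a : Fin l → ℤ} (ha : IsRoot cs hp.isCartan a) {t : ↥(D.group k)}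
    (ht : t ∈ TT D k) : ch hp a t⁻¹ = (ch hp a t)⁻¹ := by
  have h1 := ch_mul hp cs hk r ha ht (inv_mem ht)
  rw [mul_inv_cancel, ch_one hp cs hk r ha] at h1
  exact (eq_inv_of_mul_eq_one_right h1.symm)

include hk cs in
theorem ch_pow (r : ℕ) [Fact r.Prime] [CharP k r] {a : Fin l → ℤ} (ha : IsRoot cs hp.isCartan a) {t : ↥(D.group k)}
    (ht : t ∈ TT D k) (m : ℕ) : ch hp a (t ^ m) = ch hp a t ^ m := by
  induction m with
  | zero => rw [pow_zero, pow_zero, ch_one hp cs hk r ha]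
  | succ m ih => rw [pow_succ, pow_succ, ch_mul hp cs hk r ha (pow_mem ht m) ht, ih]

include hk cs in
theorem ch_zpow (r : ℕ) [Fact r.Prime] [CharP k r] {a : Fin l → ℤ} (ha : IsRoot cs hp.isCartan a) {t : ↥(D.group k)}
    (ht : t ∈ TT D k) (m : ℤ) : ch hp a (t ^ m) = ch hp a t ^ m := by
  obtain ⟨m, rfl | rfl⟩ := m.eq_nat_or_neg
  · rw [zpow_natCast, zpow_natCast, ch_pow hp cs hk r ha ht]
  · rw [zpow_neg, zpow_neg, zpow_natCast, zpow_natCast, ch_inv hp cs hk r ha (pow_mem ht m), ch_pow hp cs hk r ha ht]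

include hk in
theorem ch_neg (r : ℕ) [Fact r.Prime] [CharP k r] {a : Fin l → ℤ} (ha : IsRoot cs hp.isCartan a) {t : ↥(D.group k)}
    (ht : t ∈ TT D k) : ch hp (-a) t = (ch hp a t)⁻¹ := by
  obtain ⟨φ, h0, hadd, hφ⟩ := chAddL hp cs hk r t ht
  have h1 := hadd (-a) a
  rw [neg_add_cancel, h0, ← hφ a ha, ← hφ _ ha.neg] at h1
  exact eq_inv_of_mul_eq_one_left h1.symm

include hk cs in
theorem ch_comm (r : ℕ) [Fact r.Prime] [CharP k r] {a : Fin l → ℤ} (ha : IsRoot cs hp.isCartan a) {t : ↥(D.group k)}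
    (ht : t ∈ TT D k) (s : k) : t * xc hp a s * t⁻¹ = xc hp a (ch hp a t * s) :=
  ((coordsL hp cs hk r).coord a ha).act t ht s

include hk cs in
/-- The torus is separated by the characters. -/
theorem eq_one_TT (r : ℕ) [Fact r.Prime] [CharP k r] (hZ : Subgroup.center ↥(D.group k) = ⊥) {t : ↥(D.group k)} (ht : t ∈ TT D k)
    (h : ∀ a, IsRoot cs hp.isCartan a → ch hp a t = 1) : t = 1 := by
  have h1 : ∀ g : ↥(D.group k), t * g = g * t := by
    intro g
    refine FamExt.group_induction hp (P := fun g => t * g = g * t) (by rw [mul_one, one_mul]) ?_ ?_ ?_ g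
    · intro a b ha hb
      rw [← mul_assoc, ha, mul_assoc, hb, mul_assoc]
    · intro a ha
      rw [mul_inv_eq_iff_eq_mul, mul_assoc, ha, inv_mul_cancel_left]
    · intro s hs x
      have hr : IsRoot cs hp.isCartan (vec D l s) := (isRoot_iff hp cs _).2 ⟨s, hs, rfl⟩
      have h2 := ch_comm hp cs hk r hr ht x
      rw [h _ hr, one_mul, mul_inv_eq_iff_eq_mul] at h2
      exact h2
  have h2 : t ∈ Subgroup.center ↥(D.group k) := Subgroup.mem_center_iff.2 fun g => (h1 g).symm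
  rw [hZ] at h2
  exact h2

include hk cs in
theorem ext_TT (r : ℕ) [Fact r.Prime] [CharP k r] (hZ : Subgroup.center ↥(D.group k) = ⊥) {s t : ↥(D.group k)} (hs : s ∈ TT D k)
    (ht : t ∈ TT D k) (h : ∀ a, IsRoot cs hp.isCartan a → ch hp a s = ch hp a t) : s = t := by
  have h1 : s⁻¹ * t = 1 := by
    refine eq_one_TT hp cs hk r hZ (mul_mem (inv_mem hs) ht) fun a ha => ?_
    rw [ch_mul hp cs hk r ha (inv_mem hs) ht, ch_inv hp cs hk r ha hs, h a ha,
      inv_mul_cancel₀ (ch_ne_zero hp cs hk r ha ht)]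
  exact (inv_mul_eq_one.1 h1)

include hk in
/-- **Action of a frame automorphism on the characters.** -/
theorem fr_ch {e : ℕ} {σ : MulAut ↥(D.group k)} {g : (Fin l → ℤ) ≃+ (Fin l → ℤ)} (hσ : IsFrob r e σ)
    (F : Fr cs hp.isCartan (TT D k) (XX D l k) σ g) {a : Fin l → ℤ} (ha : IsRoot cs hp.isCartan a)
    {t : ↥(D.group k)} (ht : t ∈ TT D k) : ch hp (g a) (σ t) = ch hp a t ^ r ^ e := by
  obtain ⟨c, hc, h⟩ := fr_xc hp cs hσ F ha
  have hga := (F.root a).2 ha
  have hσt := (F.tor t).2 ht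
  have C := (coordsL hp cs hk r (k := k)).coord _ hga
  have h1 := congrArg σ (ch_comm hp cs hk r ha ht 1)
  rw [map_mul, map_mul, map_inv, h, h, ch_comm hp cs hk r hga hσt] at h1
  have h2 := C.inj h1
  rw [one_pow, mul_one, mul_one, mul_comm] at h2
  exact mul_left_cancel₀ hc h2

end Char

/-! ### Lang's theorem for the torus -/

section Lang

variable [IsAlgClosed k] (hk : LocFin k) (hZ : Subgroup.center ↥(D.group k) = ⊥)

include hp cs hk hZ in
/-- The torus is divisible. -/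
theorem divisible (r : ℕ) [Fact r.Prime] [CharP k r] {n : ℕ} (hn : 0 < n) {t : ↥(D.group k)} (ht : t ∈ TT D k) :
    ∃ v ∈ TT D k, v ^ n = t := by
  refine Subgroup.closure_induction (p := fun t _ => ∃ v ∈ TT D k, v ^ n = t) ?_ ?_ ?_ ?_ (TT_le hp ht)
  · rintro _ ⟨j, c, hc0, rfl⟩
    obtain ⟨b, hb⟩ := IsAlgClosed.exists_pow_nat_eq c hn
    have hb0 : b ≠ 0 := by
      rintro rfl
      rw [zero_pow hn.ne'] at hb
      exact hc0 hb.symm
    refine ⟨hc hp j b, hc_mem hp j hb0, ?_⟩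
    refine ext_TT hp cs hk r hZ (pow_mem (hc_mem hp j hb0) n) (hc_mem hp j hc0) fun a ha => ?_
    rw [ch_pow hp cs hk r ha (hc_mem hp j hb0)]
    obtain ⟨s, hs, rfl⟩ := (isRoot_iff hp cs a).1 ha
    rw [ch_hc hp j hb0 hs, ch_hc hp j hc0 hs, ← hb, ← zpow_natCast, ← zpow_natCast, ← zpow_mul, ← zpow_mul, mul_comm]
  · exact ⟨1, one_mem _, one_pow n⟩
  · rintro _ _ _ _ ⟨v, hv, rfl⟩ ⟨w, hw, rfl⟩
    refine ⟨v * w, mul_mem hv hw, ?_⟩
    exact (show Commute v w from TT_comm hp v hv w hw).mul_pow n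
  · rintro _ _ ⟨v, hv, rfl⟩
    exact ⟨v⁻¹, inv_mem hv, inv_pow v n⟩

include hp cs hk hZ in
/-- **Lang's theorem for the torus.** -/
theorem torus_lang {e : ℕ} (he : 0 < e) {σ : MulAut ↥(D.group k)} {g : (Fin l → ℤ) ≃+ (Fin l → ℤ)}
    (hσ : IsFrob r e σ) (F : Fr cs hp.isCartan (TT D k) (XX D l k) σ g) {s : ↥(D.group k)} (hs : s ∈ TT D k) :
    ∃ u ∈ TT D k, s = u⁻¹ * σ u := by
  have := finite_W hp cs
  obtain ⟨N, hN, hper⟩ := NInst.exists_period F
  obtain ⟨g', F', hg'⟩ := F.pow N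
  have hσN : ∀ t ∈ TT D k, (σ ^ N) t = t ^ r ^ (N * e) := by
    intro t ht
    refine ext_TT hp cs hk r hZ ((F'.tor t).2 ht) (pow_mem ht _) fun a ha => ?_
    have h1 := fr_ch hp cs hk (hσ.pow N) F' ha ht
    rw [hg' a, hper a ha] at h1
    rw [h1, ch_pow hp cs hk r ha ht]
  have hq : 1 < r ^ (N * e) := Nat.one_lt_pow (Nat.mul_pos hN he).ne' (Fact.out : r.Prime).one_lt
  obtain ⟨v, hv, hvs⟩ := divisible hp cs hk hZ r (Nat.sub_pos_of_lt hq) hs
  have hvi : ∀ i, (σ ^ i) v ∈ TT D k := by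
    intro i
    obtain ⟨g'', F'', -⟩ := F.pow i
    exact (F''.tor v).2 hv
  have hu : NInst.op σ v N ∈ TT D k := NInst.op_mem fun j _ => hvi j
  refine ⟨NInst.op σ v N, hu, ?_⟩
  have h1 := NInst.op_succ σ v N
  rw [NInst.op_succ' σ v N] at h1
  have h2 : σ (NInst.op σ v N) = v⁻¹ * (NInst.op σ v N * (σ ^ N) v) := by rw [← h1, inv_mul_cancel_left]
  rw [h2, hσN v hv]
  have h3 : v ^ r ^ (N * e) = v * s := by
    rw [← hvs, ← pow_succ', Nat.sub_add_cancel hq.le]
  rw [h3]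
  have h4 := TT_comm hp _ hu _ (inv_mem hv)
  calc s = v⁻¹ * v * s := by group
    _ = (NInst.op σ v N)⁻¹ * (NInst.op σ v N * v⁻¹) * v * s := by group
    _ = _ := by rw [h4]; group

end Lang

/-! ### fixed representatives -/

section Rep

variable [IsAlgClosed k] (hk : LocFin k)

include hk in
theorem XX_injective (r : ℕ) [Fact r.Prime] [CharP k r] {a b : Fin l → ℤ} (ha : IsRoot cs hp.isCartan a)
    (hb : IsRoot cs hp.isCartan b) {u : ↥(D.group k)} (hu : u ≠ 1) (hua : u ∈ XX D l k a) (hub : u ∈ XX D l k b) :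
    a = b := by
  have := finite_W hp cs
  by_contra hab
  have H := tow hp cs hk r
  rw [← XL_eq hp hk] at hua hub
  obtain ⟨j, hj⟩ := H.mem_XL.1 hua
  obtain ⟨j', hj'⟩ := H.mem_XL.1 hub
  obtain ⟨i, hi, hi'⟩ := H.dir j j'
  have h1 := OppDec.X_inf_X (H.rgd i) ha hb hab
  apply hu
  rw [← Subgroup.mem_bot, ← h1]
  exact ⟨H.monoX a hi hj, H.monoX b hi' hj'⟩

theorem XX_ne {a : Fin l → ℤ} (ha : IsRoot cs hp.isCartan a) : ∃ u ∈ XX D l k a, u ≠ 1 := by
  obtain ⟨s, hs, rfl⟩ := (isRoot_iff hp cs a).1 ha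
  refine ⟨xc hp (vec D l s) 1, (mem_XX_xc hp hs).2 ⟨1, rfl⟩, fun h => ?_⟩
  have h0 : xc hp (vec D l s) (0 : k) = 1 := by
    apply Subtype.ext
    rw [coe_xc hp hs, xG_zero]
    rfl
  rw [← h0] at h
  exact one_ne_zero (xc_inj hp hs h)

theorem rep_faithful [Finite W] {w w' : W} (h : ∀ a, IsRoot cs hp.isCartan a →
    rep cs hp.isCartan w a = rep cs hp.isCartan w' a) : w = w' := by
  by_contra hne
  have h1 : w'⁻¹ * w ≠ 1 := fun h => hne (inv_mul_eq_one.1 h).symm
  obtain ⟨i, hi⟩ := FamCent.exists_nonpos (cs := cs) (h := hp.isCartan) h1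
  rw [rep_mul_apply, h _ (isRoot_sr cs hp.isCartan i), ← rep_mul_apply, inv_mul_cancel, map_one,
    Module.End.one_apply] at hi
  have h2 : (1 : ℤ) ≤ 0 := by
    have := hi i
    simp [sr] at this
  omega

include hk in
/-- The action on the roots of two frame automorphisms whose quotient is inner. -/
theorem rep_of_fr (r : ℕ) [Fact r.Prime] [CharP k r] {σ : MulAut ↥(D.group k)} {g g' : (Fin l → ℤ) ≃+ (Fin l → ℤ)} {n : ↥(D.group k)}
    (F : Fr cs hp.isCartan (TT D k) (XX D l k) σ g)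
    (F' : Fr cs hp.isCartan (TT D k) (XX D l k) (MulAut.conj n * σ) g') :
    ∃ w : W, Rp cs (tow hp cs hk r (k := k)).nsys w n ∧ ∀ a, IsRoot cs hp.isCartan a →
      g' a = rep cs hp.isCartan w (g a) := by
  have := finite_W hp cs
  have hTL := TL_eq hp hk
  have hXL := XL_eq hp hk
  have F1 := F'.mul F.inv
  have e1 : MulAut.conj n * σ * σ⁻¹ = MulAut.conj n := by group
  rw [e1] at F1
  obtain ⟨w, hw⟩ := rp_of_normalizer (tow hp cs hk r) (GG_eq_top hp cs hk) (fun a ha => by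
      rw [hTL, hXL]; exact sep hp cs hk r ha) (y := n) (fun s => by rw [hTL]; exact F1.tor s)
  refine ⟨w, hw, fun a ha => ?_⟩
  have hga := (F.root a).2 ha
  obtain ⟨u, hu, hu1⟩ := XX_ne hp cs (k := k) hga
  have F2 := Fr.conj (tow hp cs hk r) hw
  rw [hTL, hXL] at F2
  have h1 := (F2.map _ hga u).2 hu
  have h2 := (F1.map _ hga u).2 hu
  refine XX_injective hp cs hk r ((F'.root a).2 ha) (hga.act w) (u := MulAut.conj n u) ?_ ?_ h1
  · intro h3
    exact hu1 ((MulAut.conj n).injective (h3.trans (map_one _).symm))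
  · have h3 : (g.symm.trans g') (g a) = g' a := by
      show g' (g.symm (g a)) = g' a
      rw [AddEquiv.symm_apply_apply]
    rw [← h3]
    exact h2

include hk in
/-- **Fixed representatives.** -/
theorem exists_fixed_rp (hZ : Subgroup.center ↥(D.group k) = ⊥) {e : ℕ} (he : 0 < e) {σ : MulAut ↥(D.group k)}
    {g : (Fin l → ℤ) ≃+ (Fin l → ℤ)} (hσ : IsFrob r e σ) (F : Fr cs hp.isCartan (TT D k) (XX D l k) σ g) {w : W}
    (hw : ∀ a, IsRoot cs hp.isCartan a → rep cs hp.isCartan w (g a) = g (rep cs hp.isCartan w a)) :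
    ∃ n, Rp cs (tow hp cs hk r (k := k)).nsys w n ∧ σ n = n := by
  have := finite_W hp cs
  have hTL := TL_eq hp hk
  have hXL := XL_eq hp hk
  have H := tow hp cs hk r (k := k)
  obtain ⟨n, -, hn⟩ := H.exists_rp w
  have F' : Fr cs hp.isCartan (TL (Tj hp (k := k))) (XL (Xj hp (k := k))) σ g := by rw [hTL, hXL]; exact F
  obtain ⟨w', hw'⟩ := rp_fr H (GG_eq_top hp cs hk) (fun a ha => by rw [hTL, hXL]; exact sep hp cs hk r ha) F' hn
  have F1 := Fr.conj H hn
  have F2 := Fr.conj H hw'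
  rw [hTL, hXL] at F1 F2
  have e1 : w' = w := by
    refine rep_faithful hp cs fun b hb => ?_
    obtain ⟨a, rfl⟩ := g.surjective b
    have ha := (F.root a).1 hb
    obtain ⟨u, hu, hu1⟩ := XX_ne hp cs (k := k) ha
    have h1 := (F.map _ (ha.act w) _).2 ((F1.map _ ha u).2 hu)
    have h2 := (F2.map _ hb _).2 ((F.map _ ha u).2 hu)
    have e2 : MulAut.conj (σ n) (σ u) = σ (MulAut.conj n u) := by
      rw [MulAut.conj_apply, MulAut.conj_apply, map_mul, map_mul, map_inv]
    rw [e2] at h2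
    rw [hw a ha]
    refine XX_injective hp cs hk r (hb.act w') ((F.root _).2 (ha.act w)) (u := σ (MulAut.conj n u)) ?_ h2 h1
    intro h3
    apply hu1
    apply (MulAut.conj n).injective
    apply σ.injective
    rw [h3, map_one, map_one]
  rw [e1] at hw'
  have h1 : n⁻¹ * σ n ∈ TT D k := by rw [← hTL]; exact hn.unique hw'
  obtain ⟨u, hu, hus⟩ := torus_lang hp cs hk hZ he hσ F (inv_mem h1)
  refine ⟨n * u, hn.mul_mem_right (by rw [hTL]; exact hu), ?_⟩
  rw [map_mul]
  have h2 : σ u = u * (n⁻¹ * σ n)⁻¹ := by rw [hus]; group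
  have h3 := TT_comm hp _ hu _ (inv_mem h1)
  rw [h2, h3]
  group

end Rep

/-! ### toral elements -/

section Toral

variable [IsAlgClosed k] (hk : LocFin k)

include hk in
theorem frame_of_toral {e : ℕ} (he : 0 < e) {σ : MulAut ↥(D.group k)} {g : (Fin l → ℤ) ≃+ (Fin l → ℤ)}
    (hσ : IsFrob r e σ) (Fσ : Fr cs hp.isCartan (TT D k) (XX D l k) σ g) {x : ↥(D.group k)} (hσx : σ x = x)
    {z : ↥(D.group k)} (hz : z⁻¹ * x * z ∈ TT D k) :
    ∃ (z' t n : ↥(D.group k)) (g' : (Fin l → ℤ) ≃+ (Fin l → ℤ)) (w : W),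
      t ∈ TT D k ∧ z'⁻¹ * x * z' = t ∧ z'⁻¹ * σ z' = n ∧ IsFrob r e (MulAut.conj n * σ) ∧
      Fr cs hp.isCartan (TT D k) (XX D l k) (MulAut.conj n * σ) g' ∧ (MulAut.conj n * σ) t = t ∧
      Rp cs (tow hp cs hk r (k := k)).nsys w n ∧
      ∀ a, IsRoot cs hp.isCartan a → g' a = rep cs hp.isCartan w (g a) := by
  have := finite_W hp cs
  have hTL := TL_eq hp hk
  have hXL := XL_eq hp hk
  have C := coordsL hp cs hk r
  have hA := chAddL hp cs hk r
  have hG := GG_eq_top hp cs hk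
  have Fσ' : Fr cs hp.isCartan (TL (Tj hp (k := k))) (XL (Xj hp (k := k))) σ g := by rw [hTL, hXL]; exact Fσ
  set t : ↥(D.group k) := z⁻¹ * x * z with ht
  have ht' : t ∈ TL (Tj hp (k := k)) := by rw [hTL]; exact hz
  have C' : Coords cs hp.isCartan (TL (Tj hp (k := k))) (nc hp k) (XL (Xj hp (k := k))) (xc hp) (ch hp) := by
    rw [hTL, hXL]; exact C
  have hA' : ChAdd cs hp.isCartan (TL (Tj hp (k := k))) (ch (K := k) hp) := by rw [hTL]; exact hA
  obtain ⟨z', k', g', h1, h2, h3, h4, h5⟩ := pair_reduction (tow hp cs hk r) C' hA' hG Fσ' hσx (z := z) (t := t)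
    rfl ht' (fun k' g' F' htt m hm => by
      have h1 := fun a => F'.mem_Sx C' ht' htt a
      rw [hTL, hXL] at F'
      rw [hXL] at hm ⊢
      exact lang_fr hp cs he (hσ.conj_mul k') F' (S := Sx cs hp.isCartan (ch hp) t) (fun a ha => ha.1)
        (fun a ha => (h1 a).2 ha) hm)
  rw [hTL, hXL] at h3
  obtain ⟨w, hw, hwa⟩ := rep_of_fr hp cs hk r Fσ h3
  exact ⟨z', t, k', g', w, hz, h1, h2, hσ.conj_mul k', h3, h4, hw, hwa⟩

include hk in
/-- **Fusion of toral elements.** -/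
theorem exists_conj_zpow (hZ : Subgroup.center ↥(D.group k) = ⊥) {e : ℕ} (he : 0 < e) {σ : MulAut ↥(D.group k)}
    {g : (Fin l → ℤ) ≃+ (Fin l → ℤ)} (hσ : IsFrob r e σ) (Fσ : Fr cs hp.isCartan (TT D k) (XX D l k) σ g)
    {x : ↥(D.group k)} (hσx : σ x = x) {z : ↥(D.group k)} (hz : z⁻¹ * x * z ∈ TT D k) (m : ℤ)
    (hg : ∀ w₁ : W, ∃ w : W, (∀ a, IsRoot cs hp.isCartan a →
      rep cs hp.isCartan w (rep cs hp.isCartan w₁ (g a)) = rep cs hp.isCartan w₁ (g (rep cs hp.isCartan w a))) ∧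
      ∀ t ∈ TT D k, (∀ a, IsRoot cs hp.isCartan a →
        ch hp (rep cs hp.isCartan w₁ (g a)) t = ch hp a t ^ r ^ e) → ∀ a, IsRoot cs hp.isCartan a →
        ch hp (rep cs hp.isCartan w a) t = ch hp a t ^ m) :
    ∃ y, σ y = y ∧ y⁻¹ * x * y = x ^ m := by
  have hTL := TL_eq hp hk
  have hXL := XL_eq hp hk
  have H := tow hp cs hk r (k := k)
  obtain ⟨z', t, n, g', w₁, ht, h1, h2, hF, F', htt, hw₁, hw₁a⟩ := frame_of_toral hp cs hk he hσ Fσ hσx hz
  obtain ⟨w, hwc, hwt⟩ := hg w₁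
  obtain ⟨n', hn', hn'f⟩ := exists_fixed_rp hp cs hk hZ he hF F' (w := w) (fun a ha => by
    rw [hw₁a a ha, hwc a ha, hw₁a _ (ha.act w)])
  have h3 : ∀ a, IsRoot cs hp.isCartan a → ch hp (rep cs hp.isCartan w₁ (g a)) t = ch hp a t ^ r ^ e := by
    intro a ha
    rw [← hw₁a a ha]
    have := fr_ch hp cs hk hF F' ha ht
    rwa [htt] at this
  have h4 := hwt t ht h3
  have h5 : n'⁻¹ * t * n' ∈ TT D k := by
    have := (Subgroup.mem_normalizer_iff.1 hn'.inv.mem_normalizer t).1 (by rw [hTL]; exact ht)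
    rw [inv_inv, hTL] at this
    exact this
  have h6 : n'⁻¹ * t * n' = t ^ m := by
    refine ext_TT hp cs hk r hZ h5 (zpow_mem ht m) fun a ha => ?_
    have C : Coords cs hp.isCartan (TL (Tj hp (k := k))) (nc hp k) (XL (Xj hp (k := k))) (xc hp) (ch hp) := by
      rw [hTL, hXL]; exact coordsL hp cs hk r
    have h7 := C.chi_rp H.nsys hn' ha (t := n'⁻¹ * t * n') (by rw [hTL]; exact h5)
    have e1 : n' * (n'⁻¹ * t * n') * n'⁻¹ = t := by group
    rw [e1] at h7
    rw [← h7, h4 a ha, ch_zpow hp cs hk r ha ht]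
  refine ⟨z' * n' * z'⁻¹, ?_, ?_⟩
  · have h8 : σ z' = z' * n := by rw [← h2]; group
    have h9 : n * σ n' * n⁻¹ = n' := hn'f
    rw [map_mul, map_mul, map_inv, h8]
    calc z' * n * σ n' * (z' * n)⁻¹ = z' * (n * σ n' * n⁻¹) * z'⁻¹ := by group
      _ = _ := by rw [h9]
  · have h8 : x = z' * t * z'⁻¹ := by rw [← h1]; group
    calc (z' * n' * z'⁻¹)⁻¹ * x * (z' * n' * z'⁻¹) = z' * (n'⁻¹ * t * n') * z'⁻¹ := by rw [h8]; group
      _ = z' * t ^ m * z'⁻¹ := by rw [h6]
      _ = (z' * t * z'⁻¹) ^ m := (conj_zpow).symm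
      _ = x ^ m := by rw [← h8]

include hk in
/-- `-1 ∈ W` : toral fixed elements are real. -/
theorem real_of_neg (hZ : Subgroup.center ↥(D.group k) = ⊥) {e : ℕ} (he : 0 < e) {σ : MulAut ↥(D.group k)}
    {g : (Fin l → ℤ) ≃+ (Fin l → ℤ)} (hσ : IsFrob r e σ) (Fσ : Fr cs hp.isCartan (TT D k) (XX D l k) σ g)
    {x : ↥(D.group k)} (hσx : σ x = x) {z : ↥(D.group k)} (hz : z⁻¹ * x * z ∈ TT D k)
    (hneg : ∃ w : W, ∀ a, IsRoot cs hp.isCartan a → rep cs hp.isCartan w a = -a) :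
    ∃ y, σ y = y ∧ y⁻¹ * x * y = x⁻¹ := by
  obtain ⟨w, hw⟩ := hneg
  obtain ⟨y, hy1, hy2⟩ := exists_conj_zpow hp cs hk hZ he hσ Fσ hσx hz (-1) (fun w₁ => ⟨w, fun a ha => by
    have hga := (Fσ.root a).2 ha
    rw [hw a ha, hw _ (hga.act w₁), map_neg, map_neg], fun t ht _ a ha => by
    rw [hw a ha, ch_neg hp cs hk r ha ht, zpow_neg_one]⟩)
  exact ⟨y, hy1, by rw [hy2, zpow_neg_one]⟩

include hk in
/-- `g` is an element of `W`: toral fixed elements are conjugate to their `r ^ e`-th powers. -/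
theorem conj_pow_of_mem (hZ : Subgroup.center ↥(D.group k) = ⊥) {e : ℕ} (he : 0 < e) {σ : MulAut ↥(D.group k)}
    {g : (Fin l → ℤ) ≃+ (Fin l → ℤ)} (hσ : IsFrob r e σ) (Fσ : Fr cs hp.isCartan (TT D k) (XX D l k) σ g)
    {x : ↥(D.group k)} (hσx : σ x = x) {z : ↥(D.group k)} (hz : z⁻¹ * x * z ∈ TT D k)
    (hg : ∃ v : W, ∀ a, IsRoot cs hp.isCartan a → g a = rep cs hp.isCartan v a) :
    ∃ y, σ y = y ∧ y⁻¹ * x * y = x ^ ((r : ℤ) ^ e) := by
  obtain ⟨v, hv⟩ := hg
  refine exists_conj_zpow hp cs hk hZ he hσ Fσ hσx hz _ (fun w₁ => ⟨w₁ * v, fun a ha => ?_, fun t ht h a ha => ?_⟩)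
  · rw [hv a ha, hv _ (ha.act _), rep_mul_apply, rep_mul_apply]
  · rw [rep_mul_apply, ← hv a ha, h a ha]
    push_cast [← zpow_natCast]
    rfl

include hk in
/-- `-g` is an element of `W`: toral fixed elements are conjugate to their `- r ^ e`-th powers. -/
theorem conj_pow_of_neg_mem (hZ : Subgroup.center ↥(D.group k) = ⊥) {e : ℕ} (he : 0 < e) {σ : MulAut ↥(D.group k)}
    {g : (Fin l → ℤ) ≃+ (Fin l → ℤ)} (hσ : IsFrob r e σ) (Fσ : Fr cs hp.isCartan (TT D k) (XX D l k) σ g)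
    {x : ↥(D.group k)} (hσx : σ x = x) {z : ↥(D.group k)} (hz : z⁻¹ * x * z ∈ TT D k)
    (hg : ∃ v : W, ∀ a, IsRoot cs hp.isCartan a → g a = - rep cs hp.isCartan v a) :
    ∃ y, σ y = y ∧ y⁻¹ * x * y = x ^ (-(r : ℤ) ^ e) := by
  obtain ⟨v, hv⟩ := hg
  refine exists_conj_zpow hp cs hk hZ he hσ Fσ hσx hz _ (fun w₁ => ⟨w₁ * v, fun a ha => ?_, fun t ht h a ha => ?_⟩)
  · rw [hv a ha, hv _ (ha.act _), rep_mul_apply, rep_mul_apply, map_neg, map_neg, map_neg]
  · have h1 : rep cs hp.isCartan w₁ (rep cs hp.isCartan v a) = -(rep cs hp.isCartan w₁ (g a)) := by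
      rw [hv a ha, map_neg, neg_neg]
    rw [rep_mul_apply, h1, ch_neg hp cs hk r (((Fσ.root a).2 ha).act w₁) ht, h a ha, zpow_neg]
    push_cast [← zpow_natCast]
    rfl

end Toral

end Cfsg.Agent.H696.GmnToral
end

-- part: H666/SigFr
section
set_option linter.all false
open scoped Cfsg.Agent.FastGrp

/-!
# Field and graph automorphisms of `D.group k` as frame automorphisms

This is the section `BpExc.SigFr` (helper60) of `PreUniq.FinalInputs`, copied here (helper666) in order to avoid the large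
closure of that module.
-/

set_option autoImplicit false
set_option linter.dupNamespace false
set_option linter.unusedSectionVars false

namespace Cfsg.Agent.H666.SigFr

open CoxeterSystem Cfsg Cfsg.Lie Cfsg.Agent.ChevalleyStructure Cfsg.Agent.ChevalleyStructure.Elts
  Cfsg.Agent.ChevalleyStructure.CoxeterGeom Cfsg.Agent.ChevalleyStructure.CoxeterGeomTypes
  Cfsg.Agent.ChevalleyStructure.NPerm Cfsg.Agent.Tits.Roots Cfsg.Agent.Tits.Core Cfsg.Agent.Nodes.Reps
  Cfsg.Agent.Nodes.BNOf Cfsg.Agent.Nodes.RGDChev Cfsg.Agent.KFacts.RgdChevCoord Cfsg.Agent.LangThm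
  Cfsg.Agent.BpExc.Fr Cfsg.Agent.BpExc.LangFr Cfsg.Agent.CpAut.RgdUntw
  Cfsg.Agent.ChevalleyStructure.SignedSymm Cfsg.Agent.ChevalleyStructure.GraphSymm

universe u

variable {D : ChevalleyDatum} {k : Type u} [Field k]

/-! ### automorphisms permuting the root elements -/

section Act

variable (hD : InList D)

/-- the root elements of `D.group k` -/
def xs (r : ℕ) (t : k) : ↥(D.group k) := ⟨xG hD r t, xG_mem_group hD r t⟩

theorem coe_xs (r : ℕ) (t : k) : ((xs hD r t : ↥(D.group k)) : GL D.Idx k) = xG hD r t := rfl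

/-- `σ` maps the root elements of `± r` to those of `± s`. -/
def Act (σ : MulAut ↥(D.group k)) (r s : ℕ) : Prop :=
  r < D.nroots ∧ s < D.nroots ∧ ∃ (c : k) (φ : k ≃+* k), c ≠ 0 ∧ (∀ t, σ (xs hD r t) = xs hD s (c * φ t)) ∧
    ∀ t, σ (xs hD (D.neg r) t) = xs hD (D.neg s) (c⁻¹ * φ t)

variable {hD} {σ : MulAut ↥(D.group k)} {r s : ℕ}

theorem Act.inv (h : Act hD σ r s) : Act hD σ⁻¹ s r := by
  obtain ⟨hr, hs, c, φ, hc, h1, h2⟩ := h
  have key : ∀ (a b : ℕ) (d : k), d ≠ 0 → (∀ t, σ (xs hD a t) = xs hD b (d * φ t)) →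
      ∀ t, σ⁻¹ (xs hD b t) = xs hD a (φ.symm d⁻¹ * φ.symm t) := by
    intro a b d hd h t
    apply σ.injective
    rw [MulAut.apply_inv_self, h, map_mul, RingEquiv.apply_symm_apply, RingEquiv.apply_symm_apply,
      mul_inv_cancel_left₀ hd]
  refine ⟨hs, hr, φ.symm c⁻¹, φ.symm, ?_, key r s c hc h1, ?_⟩
  · rw [Ne, map_eq_zero_iff φ.symm φ.symm.injective]
    exact inv_ne_zero hc
  · have h3 := key _ _ c⁻¹ (inv_ne_zero hc) h2
    intro t
    rw [h3 t]
    congr 2
    rw [inv_inv, map_inv₀, inv_inv]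

theorem nG_neg (r : ℕ) (t : k) : nG hD r (-t) = (nG hD r t)⁻¹ := by
  rw [nG_def, nG_def, mul_inv_rev, mul_inv_rev, xG_inv, xG_inv, neg_neg, ← mul_assoc]
  congr 2
  rw [inv_neg, neg_neg]

/-- the image of `h_r(t)` -/
theorem Act.hG (h : Act hD σ r s) {t : k} (ht : t ≠ 0) (g : ↥(D.group k)) (hg : (g : GL D.Idx k) = hG hD r t) :
    (σ g : GL D.Idx k) ∈ D.diagonalSubgroup k := by
  obtain ⟨hr, hs, c, φ, hc, h1, h2⟩ := h
  have hn : ∀ (u : k) (g : ↥(D.group k)), (g : GL D.Idx k) = nG hD r u →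
      (σ g : GL D.Idx k) = nG hD s (c * φ u) := by
    intro u g hg
    have h3 : g = xs hD r u * (xs hD (D.neg r) (-u⁻¹) * xs hD r u) := by
      apply Subtype.ext
      rw [hg, nG_def]
      rfl
    rw [h3, map_mul, map_mul, h1, h2, nG_def, map_neg, map_inv₀]
    show xG hD s (c * φ u) * (xG hD (D.neg s) (c⁻¹ * -(φ u)⁻¹) * xG hD s (c * φ u)) = _
    rw [mul_inv, mul_neg]
  have hn1 : nG hD r t ∈ D.group k := nG_mem_group hD r t
  have hn2 : nG hD r (-1 : k) ∈ D.group k := nG_mem_group hD r _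
  have h4 : g = ⟨nG hD r t, hn1⟩ * ⟨nG hD r (-1 : k), hn2⟩ := by
    apply Subtype.ext
    rw [hg, hG_def]
    rfl
  rw [h4, map_mul, Subgroup.coe_mul, hn t _ rfl, hn (-1) _ rfl, map_neg, map_one, mul_neg, mul_one]
  have h5 : ∀ u : k, nG hD s u = Elts.hG hD s u * nG hD s 1 := by
    intro u
    rw [hG_def, nG_neg]
    group
  rw [nG_neg, h5 (c * φ t), h5 c, mul_inv_rev]
  have h6 : Elts.hG hD s (c * φ t) * nG hD s 1 * ((nG hD s 1)⁻¹ * (Elts.hG hD s c)⁻¹) =
      Elts.hG hD s (c * φ t) * (Elts.hG hD s c)⁻¹ := by group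
  rw [h6]
  exact mul_mem (hG_mem_diagonal hD hs (mul_ne_zero hc ((map_ne_zero φ).2 ht)))
    (inv_mem (hG_mem_diagonal hD hs hc))

theorem mem_TT_of_act (h : ∀ r < D.nroots, ∃ s, Act hD σ r s) {t : ↥(D.group k)} (ht : t ∈ TT D k) :
    σ t ∈ TT D k := by
  have h1 : D.diagonalSubgroup k ≤ (((D.diagonalSubgroup k).subgroupOf (D.group k)).comap σ.toMonoidHom).map
      (D.group k).subtype := by
    rw [diagonal_le_iff hD]
    intro r hr u hu
    obtain ⟨s, hs⟩ := h r hr
    have hm : Elts.hG hD r u ∈ D.group k := hG_mem_group hD r u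
    exact ⟨⟨Elts.hG hD r u, hm⟩, hs.hG hu _ rfl, rfl⟩
  obtain ⟨t', ht', e⟩ := h1 ht
  have h2 : t' = t := Subtype.ext e
  rw [← h2]
  exact ht'

variable {l : ℕ} {M : CoxeterMatrix (Fin l)} (hp : IsType D l M) {W : Type*} [Group W] (cs : CoxeterSystem M W)

include hp cs in
/-- **Frame automorphisms from the action on the root elements.** -/
theorem fr_of_act {g : (Fin l → ℤ) ≃+ (Fin l → ℤ)}
    (h : ∀ r < D.nroots, ∃ s, vec D l s = g (vec D l r) ∧ Act hp.inList σ r s)
    (h' : ∀ s < D.nroots, ∃ r, vec D l s = g (vec D l r) ∧ Act hp.inList σ r s) :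
    Fr cs hp.isCartan (TT D k) (XX D l k) σ g := by
  refine ⟨fun t => ⟨fun ht => ?_, fun ht => ?_⟩, fun a => ⟨fun ha => ?_, fun ha => ?_⟩, fun a ha y => ?_⟩
  · have h1 : σ⁻¹ (σ t) ∈ TT D k := by
      refine mem_TT_of_act (hD := hp.inList) (fun s hs => ?_) ht
      obtain ⟨r, -, hr⟩ := h' s hs
      exact ⟨r, hr.inv⟩
    rwa [MulAut.inv_apply_self] at h1
  · refine mem_TT_of_act (hD := hp.inList) (fun r hr => ?_) ht
    obtain ⟨s, -, hs⟩ := h r hr
    exact ⟨s, hs⟩
  · obtain ⟨s, hs, hsa⟩ := (isRoot_iff hp cs _).1 ha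
    obtain ⟨r, hr1, hr2⟩ := h' s hs
    rw [hsa] at hr1
    rw [g.injective hr1]
    exact (isRoot_iff hp cs _).2 ⟨r, hr2.1, rfl⟩
  · obtain ⟨r, hr, rfl⟩ := (isRoot_iff hp cs _).1 ha
    obtain ⟨s, hs1, hs2⟩ := h r hr
    exact (isRoot_iff hp cs _).2 ⟨s, hs2.2.1, hs1⟩
  · obtain ⟨r, hr, rfl⟩ := (isRoot_iff hp cs _).1 ha
    obtain ⟨s, hs1, -, hs, c, φ, hc, h1, -⟩ := h r hr
    rw [← hs1, mem_XX_vec hp hs, mem_XX_vec hp hr]
    constructor
    · rintro ⟨u, hu⟩
      refine ⟨φ.symm (c⁻¹ * u), ?_⟩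
      have h2 : σ y = σ (xs hp.inList r (φ.symm (c⁻¹ * u))) := by
        rw [h1, RingEquiv.apply_symm_apply, mul_inv_cancel_left₀ hc]
        exact Subtype.ext hu
      rw [σ.injective h2]
      rfl
    · rintro ⟨u, hu⟩
      refine ⟨c * φ u, ?_⟩
      have h2 : y = xs hp.inList r u := Subtype.ext hu
      rw [h2, h1]
      rfl

end Act

/-! ### field automorphisms -/

section Fld

variable {p e : ℕ} [Fact p.Prime] [CharP k p]

theorem coe_fld_frob {Φ : k ≃+* k} (hΦ : ∀ a, Φ a = a ^ p ^ e) (g : ↥(D.group k)) :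
    ((fld D Φ g : ↥(D.group k)) : GL D.Idx k) = frob p e (g : GL D.Idx k) := by
  apply co_injective
  funext ij
  rw [co_frob]
  exact hΦ _

theorem isFrob_fld {Φ : k ≃+* k} (hΦ : ∀ a, Φ a = a ^ p ^ e) : IsFrob p e (fld D Φ) :=
  ⟨1, fun g => by rw [coe_fld_frob hΦ, one_mul, inv_one, mul_one]⟩

theorem fld_xs (hD : InList D) (Φ : k ≃+* k) (r : ℕ) (t : k) : fld D Φ (xs hD r t) = xs hD r (Φ t) := by
  apply Subtype.ext
  apply Units.ext
  rw [fld_coe, coe_xs, coe_xs, coe_xG, coe_xG]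
  exact Cfsg.Agent.ChevStructure.FieldMap.x_map D (Φ : k →+* k) r t

theorem act_fld (hD : InList D) (Φ : k ≃+* k) {r : ℕ} (hr : r < D.nroots) : Act hD (fld D Φ) r r :=
  ⟨hr, hr, 1, Φ, one_ne_zero, fun t => by rw [fld_xs, one_mul], fun t => by rw [fld_xs, inv_one, one_mul]⟩

variable {l : ℕ} {M : CoxeterMatrix (Fin l)} (hp : IsType D l M) {W : Type*} [Group W] (cs : CoxeterSystem M W)

/-- **Field automorphisms are frame automorphisms.** -/
theorem fr_fld (Φ : k ≃+* k) :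
    Fr cs hp.isCartan (TT D k) (XX D l k) (fld D Φ) (AddEquiv.refl (Fin l → ℤ)) :=
  fr_of_act hp cs (fun r hr => ⟨r, rfl, act_fld hp.inList Φ hr⟩) (fun s hs => ⟨s, rfl, act_fld hp.inList Φ hs⟩)

end Fld

/-! ### graph automorphisms -/

section Graph

variable (S : Symm D) {γ : MulAut ↥(D.group k)}

theorem isFrob_symm {p : ℕ} [Fact p.Prime] [CharP k p]
    (hγ : ∀ g, ((γ g : ↥(D.group k)) : GL D.Idx k) = S.P k * g * (S.P k)⁻¹) : IsFrob p 0 γ :=
  ⟨S.P k, fun g => by rw [hγ, frob_zero]⟩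

theorem isFrob_symm_fld {p e : ℕ} [Fact p.Prime] [CharP k p]
    (hγ : ∀ g, ((γ g : ↥(D.group k)) : GL D.Idx k) = S.P k * g * (S.P k)⁻¹) {Φ : k ≃+* k}
    (hΦ : ∀ a, Φ a = a ^ p ^ e) : IsFrob p e (γ * fld D Φ) := by
  have h1 := (isFrob_symm S (p := p) hγ).mul (isFrob_fld (D := D) hΦ)
  rwa [zero_add] at h1

theorem act_symm (hD : InList D) (hγ : ∀ g, ((γ g : ↥(D.group k)) : GL D.Idx k) = S.P k * g * (S.P k)⁻¹)
    (hneg : ∀ r < D.nroots, D.neg r < D.nroots) (r : Fin D.nroots) : Act hD γ r (S.σ r) := by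
  have key : ∀ (r : Fin D.nroots) (t : k), γ (xs hD r t) = xs hD (S.σ r).val (((S.ε r : ℤ) : k) * t) := by
    intro r t
    apply Subtype.ext
    rw [hγ]
    apply Units.ext
    rw [Units.val_mul, Units.val_mul, S.coe_P_inv, S.coe_P, coe_xs, coe_xs, coe_xG, coe_xG, S.mat_conj_x]
  have hε : ((S.ε r : ℤ) : k) * ((S.ε r : ℤ) : k) = 1 := by rw [← Int.cast_mul, S.ε_sq, Int.cast_one]
  have hε0 : ((S.ε r : ℤ) : k) ≠ 0 := fun h0 => by
    rw [h0, mul_zero] at hε
    exact zero_ne_one hε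
  refine ⟨r.2, (S.σ r).2, ((S.ε r : ℤ) : k), RingEquiv.refl k, hε0, fun t => ?_, fun t => ?_⟩
  · rw [key]
    rfl
  · have hn := hneg r r.2
    have h1 := key ⟨D.neg r, hn⟩ t
    have h2 : (S.σ ⟨D.neg r, hn⟩).val = D.neg (S.σ r) := (S.neg_iff r ⟨D.neg r, hn⟩).2 rfl
    have h3 : S.ε ⟨D.neg r, hn⟩ = S.ε r := S.ε_neg r ⟨D.neg r, hn⟩ rfl
    rw [h2, h3] at h1
    refine h1.trans ?_
    rw [inv_eq_of_mul_eq_one_right hε]
    rfl

variable {l : ℕ} {M : CoxeterMatrix (Fin l)} (hp : IsType D l M) {W : Type*} [Group W] (cs : CoxeterSystem M W)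

/-- the automorphism of the root lattice given by a permutation of the fundamental roots -/
def latt {l : ℕ} (π : Equiv.Perm (Fin l)) : (Fin l → ℤ) ≃+ (Fin l → ℤ) where
  toFun v i := v (π i)
  invFun v i := v (π.symm i)
  left_inv v := by funext i; simp
  right_inv v := by funext i; simp
  map_add' v w := rfl

@[simp] theorem latt_apply {l : ℕ} (π : Equiv.Perm (Fin l)) (v : Fin l → ℤ) (i : Fin l) : latt π v i = v (π i) := rfl

include hp in
/-- **Graph automorphisms are frame automorphisms.** -/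
theorem fr_symm (hγ : ∀ g, ((γ g : ↥(D.group k)) : GL D.Idx k) = S.P k * g * (S.P k)⁻¹)
    (π : Equiv.Perm (Fin l)) (hπ : ∀ (r : Fin D.nroots) (i : Fin l), vec D l (S.σ r) i = vec D l r (π i)) :
    Fr cs hp.isCartan (TT D k) (XX D l k) γ (latt π) := by
  have hneg : ∀ r < D.nroots, D.neg r < D.nroots := fun r hr => neg_lt hp.inList hr
  refine fr_of_act hp cs (fun r hr => ⟨S.σ ⟨r, hr⟩, ?_, act_symm S hp.inList hγ hneg ⟨r, hr⟩⟩) (fun s hs => ?_)
  · funext i
    exact hπ ⟨r, hr⟩ i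
  · have h1 := act_symm S hp.inList hγ hneg (S.σ.symm ⟨s, hs⟩)
    rw [Equiv.apply_symm_apply] at h1
    refine ⟨_, ?_, h1⟩
    funext i
    have h2 := hπ (S.σ.symm ⟨s, hs⟩) i
    rw [Equiv.apply_symm_apply] at h2
    exact h2

end Graph

/-! ### the instances -/

/-- the graph automorphism of `E₆` -/
theorem piE6 : ∀ (r : Fin chevE6.nroots) (i : Fin 6),
    vec chevE6 6 (symmE6.σ r) i = vec chevE6 6 r (symmE6.σ₀.symm i) := by decide +kernel

/-- the graph automorphism of order three of `D₄` -/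
theorem piD4 : ∀ (r : Fin chevD4.nroots) (i : Fin 4),
    vec chevD4 4 (symmD4a.σ r) i = vec chevD4 4 r (symmD4a.σ₀.symm i) := by decide +kernel

theorem fr_E6 {γ : MulAut ↥(chevE6.group k)}
    (hγ : ∀ g, ((γ g : ↥(chevE6.group k)) : GL chevE6.Idx k) = symmE6.P k * g * (symmE6.P k)⁻¹)
    {W : Type*} [Group W] (cs : CoxeterSystem CoxeterMatrix.E₆ W) :
    Fr cs Nodes.RGDTwE6.hp.isCartan (TT chevE6 k) (XX chevE6 6 k) γ (latt symmE6.σ₀.symm) :=
  fr_symm symmE6 Nodes.RGDTwE6.hp cs hγ symmE6.σ₀.symm piE6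

theorem fr_D4 {γ : MulAut ↥(chevD4.group k)}
    (hγ : ∀ g, ((γ g : ↥(chevD4.group k)) : GL chevD4.Idx k) = symmD4a.P k * g * (symmD4a.P k)⁻¹)
    {W : Type*} [Group W] (cs : CoxeterSystem coxeterD4 W) :
    Fr cs Nodes.RGDTwD4.hp.isCartan (TT chevD4 k) (XX chevD4 4 k) γ (latt symmD4a.σ₀.symm) :=
  fr_symm symmD4a Nodes.RGDTwD4.hp cs hγ symmD4a.σ₀.symm piD4

end Cfsg.Agent.H666.SigFr
end

-- part: H696/GmnNeg
section
set_option linter.all false
open scoped Cfsg.Agent.FastGrp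

/-!
# `-1` in the Weyl groups of `G₂`, `F₄`, `D₄`, `E₇`, `E₈`

`neg_of_tab` : if the matrix of `w` on the simple roots is `-1`, then `w` maps every root to its opposite; the
half power of the Coxeter element.
-/

set_option autoImplicit false

namespace Cfsg.Agent.H696.GmnNeg

open CoxeterSystem Cfsg Cfsg.Lie Cfsg.Lie.ChevalleyDatum
open Cfsg.Agent.ChevalleyStructure Cfsg.Agent.ChevalleyStructure.Elts Cfsg.Agent.ChevalleyStructure.CoxeterGeom
  Cfsg.Agent.ChevalleyStructure.CoxeterGeomTypes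
open Cfsg.Agent.Tits.Roots Cfsg.Agent.Tits.Core Cfsg.Agent.Nodes.RGDChev

section Tab

variable {l : ℕ} {W : Type*} [Group W] {M : CoxeterMatrix (Fin l)} (cs : CoxeterSystem M W)
  {A : Fin l → Fin l → ℤ} (h : IsCartan M A)

/-- `P` is the matrix of `w` on the simple roots: row `i` is the image of `α_i`. -/
def Tab (w : W) (P : Fin l → Fin l → ℤ) : Prop := ∀ i, rep cs h w (sr i) = P i

variable {cs h}

theorem Tab.apply {w : W} {P : Fin l → Fin l → ℤ} (hw : Tab cs h w P) (x : Fin l → ℤ) :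
    rep cs h w x = fun m => ∑ j, x j * P j m := by
  have h1 : x = ∑ j, x j • sr j := by
    funext m
    rw [Finset.sum_apply, Finset.sum_eq_single m]
    · rw [Pi.smul_apply, sr_self, smul_eq_mul, mul_one]
    · intro b _ hb
      rw [Pi.smul_apply, sr_ne (Ne.symm hb), smul_zero]
    · intro h; exact absurd (Finset.mem_univ m) h
  conv_lhs => rw [h1]
  rw [map_sum]
  funext m
  rw [Finset.sum_apply]
  refine Finset.sum_congr rfl fun j _ => ?_
  rw [map_smul, hw j, Pi.smul_apply, smul_eq_mul]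

/-- the product of two tables -/
def mulT (P Q : Fin l → Fin l → ℤ) : Fin l → Fin l → ℤ := fun i m => ∑ j, P i j * Q j m

/-- the table `-1` -/
def negT (l : ℕ) : Fin l → Fin l → ℤ := fun i m => if i = m then -1 else 0

theorem Tab.mul {w w' : W} {P Q : Fin l → Fin l → ℤ} (hw : Tab cs h w P) (hw' : Tab cs h w' Q) :
    Tab cs h (w * w') (mulT Q P) := by
  intro i
  rw [rep_mul_apply, hw' i, hw.apply]
  rfl

variable (cs h) in
theorem neg_of_tab {w : W} (hw : Tab cs h w (negT l)) : ∃ w : W, ∀ a, IsRoot cs h a → rep cs h w a = -a := by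
  refine ⟨w, fun a _ => ?_⟩
  rw [hw.apply]
  funext m
  rw [Finset.sum_eq_single m]
  · rw [negT, if_pos rfl, mul_neg_one, Pi.neg_apply]
  · intro b _ hb
    rw [negT, if_neg hb, mul_zero]
  · intro h; exact absurd (Finset.mem_univ m) h

/-- the reflection in the simple root `i` -/
def rf (A : Fin l → Fin l → ℤ) (i : Fin l) (x : Fin l → ℤ) : Fin l → ℤ :=
  fun m => if m = i then x m - ∑ k, A i k * x k else x m

/-- the product of the reflections of a word -/
def word (A : Fin l → Fin l → ℤ) (ω : List (Fin l)) (x : Fin l → ℤ) : Fin l → ℤ := ω.foldr (rf A) x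

theorem rep_eq_rf (i : Fin l) (x : Fin l → ℤ) : rep cs h (cs.simple i) x = rf A i x := by
  funext m
  rw [rep_simple_eq]
  by_cases hm : m = i
  · subst hm
    rw [Pi.sub_apply, Pi.smul_apply, sr_self, smul_eq_mul, mul_one, rf, if_pos rfl]
    rfl
  · rw [Pi.sub_apply, Pi.smul_apply, sr_ne hm, smul_zero, sub_zero, rf, if_neg hm]

theorem rep_word (ω : List (Fin l)) (x : Fin l → ℤ) : rep cs h (cs.wordProd ω) x = word A ω x := by
  induction ω with
  | nil => rw [wordProd_nil, map_one, Module.End.one_apply]; rfl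
  | cons i ω ih =>
    rw [wordProd_cons, rep_mul_apply, ih, rep_eq_rf]
    rfl

variable (cs h) in
theorem tab_word {ω : List (Fin l)} {A' : Fin l → Fin l → ℤ} {P : Fin l → Fin l → ℤ} (hA : A = A')
    (hω : ∀ i m, word A' ω (Pi.single i 1) m = P i m) : Tab cs h (cs.wordProd ω) P := by
  subst hA
  intro i
  rw [rep_word]
  funext m
  exact hω i m

end Tab

/-! ### `G2` -/

section G2

def AG2 : Fin 2 → Fin 2 → ℤ :=
  ![![2, -3], ![-1, 2]]

def CG2 : Fin 2 → Fin 2 → ℤ :=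
  ![![2, 1], ![-3, -1]]

theorem cartanG2 : cartanOf chevG2 2 = AG2 := by decide +kernel

theorem coxG2 (i m : Fin 2) : word AG2 [0, 1] (Pi.single i 1) m = CG2 i m := by
  revert i m
  decide +kernel

def CG22 : Fin 2 → Fin 2 → ℤ :=
  ![![1, 1], ![-3, -2]]

theorem CG22_eq : CG22 = mulT CG2 CG2 := by decide +kernel

theorem CG2_fin : mulT CG22 CG2 = negT 2 := by decide +kernel

theorem negG2 {W : Type*} [Group W] (hp : IsType chevG2 2 CoxeterMatrix.G₂) (cs : CoxeterSystem CoxeterMatrix.G₂ W) :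
    ∃ w : W, ∀ a, IsRoot cs hp.isCartan a → rep cs hp.isCartan w a = -a := by
  refine neg_of_tab cs hp.isCartan (w := (cs.wordProd [0, 1]) ^ 3) ?_
  have h1 : Tab cs hp.isCartan (cs.wordProd [0, 1]) CG2 :=
    tab_word cs hp.isCartan cartanG2 coxG2
  have h2 : Tab cs hp.isCartan ((cs.wordProd [0, 1]) ^ 2) CG22 := by
    rw [CG22_eq, pow_two]; exact h1.mul h1
  have g3 : Tab cs hp.isCartan ((cs.wordProd [0, 1]) ^ 3) (negT 2) := by
    have := h1.mul h2; rwa [← pow_succ', CG2_fin] at this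
  exact g3

end G2

/-! ### `F4` -/

section F4

def AF4 : Fin 4 → Fin 4 → ℤ :=
  ![![2, -1, 0, 0], ![-1, 2, -2, 0], ![0, -1, 2, -1], ![0, 0, -1, 2]]

def CF4 : Fin 4 → Fin 4 → ℤ :=
  ![![0, 1, 0, 0], ![1, 1, 1, 0], ![0, 0, 0, 1], ![-2, -2, -1, -1]]

theorem cartanF4 : cartanOf chevF4 4 = AF4 := by decide +kernel

theorem coxF4 (i m : Fin 4) : word AF4 [0, 1, 2, 3] (Pi.single i 1) m = CF4 i m := by
  revert i m
  decide +kernel

def CF42 : Fin 4 → Fin 4 → ℤ :=
  ![![1, 1, 1, 0], ![1, 2, 1, 1], ![-2, -2, -1, -1], ![0, -2, -1, 0]]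

theorem CF42_eq : CF42 = mulT CF4 CF4 := by decide +kernel

def CF44 : Fin 4 → Fin 4 → ℤ :=
  ![![0, 1, 1, 0], ![1, 1, 1, 1], ![-2, -2, -2, -1], ![0, -2, -1, -1]]

theorem CF44_eq : CF44 = mulT CF42 CF42 := by decide +kernel

theorem CF4_fin : mulT CF44 CF42 = negT 4 := by decide +kernel

theorem negF4 {W : Type*} [Group W] (hp : IsType chevF4 4 CoxeterMatrix.F₄) (cs : CoxeterSystem CoxeterMatrix.F₄ W) :
    ∃ w : W, ∀ a, IsRoot cs hp.isCartan a → rep cs hp.isCartan w a = -a := by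
  refine neg_of_tab cs hp.isCartan (w := (cs.wordProd [0, 1, 2, 3]) ^ 6) ?_
  have h1 : Tab cs hp.isCartan (cs.wordProd [0, 1, 2, 3]) CF4 :=
    tab_word cs hp.isCartan cartanF4 coxF4
  have h2 : Tab cs hp.isCartan ((cs.wordProd [0, 1, 2, 3]) ^ 2) CF42 := by
    rw [CF42_eq, pow_two]; exact h1.mul h1
  have h4 : Tab cs hp.isCartan ((cs.wordProd [0, 1, 2, 3]) ^ 4) CF44 := by
    have := h2.mul h2; rwa [← pow_add, ← CF44_eq] at this
  have g6 : Tab cs hp.isCartan ((cs.wordProd [0, 1, 2, 3]) ^ 6) (negT 4) := by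
    have := h2.mul h4; rwa [← pow_add, CF4_fin] at this
  exact g6

end F4

/-! ### `D4` -/

section D4

def AD4 : Fin 4 → Fin 4 → ℤ :=
  ![![2, -1, 0, 0], ![-1, 2, -1, -1], ![0, -1, 2, 0], ![0, -1, 0, 2]]

def CD4 : Fin 4 → Fin 4 → ℤ :=
  ![![0, 1, 0, 0], ![1, 1, 1, 1], ![-1, -1, -1, 0], ![-1, -1, 0, -1]]

theorem cartanD4 : cartanOf chevD4 4 = AD4 := by decide +kernel

theorem coxD4 (i m : Fin 4) : word AD4 [0, 1, 2, 3] (Pi.single i 1) m = CD4 i m := by
  revert i m
  decide +kernel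

def CD42 : Fin 4 → Fin 4 → ℤ :=
  ![![1, 1, 1, 1], ![-1, 0, 0, 0], ![0, -1, 0, -1], ![0, -1, -1, 0]]

theorem CD42_eq : CD42 = mulT CD4 CD4 := by decide +kernel

theorem CD4_fin : mulT CD42 CD4 = negT 4 := by decide +kernel

theorem negD4 {W : Type*} [Group W] (hp : IsType chevD4 4 coxeterD4) (cs : CoxeterSystem coxeterD4 W) :
    ∃ w : W, ∀ a, IsRoot cs hp.isCartan a → rep cs hp.isCartan w a = -a := by
  refine neg_of_tab cs hp.isCartan (w := (cs.wordProd [0, 1, 2, 3]) ^ 3) ?_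
  have h1 : Tab cs hp.isCartan (cs.wordProd [0, 1, 2, 3]) CD4 :=
    tab_word cs hp.isCartan cartanD4 coxD4
  have h2 : Tab cs hp.isCartan ((cs.wordProd [0, 1, 2, 3]) ^ 2) CD42 := by
    rw [CD42_eq, pow_two]; exact h1.mul h1
  have g3 : Tab cs hp.isCartan ((cs.wordProd [0, 1, 2, 3]) ^ 3) (negT 4) := by
    have := h1.mul h2; rwa [← pow_succ', CD4_fin] at this
  exact g3

end D4

/-! ### `E7` -/

section E7

def AE7 : Fin 7 → Fin 7 → ℤ :=
  ![![2, 0, -1, 0, 0, 0, 0], ![0, 2, 0, -1, 0, 0, 0], ![-1, 0, 2, -1, 0, 0, 0], ![0, -1, -1, 2, -1, 0, 0], ![0, 0, 0, -1, 2, -1, 0], ![0, 0, 0, 0, -1, 2, -1], ![0, 0, 0, 0, 0, -1, 2]]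

def CE7 : Fin 7 → Fin 7 → ℤ :=
  ![![0, 0, 1, 0, 0, 0, 0], ![1, 0, 1, 1, 0, 0, 0], ![0, 1, 0, 1, 0, 0, 0], ![0, 0, 0, 0, 1, 0, 0], ![0, 0, 0, 0, 0, 1, 0], ![0, 0, 0, 0, 0, 0, 1], ![-1, -1, -1, -1, -1, -1, -1]]

theorem cartanE7 : cartanOf chevE7 7 = AE7 := by decide +kernel

theorem coxE7 (i m : Fin 7) : word AE7 [0, 1, 2, 3, 4, 5, 6] (Pi.single i 1) m = CE7 i m := by
  revert i m
  decide +kernel

def CE72 : Fin 7 → Fin 7 → ℤ :=
  ![![0, 1, 0, 1, 0, 0, 0], ![0, 1, 1, 1, 1, 0, 0], ![1, 0, 1, 1, 1, 0, 0], ![0, 0, 0, 0, 0, 1, 0], ![0, 0, 0, 0, 0, 0, 1], ![-1, -1, -1, -1, -1, -1, -1], ![0, 0, -1, -1, 0, 0, 0]]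

theorem CE72_eq : CE72 = mulT CE7 CE7 := by decide +kernel

def CE74 : Fin 7 → Fin 7 → ℤ :=
  ![![0, 1, 1, 1, 1, 1, 0], ![1, 1, 2, 2, 2, 1, 1], ![1, 1, 1, 2, 1, 1, 1], ![-1, -1, -1, -1, -1, -1, -1], ![0, 0, -1, -1, 0, 0, 0], ![0, -1, 0, -1, -1, 0, 0], ![-1, 0, -1, -1, -1, -1, 0]]

theorem CE74_eq : CE74 = mulT CE72 CE72 := by decide +kernel

def CE78 : Fin 7 → Fin 7 → ℤ :=
  ![![1, 0, 1, 1, 1, 1, 1], ![0, 1, 0, 1, 1, 1, 1], ![-1, 0, 0, 0, 0, 0, 0], ![0, -1, -1, -1, -1, -1, -1], ![0, 0, 0, -1, 0, 0, 0], ![0, 0, 0, 0, -1, 0, 0], ![0, 0, 0, 0, 0, -1, 0]]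

theorem CE78_eq : CE78 = mulT CE74 CE74 := by decide +kernel

theorem CE7_fin : mulT CE78 CE7 = negT 7 := by decide +kernel

theorem negE7 {W : Type*} [Group W] (hp : IsType chevE7 7 CoxeterMatrix.E₇) (cs : CoxeterSystem CoxeterMatrix.E₇ W) :
    ∃ w : W, ∀ a, IsRoot cs hp.isCartan a → rep cs hp.isCartan w a = -a := by
  refine neg_of_tab cs hp.isCartan (w := (cs.wordProd [0, 1, 2, 3, 4, 5, 6]) ^ 9) ?_
  have h1 : Tab cs hp.isCartan (cs.wordProd [0, 1, 2, 3, 4, 5, 6]) CE7 :=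
    tab_word cs hp.isCartan cartanE7 coxE7
  have h2 : Tab cs hp.isCartan ((cs.wordProd [0, 1, 2, 3, 4, 5, 6]) ^ 2) CE72 := by
    rw [CE72_eq, pow_two]; exact h1.mul h1
  have h4 : Tab cs hp.isCartan ((cs.wordProd [0, 1, 2, 3, 4, 5, 6]) ^ 4) CE74 := by
    have := h2.mul h2; rwa [← pow_add, ← CE74_eq] at this
  have h8 : Tab cs hp.isCartan ((cs.wordProd [0, 1, 2, 3, 4, 5, 6]) ^ 8) CE78 := by
    have := h4.mul h4; rwa [← pow_add, ← CE78_eq] at this
  have g9 : Tab cs hp.isCartan ((cs.wordProd [0, 1, 2, 3, 4, 5, 6]) ^ 9) (negT 7) := by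
    have := h1.mul h8; rwa [← pow_succ', CE7_fin] at this
  exact g9

end E7

/-! ### `E8` -/

section E8

def AE8 : Fin 8 → Fin 8 → ℤ :=
  ![![2, 0, -1, 0, 0, 0, 0, 0], ![0, 2, 0, -1, 0, 0, 0, 0], ![-1, 0, 2, -1, 0, 0, 0, 0], ![0, -1, -1, 2, -1, 0, 0, 0], ![0, 0, 0, -1, 2, -1, 0, 0], ![0, 0, 0, 0, -1, 2, -1, 0], ![0, 0, 0, 0, 0, -1, 2, -1], ![0, 0, 0, 0, 0, 0, -1, 2]]

def CE8 : Fin 8 → Fin 8 → ℤ :=
  ![![0, 0, 1, 0, 0, 0, 0, 0], ![1, 0, 1, 1, 0, 0, 0, 0], ![0, 1, 0, 1, 0, 0, 0, 0], ![0, 0, 0, 0, 1, 0, 0, 0], ![0, 0, 0, 0, 0, 1, 0, 0], ![0, 0, 0, 0, 0, 0, 1, 0], ![0, 0, 0, 0, 0, 0, 0, 1], ![-1, -1, -1, -1, -1, -1, -1, -1]]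

theorem cartanE8 : cartanOf chevE8 8 = AE8 := by decide +kernel

theorem coxE8 (i m : Fin 8) : word AE8 [0, 1, 2, 3, 4, 5, 6, 7] (Pi.single i 1) m = CE8 i m := by
  revert i m
  decide +kernel

def CE82 : Fin 8 → Fin 8 → ℤ :=
  ![![0, 1, 0, 1, 0, 0, 0, 0], ![0, 1, 1, 1, 1, 0, 0, 0], ![1, 0, 1, 1, 1, 0, 0, 0], ![0, 0, 0, 0, 0, 1, 0, 0], ![0, 0, 0, 0, 0, 0, 1, 0], ![0, 0, 0, 0, 0, 0, 0, 1], ![-1, -1, -1, -1, -1, -1, -1, -1], ![0, 0, -1, -1, 0, 0, 0, 0]]

theorem CE82_eq : CE82 = mulT CE8 CE8 := by decide +kernel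

def CE84 : Fin 8 → Fin 8 → ℤ :=
  ![![0, 1, 1, 1, 1, 1, 0, 0], ![1, 1, 2, 2, 2, 1, 1, 0], ![1, 1, 1, 2, 1, 1, 1, 0], ![0, 0, 0, 0, 0, 0, 0, 1], ![-1, -1, -1, -1, -1, -1, -1, -1], ![0, 0, -1, -1, 0, 0, 0, 0], ![0, -1, 0, -1, -1, 0, 0, 0], ![-1, 0, -1, -1, -1, -1, 0, 0]]

theorem CE84_eq : CE84 = mulT CE82 CE82 := by decide +kernel

def CE88 : Fin 8 → Fin 8 → ℤ :=
  ![![1, 1, 1, 2, 2, 1, 1, 0], ![1, 1, 2, 3, 2, 2, 1, 0], ![1, 1, 2, 2, 2, 2, 1, 1], ![-1, 0, -1, -1, -1, -1, 0, 0], ![0, -1, -1, -1, -1, -1, -1, 0], ![-1, -1, -1, -2, -1, -1, -1, -1], ![0, 0, -1, -1, -1, 0, 0, 0], ![0, -1, 0, -1, -1, -1, 0, 0]]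

theorem CE88_eq : CE88 = mulT CE84 CE84 := by decide +kernel

def CE812 : Fin 8 → Fin 8 → ℤ :=
  ![![0, 0, 1, 1, 1, 1, 0, 0], ![1, 1, 1, 2, 2, 2, 1, 1], ![0, 1, 0, 1, 1, 1, 1, 0], ![0, -1, 0, -1, -1, -1, 0, 0], ![-1, 0, -1, -1, -1, -1, -1, 0], ![0, -1, -1, -1, -1, -1, -1, -1], ![0, 0, 0, -1, 0, 0, 0, 0], ![0, 0, 0, 0, -1, 0, 0, 0]]

theorem CE812_eq : CE812 = mulT CE88 CE84 := by decide +kernel

def CE814 : Fin 8 → Fin 8 → ℤ :=
  ![![1, 0, 1, 1, 1, 1, 1, 1], ![0, 1, 0, 1, 1, 1, 1, 1], ![-1, 0, 0, 0, 0, 0, 0, 0], ![0, -1, -1, -1, -1, -1, -1, -1], ![0, 0, 0, -1, 0, 0, 0, 0], ![0, 0, 0, 0, -1, 0, 0, 0], ![0, 0, 0, 0, 0, -1, 0, 0], ![0, 0, 0, 0, 0, 0, -1, 0]]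

theorem CE814_eq : CE814 = mulT CE812 CE82 := by decide +kernel

theorem CE8_fin : mulT CE814 CE8 = negT 8 := by decide +kernel

theorem negE8 {W : Type*} [Group W] (hp : IsType chevE8 8 CoxeterMatrix.E₈) (cs : CoxeterSystem CoxeterMatrix.E₈ W) :
    ∃ w : W, ∀ a, IsRoot cs hp.isCartan a → rep cs hp.isCartan w a = -a := by
  refine neg_of_tab cs hp.isCartan (w := (cs.wordProd [0, 1, 2, 3, 4, 5, 6, 7]) ^ 15) ?_
  have h1 : Tab cs hp.isCartan (cs.wordProd [0, 1, 2, 3, 4, 5, 6, 7]) CE8 :=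
    tab_word cs hp.isCartan cartanE8 coxE8
  have h2 : Tab cs hp.isCartan ((cs.wordProd [0, 1, 2, 3, 4, 5, 6, 7]) ^ 2) CE82 := by
    rw [CE82_eq, pow_two]; exact h1.mul h1
  have h4 : Tab cs hp.isCartan ((cs.wordProd [0, 1, 2, 3, 4, 5, 6, 7]) ^ 4) CE84 := by
    have := h2.mul h2; rwa [← pow_add, ← CE84_eq] at this
  have h8 : Tab cs hp.isCartan ((cs.wordProd [0, 1, 2, 3, 4, 5, 6, 7]) ^ 8) CE88 := by
    have := h4.mul h4; rwa [← pow_add, ← CE88_eq] at this
  have g12 : Tab cs hp.isCartan ((cs.wordProd [0, 1, 2, 3, 4, 5, 6, 7]) ^ 12) CE812 := by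
    have := h4.mul h8; rwa [← pow_add, ← CE812_eq] at this
  have g14 : Tab cs hp.isCartan ((cs.wordProd [0, 1, 2, 3, 4, 5, 6, 7]) ^ 14) CE814 := by
    have := h2.mul g12; rwa [← pow_add, ← CE814_eq] at this
  have g15 : Tab cs hp.isCartan ((cs.wordProd [0, 1, 2, 3, 4, 5, 6, 7]) ^ 15) (negT 8) := by
    have := h1.mul g14; rwa [← pow_succ', CE8_fin] at this
  exact g15

end E8

end Cfsg.Agent.H696.GmnNeg

private theorem dce_fd4820cecf36 : _root_.True := by
  try have : _root_.True := by simp only [_root_.Cfsg.Agent.H696.GmnNeg.negT.eq_1]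
  try have : _root_.True := by simp only [_root_.Cfsg.Agent.H696.GmnNeg.rf.eq_1]
  exact _root_.True.intro
end

-- part: H944/Tab
section
prune_inst 0x3430454075e2000800182090930002247400059000200c003ce10d42010f73208443a0014f001d015a0c92001801000000100000400000000a00300000070521800852049708030c6e0099801187180c00000000000000000000000000041004200000000
set_option linter.all false
open scoped Cfsg.Agent.FastGrp

-- part: H944/Kac
section
/-!
# Kac coordinates (helper944)

`D` one of the tabulated types of rank `l`. A property of the vectors `Fin l → ZMod N` of root values invariant under the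
simple reflections and true somewhere is true for the residues of a vector `y` of natural numbers with `θ y ≤ N`,
`θ` the highest root (`exists_alcove`).
-/

set_option autoImplicit false
set_option linter.unusedSectionVars false

namespace Cfsg.Agent.H944.Kac

open Cfsg.Agent.ChevalleyStructure.CoxeterGeom Cfsg.Agent.Tits.Roots
  Cfsg.Agent.Nodes.RGDChev
open Cfsg.Lie Cfsg.Agent.ChevalleyStructure Cfsg.Agent.ChevalleyStructure.Elts
  Cfsg.Agent.ChevalleyStructure.RootVec Cfsg.Agent.ChevalleyStructure.RootVecTab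
  Cfsg.Agent.ChevalleyStructure.NPerm Cfsg.Agent.ChevalleyStructure.CoxeterGeomTypes
open Cfsg.Agent.H944.RootVals

variable {D : ChevalleyDatum} {l : ℕ} {M : CoxeterMatrix (Fin l)} (hp : IsType D l M)

/-- The value of the root `s` on the vector `v`. -/
def rv (D : ChevalleyDatum) (l : ℕ) {R : Type*} [CommRing R] (v : Fin l → R) (s : ℕ) : R :=
  ∑ i, (vec D l s i : R) * v i

theorem ms_eq {R : Type*} [CommRing R] (v : Fin l → R) :
    ms D l v = (Finset.univ : Finset (Fin D.nroots)).val.map fun s : Fin D.nroots => rv D l v s := rfl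

/-- The simple reflections on the vectors of values on the simple roots. -/
def srefl (D : ChevalleyDatum) (l : ℕ) {R : Type*} [CommRing R] (j : Fin l) (v : Fin l → R) : Fin l → R :=
  fun i => v i - (cartanOf D l j i : R) * v j

include hp in
theorem vec_reflect (j : Fin l) {r : ℕ} (hr : r < D.nroots) (i : Fin l) :
    vec D l (D.reflectRoot j r) i = vec D l r i - pairing (cartanOf D l) j (vec D l r) * (sr j : Fin l → ℤ) i := by
  rw [pairing_vec hp j hr, vec_apply, vec_apply, (reflectRoot_rt hp.checked (lt_rank hp j) hr).2]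
  by_cases hj : i = j
  · subst hj; rw [sr_self, if_pos rfl, mul_one]
  · rw [sr_ne hj, if_neg (fun h => hj (Fin.ext h)), mul_zero]

include hp in
theorem rv_srefl {R : Type*} [CommRing R] (j : Fin l) (v : Fin l → R) {r : ℕ} (hr : r < D.nroots) :
    rv D l (srefl D l j v) r = rv D l v (D.reflectRoot j r) := by
  unfold rv srefl
  have h1 : ∀ i, ((vec D l (D.reflectRoot j r) i : ℤ) : R) * v i = (vec D l r i : R) * v i -
      ((pairing (cartanOf D l) j (vec D l r) : ℤ) : R) * (((sr j : Fin l → ℤ) i : R) * v i) := by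
    intro i
    rw [vec_reflect hp j hr]
    push_cast
    ring
  simp only [h1, mul_sub]
  rw [Finset.sum_sub_distrib, Finset.sum_sub_distrib, ← Finset.mul_sum]
  congr 1
  rw [Finset.sum_eq_single (f := fun i => (((sr j : Fin l → ℤ) i : ℤ) : R) * v i) j
    (fun i _ hij => by rw [sr_ne hij, Int.cast_zero, zero_mul])
    (fun h => absurd (Finset.mem_univ j) h), sr_self, Int.cast_one, one_mul]
  unfold pairing
  push_cast
  rw [Finset.sum_mul]
  refine Finset.sum_congr rfl fun i _ => ?_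
  ring

include hp in
/-- the permutation of the roots given by a simple reflection -/
theorem reflect_bij (j : Fin l) : Function.Bijective
    (fun s : Fin D.nroots => (⟨D.reflectRoot j s, reflectRoot_lt hp.inList (lt_rank hp j) s.2⟩ : Fin D.nroots)) := by
  rw [Finite.injective_iff_bijective.symm]
  intro s t hst
  have h0 : D.reflectRoot j s = D.reflectRoot j t := congrArg Fin.val hst
  have hpr : ∀ s : Fin D.nroots, pairing (cartanOf D l) j (vec D l (D.reflectRoot j s)) =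
      - pairing (cartanOf D l) j (vec D l s) := by
    intro s
    have h1 : ∀ k, cartanOf D l j k * vec D l (D.reflectRoot j s) k = cartanOf D l j k * vec D l s k -
        pairing (cartanOf D l) j (vec D l s) * (cartanOf D l j k * (sr j : Fin l → ℤ) k) := by
      intro k
      rw [vec_reflect hp j s.2]
      ring
    conv_lhs => unfold pairing
    simp only [h1]
    rw [Finset.sum_sub_distrib, ← Finset.mul_sum,
      Finset.sum_eq_single (f := fun k => cartanOf D l j k * (sr j : Fin l → ℤ) k) j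
      (fun i _ hij => by rw [sr_ne hij, mul_zero])
      (fun h => absurd (Finset.mem_univ j) h), sr_self, hp.isCartan.diag]
    have h2 : ∑ k, cartanOf D l j k * vec D l s k = pairing (cartanOf D l) j (vec D l s) := rfl
    rw [h2]
    ring
  have h2 : pairing (cartanOf D l) j (vec D l s) = pairing (cartanOf D l) j (vec D l t) := by
    have := hpr s
    rw [h0, hpr t] at this
    linarith only [this]
  apply Fin.ext
  refine vec_inj hp s.2 t.2 ?_
  funext i
  have h3 := vec_reflect hp j s.2 i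
  rw [h0, vec_reflect hp j t.2 i, h2] at h3
  linarith only [h3]

include hp in
/-- the multiset of root values is invariant under the simple reflections -/
theorem ms_srefl {R : Type*} [CommRing R] (j : Fin l) (v : Fin l → R) :
    ms D l (srefl D l j v) = ms D l v := by
  rw [ms_eq, ms_eq]
  have h1 := Multiset.map_univ_val_equiv (Equiv.ofBijective _ (reflect_bij hp j))
  conv_rhs => rw [← h1, Multiset.map_map]
  refine Multiset.map_congr rfl fun s _ => ?_
  rw [rv_srefl hp j v s.2]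
  rfl

/-- The sum of the squares of the root values. -/
def sq (D : ChevalleyDatum) (l : ℕ) (y : Fin l → ℤ) : ℤ := ∑ s : Fin D.nroots, rv D l y s ^ 2

theorem sq_eq (y : Fin l → ℤ) : sq D l y = ((ms D l y).map (fun a => a ^ 2)).sum := by
  rw [ms_eq, Multiset.map_map]
  rfl

theorem sq_nonneg' (y : Fin l → ℤ) : 0 ≤ sq D l y := Finset.sum_nonneg fun _ _ => sq_nonneg _

theorem srefl_cast {N : ℕ} (y : Fin l → ℤ) (j : Fin l) :
    srefl D l j (fun i => ((y i : ℤ) : ZMod N)) = fun i => ((srefl D l j y i : ℤ) : ZMod N) := by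
  funext i
  unfold srefl
  push_cast
  rfl

include hp in
/-- **Kac coordinates.** -/
theorem exists_alcove {N : ℕ} (hN : 0 < N) (θ a : Fin l → ℤ) (κ : ℤ) (hκ : 0 < κ)
    (hθ : ∀ i, ∑ s : Fin D.nroots, (∑ k, vec D l s k * a k) * vec D l s i = κ * θ i)
    (hθ2 : ∑ i, θ i * a i = 2) (S : Finset (Fin D.nroots))
    (hS : ∀ j, 0 < ∑ i, cartanOf D l j i * ∑ s ∈ S, vec D l s i)
    (P : (Fin l → ZMod N) → Prop) (hP : ∀ v j, P v → P (srefl D l j v)) {v₀ : Fin l → ZMod N} (h0 : P v₀) :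
    ∃ y : Fin l → ℕ, P (fun i => (y i : ZMod N)) ∧ ∑ i, θ i * (y i : ℤ) ≤ N := by
  classical
  have : NeZero N := ⟨hN.ne'⟩
  let Q : (Fin l → ℤ) → Prop := fun y => P (fun i => ((y i : ℤ) : ZMod N))
  have hQ0 : ∃ y, Q y := by
    refine ⟨fun i => ((v₀ i).val : ℤ), ?_⟩
    show P _
    convert h0 using 2 with i
    push_cast
    exact ZMod.natCast_zmod_val _
  -- first minimum
  have h1 : ∃ m : ℕ, ∃ y, Q y ∧ sq D l y = m := by
    obtain ⟨y, hy⟩ := hQ0
    exact ⟨(sq D l y).toNat, y, hy, (Int.toNat_of_nonneg (sq_nonneg' y)).symm⟩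
  let m := Nat.find h1
  have hm : ∃ y, Q y ∧ sq D l y = m := Nat.find_spec h1
  have hmin : ∀ y, Q y → (m : ℤ) ≤ sq D l y := by
    intro y hy
    have h2 : m ≤ (sq D l y).toNat := Nat.find_min' h1 ⟨y, hy, (Int.toNat_of_nonneg (sq_nonneg' y)).symm⟩
    have h3 := Int.toNat_of_nonneg (sq_nonneg' (D := D) y)
    omega
  let L : (Fin l → ℤ) → ℤ := fun y => ∑ s ∈ S, rv D l y s
  have hL : ∀ y, L y ≤ sq D l y := by
    intro y
    calc L y ≤ ∑ s ∈ S, rv D l y s ^ 2 := Finset.sum_le_sum fun s _ => Int.le_self_sq _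
      _ ≤ ∑ s : Fin D.nroots, rv D l y s ^ 2 :=
        Finset.sum_le_sum_of_subset_of_nonneg (Finset.subset_univ S) fun s _ _ => sq_nonneg _
  have h2 : ∃ n : ℕ, ∃ y, Q y ∧ sq D l y = m ∧ (m : ℤ) - L y = n := by
    obtain ⟨y, hy, hy2⟩ := hm
    have := hL y
    refine ⟨((m : ℤ) - L y).toNat, y, hy, hy2, (Int.toNat_of_nonneg ?_).symm⟩
    omega
  let n := Nat.find h2
  obtain ⟨y, hyQ, hym, hyn⟩ : ∃ y, Q y ∧ sq D l y = m ∧ (m : ℤ) - L y = n := Nat.find_spec h2
  have hmin2 : ∀ y', Q y' → sq D l y' = m → L y' ≤ L y := by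
    intro y' hy' hy2
    have h3 := hL y'
    have h4 : n ≤ ((m : ℤ) - L y').toNat :=
      Nat.find_min' h2 ⟨y', hy', hy2, (Int.toNat_of_nonneg (by omega)).symm⟩
    (clear * - hyn hy2 h3 h4; omega)
  -- dominance
  have hdom : ∀ j, 0 ≤ y j := by
    intro j
    have hQ' : Q (srefl D l j y) := by
      have := hP _ j hyQ
      rw [srefl_cast] at this
      exact this
    have hsq' : sq D l (srefl D l j y) = m := by rw [sq_eq, ms_srefl hp, ← sq_eq, hym]
    have h3 := hmin2 _ hQ' hsq'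
    have h4 : L (srefl D l j y) = L y - (∑ i, cartanOf D l j i * ∑ s ∈ S, vec D l s i) * y j := by
      show ∑ s ∈ S, rv D l (srefl D l j y) s = ∑ s ∈ S, rv D l y s - _
      have h5 : ∀ s ∈ S, rv D l (srefl D l j y) s = rv D l y s - (∑ i, cartanOf D l j i * vec D l s i) * y j := by
        intro s _
        unfold rv srefl
        simp only [Int.cast_id, mul_sub]
        rw [Finset.sum_sub_distrib, Finset.sum_mul]
        congr 1
        refine Finset.sum_congr rfl fun i _ => ?_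
        ring
      rw [Finset.sum_congr rfl h5, Finset.sum_sub_distrib, ← Finset.sum_mul]
      congr 2
      rw [Finset.sum_comm]
      refine Finset.sum_congr rfl fun i _ => ?_
      rw [Finset.mul_sum]
    rw [h4] at h3
    have h6 := hS j
    by_contra hneg
    push Not at hneg
    nlinarith only [h3, h6, hneg]
  -- the highest root
  have hhigh : ∑ i, θ i * y i ≤ N := by
    let y' : Fin l → ℤ := fun i => y i - N * a i
    have hQ' : Q y' := by
      show P _
      convert hyQ using 2 with i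
      show (((y i - N * a i : ℤ)) : ZMod N) = _
      push_cast
      rw [ZMod.natCast_self, zero_mul, sub_zero]
    have h3 := hmin _ hQ'
    have h4 : sq D l y' = sq D l y - 2 * N * κ * (∑ i, θ i * y i) + N ^ 2 * κ * 2 := by
      have h5 : ∀ s : Fin D.nroots, rv D l y' s ^ 2 = rv D l y s ^ 2 - 2 * N * (rv D l a s * rv D l y s) +
          N ^ 2 * (rv D l a s * rv D l a s) := by
        intro s
        have h6 : rv D l y' s = rv D l y s - N * rv D l a s := by
          unfold rv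
          rw [Finset.mul_sum, ← Finset.sum_sub_distrib]
          refine Finset.sum_congr rfl fun i _ => ?_
          show _ * (y i - N * a i) = _
          ring
        rw [h6]
        ring
      have h7 : ∀ z : Fin l → ℤ, ∑ s : Fin D.nroots, rv D l a s * rv D l z s = κ * ∑ i, θ i * z i := by
        intro z
        have h8 : ∀ s : Fin D.nroots, rv D l a s * rv D l z s =
            ∑ i, ((∑ k, vec D l s k * a k) * vec D l s i) * z i := by
          intro s
          unfold rv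
          simp only [Int.cast_id]
          rw [Finset.mul_sum]
          refine Finset.sum_congr rfl fun i _ => ?_
          ring
        simp only [h8]
        rw [Finset.sum_comm, Finset.mul_sum]
        refine Finset.sum_congr rfl fun i _ => ?_
        rw [← Finset.sum_mul, hθ]
        ring
      unfold sq
      simp only [h5]
      rw [Finset.sum_add_distrib, Finset.sum_sub_distrib, ← Finset.mul_sum, ← Finset.mul_sum, h7, h7, hθ2]
      ring
    rw [h4, hym] at h3
    have hN' : (0 : ℤ) < N := by exact_mod_cast hN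
    have h9 : (0 : ℤ) < N * κ := mul_pos hN' hκ
    by_contra hneg
    push Not at hneg
    nlinarith only [h3, h9, hneg]
  refine ⟨fun i => (y i).toNat, ?_, ?_⟩
  · convert hyQ using 2 with i
    have := Int.toNat_of_nonneg (hdom i)
    conv_rhs => rw [← this]
    push_cast
    rfl
  · convert hhigh using 2 with i
    congr 1
    exact Int.toNat_of_nonneg (hdom _)

theorem srefl_map {R S : Type*} [CommRing R] [CommRing S] (f : R →+* S) (j : Fin l) (v : Fin l → R) :
    srefl D l j (fun i => f (v i)) = fun i => f (srefl D l j v i) := by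
  funext i
  unfold srefl
  rw [map_sub, map_mul, map_intCast]

theorem rv_map {R S : Type*} [CommRing R] [CommRing S] (f : R →+* S) (v : Fin l → R) (s : ℕ) :
    rv D l (fun i => f (v i)) s = f (rv D l v s) := by
  unfold rv
  rw [map_sum]
  refine Finset.sum_congr rfl fun i _ => ?_
  rw [map_mul, map_intCast]

theorem ms_map {R S : Type*} [CommRing R] [CommRing S] (f : R →+* S) (v : Fin l → R) :
    ms D l (fun i => f (v i)) = (ms D l v).map f := by
  rw [ms_eq, ms_eq, Multiset.map_map]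
  refine Multiset.map_congr rfl fun s _ => ?_
  exact rv_map f v s

/-- invariance passes to quotients -/
theorem inv_map {R S : Type*} [CommRing R] [CommRing S] (f : R →+* S) {v : Fin l → R} {q : ℕ}
    (hq : ms D l v = (ms D l v).map (fun a => (q : R) * a)) :
    ms D l (fun i => f (v i)) = (ms D l (fun i => f (v i))).map (fun a => (q : S) * a) := by
  rw [ms_map]
  conv_lhs => rw [hq]
  rw [Multiset.map_map, Multiset.map_map]
  refine Multiset.map_congr rfl fun a _ => ?_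
  simp only [Function.comp_apply]
  rw [map_mul, map_natCast]

include hp in
theorem srefl_eq_zero {R : Type*} [CommRing R] {j : Fin l} {v : Fin l → R} (h : srefl D l j v = 0) : v = 0 := by
  have h1 : v j = 0 := by
    have h2 := congrFun h j
    unfold srefl at h2
    rw [hp.isCartan.diag, Pi.zero_apply] at h2
    push_cast at h2
    linear_combination -h2
  funext i
  have h2 := congrFun h i
  unfold srefl at h2
  rw [h1, mul_zero, sub_zero] at h2
  exact h2

end Cfsg.Agent.H944.Kac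
end

-- part: H944/Tab
section
/-!
# Tables for the computations with Kac coordinates (helper944)

The positive roots of a datum as a list `R` of lists of natural numbers (`chkTab D l R`), the multiset of the root values in
terms of `R` (`sum_ms`), and the enumeration of the vectors `y` with `θ y ≤ N` (`allAlc`).
-/

set_option autoImplicit false
set_option linter.unusedSectionVars false

namespace Cfsg.Agent.H944.Tab

open Cfsg.Agent.ChevalleyStructure.CoxeterGeom Cfsg.Agent.Tits.Roots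
  Cfsg.Agent.Nodes.RGDChev
open Cfsg.Lie Cfsg.Agent.ChevalleyStructure Cfsg.Agent.ChevalleyStructure.Elts
  Cfsg.Agent.ChevalleyStructure.RootVec Cfsg.Agent.ChevalleyStructure.RootVecTab
  Cfsg.Agent.ChevalleyStructure.NPerm Cfsg.Agent.ChevalleyStructure.CoxeterGeomTypes
open Cfsg.Agent.H944.RootVals Cfsg.Agent.H944.Kac

/-! ### lists of natural numbers -/

/-- The scalar product of two lists of natural numbers. -/
def dotN : List ℕ → List ℕ → ℕ
  | a :: as, b :: bs => a * b + dotN as bs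
  | _, _ => 0

theorem dotN_nil_left (L : List ℕ) : dotN [] L = 0 := by
  cases L <;> rfl

theorem dotN_nil_right (L : List ℕ) : dotN L [] = 0 := by
  cases L <;> rfl

theorem dotN_eq (l : ℕ) : ∀ (r V : List ℕ), r.length ≤ l → dotN r V = ∑ i : Fin l, r.getD i 0 * V.getD i 0 := by
  induction l with
  | zero =>
    intro r V hr
    have : r = [] := List.length_eq_zero_iff.1 (by omega)
    subst this
    rw [dotN_nil_left]
    simp
  | succ n ih =>
    intro r V hr
    rw [Fin.sum_univ_succ]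
    cases r with
    | nil => rw [dotN_nil_left]; simp only [_root_.Fin.coe_ofNat_eq_mod, _root_.Nat.zero_mod, _root_.List.getD_eq_getElem?_getD, _root_.List.length_nil, _root_.lt_self_iff_false, _root_.not_false_eq_true, _root_.getElem?_neg, _root_.Option.getD_none, _root_.MulZeroClass.zero_mul, _root_.Fin.val_succ, _root_.not_lt_zero, _root_.Finset.sum_const_zero, _root_.add_zero]
    | cons a as =>
      cases V with
      | nil => rw [dotN_nil_right]; simp only [_root_.Fin.coe_ofNat_eq_mod, _root_.Nat.zero_mod, _root_.List.getD_eq_getElem?_getD, _root_.List.length_cons, _root_.lt_add_iff_pos_left, _root_.Order.lt_add_one_iff, _root_.zero_le, _root_.getElem?_pos, _root_.List.getElem_cons_zero, _root_.Option.getD_some, _root_.List.length_nil, _root_.lt_self_iff_false, _root_.not_false_eq_true, _root_.getElem?_neg, _root_.Option.getD_none, _root_.MulZeroClass.mul_zero, _root_.Fin.val_succ, _root_.List.getElem?_cons_succ, _root_.not_lt_zero,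 _root_.Finset.sum_const_zero, _root_.add_zero]
      | cons b bs =>
        rw [dotN, ih as bs (by simpa using hr)]
        simp only [_root_.List.getD_eq_getElem?_getD, _root_.Fin.coe_ofNat_eq_mod, _root_.Nat.zero_mod, _root_.List.length_cons, _root_.lt_add_iff_pos_left, _root_.Order.lt_add_one_iff, _root_.zero_le, _root_.getElem?_pos, _root_.List.getElem_cons_zero, _root_.Option.getD_some, _root_.Fin.val_succ, _root_.List.getElem?_cons_succ, _root_.Nat.add_left_cancel_iff]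

/-- The sum of `h (r · V)`, `r` running over a list. -/
def sumH (h : ℕ → ℕ) : List (List ℕ) → List ℕ → ℕ
  | [], _ => 0
  | r :: rs, V => h (dotN r V) + sumH h rs V

theorem sumH_eq (h : ℕ → ℕ) (R : List (List ℕ)) (V : List ℕ) : sumH h R V = (R.map fun r => h (dotN r V)).sum := by
  induction R with
  | nil => rfl
  | cons r R ih => rw [sumH, ih, List.map_cons, List.sum_cons]

/-- Every list `y` with `θ · y ≤ N` of the length of `θ` satisfies `p`. -/
def allAlc : List ℕ → ℕ → (List ℕ → Bool) → Bool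
  | [], _, p => p []
  | t :: ts, N, p => (List.range (N / t + 1)).all fun x => allAlc ts (N - t * x) fun y => p (x :: y)

theorem allAlc_spec (θ : List ℕ) : ∀ (N : ℕ) (p : List ℕ → Bool), (∀ t ∈ θ, 0 < t) → allAlc θ N p = true →
    ∀ y : List ℕ, y.length = θ.length → dotN θ y ≤ N → p y = true := by
  induction θ with
  | nil =>
    intro N p _ h y hy _
    have : y = [] := List.length_eq_zero_iff.1 (by simpa using hy)
    subst this
    exact h
  | cons t ts ih =>
    intro N p h0 h y hy hle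
    cases y with
    | nil => simp at hy
    | cons x y =>
      rw [dotN] at hle
      rw [allAlc, List.all_eq_true] at h
      have ht : 0 < t := h0 t (by simp)
      have h1 : x ≤ N / t := by
        rw [Nat.le_div_iff_mul_le ht]
        linarith only [hle]
      have h2 := h x (by rw [List.mem_range]; omega)
      exact ih (N - t * x) _ (fun s hs => h0 s (by simp [hs])) h2 y (by simpa using hy) (by omega)

/-- Every list of length `n` of natural numbers less than `m` satisfies `p`. -/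
def allLt (m : ℕ) : ℕ → (List ℕ → Bool) → Bool
  | 0, p => p []
  | n + 1, p => (List.range m).all fun x => allLt m n fun y => p (x :: y)

theorem allLt_spec (m : ℕ) (n : ℕ) : ∀ (p : List ℕ → Bool), allLt m n p = true →
    ∀ y : List ℕ, y.length = n → (∀ x ∈ y, x < m) → p y = true := by
  induction n with
  | zero =>
    intro p h y hy _
    have : y = [] := List.length_eq_zero_iff.1 (by simpa using hy)
    subst this
    exact h
  | succ n ih =>
    intro p h y hy hle
    cases y with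
    | nil => simp at hy
    | cons x y =>
      rw [allLt, List.all_eq_true] at h
      have h2 := h x (by rw [List.mem_range]; exact hle x (by simp))
      exact ih _ h2 y (by simpa using hy) fun z hz => hle z (by simp [hz])

/-! ### the table of the positive roots -/

/-- `R` is the table of the positive roots of `D`, in the order of the indices. -/
def chkTab (D : ChevalleyDatum) (l : ℕ) (R : List (List ℕ)) : Bool :=
  decide ((List.range D.nroots).map (fun s => (List.range l).map fun i => rt D s i) =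
    (R.reverse.map (List.map fun a : ℕ => -(a : ℤ))) ++ R.map (List.map fun a : ℕ => (a : ℤ)))

variable {D : ChevalleyDatum} {l : ℕ}

/-- The value of a list on a vector. -/
def dotF {S : Type*} [CommRing S] (r : List ℕ) (v : Fin l → S) : S := ∑ i : Fin l, ((r.getD i 0 : ℕ) : S) * v i

theorem ms_tab {S : Type*} [CommRing S] {R : List (List ℕ)} (hR : chkTab D l R = true) (v : Fin l → S) :
    ms D l v = ((R.map fun r => dotF r v : List S) : Multiset S) + ((R.map fun r => - dotF r v : List S) : Multiset S) := by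
  rw [chkTab, decide_eq_true_iff] at hR
  have h1 : ms D l v = (((List.range D.nroots).map fun s => rv D l v s : List S) : Multiset S) := by
    rw [ms_eq]
    have h2 : (Finset.univ : Finset (Fin D.nroots)).val = ((List.finRange D.nroots : List (Fin D.nroots)) : Multiset _) := rfl
    rw [h2, Multiset.map_coe]
    congr 1
    rw [← List.map_coe_finRange_eq_range, List.map_map]
    rfl
  have h3 : ∀ s, rv D l v s = ∑ i : Fin l, ((((List.range l).map fun i => rt D s i).getD i 0 : ℤ) : S) * v i := by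
    intro s
    unfold rv
    refine Finset.sum_congr rfl fun i _ => ?_
    congr 2
    rw [vec_apply, List.getD_eq_getElem _ _ (by simp)]
    simp
  have h4 : ((List.range D.nroots).map fun s => rv D l v s) =
      ((List.range D.nroots).map (fun s => (List.range l).map fun i => rt D s i)).map
        (fun t => ∑ i : Fin l, ((t.getD i 0 : ℤ) : S) * v i) := by
    rw [List.map_map]
    exact List.map_congr_left fun s _ => h3 s
  rw [h1, h4, hR, List.map_append, List.map_map, List.map_map, ← Multiset.coe_add, add_comm]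
  have h5 : (fun t : List ℤ => ∑ i : Fin l, ((t.getD i 0 : ℤ) : S) * v i) ∘ (List.map fun a : ℕ => (a : ℤ)) =
      fun r => dotF r v := by
    funext r
    simp only [Function.comp_apply]
    unfold dotF
    refine Finset.sum_congr rfl fun i _ => ?_
    have : (r.map fun a : ℕ => (a : ℤ)).getD i 0 = ((r.getD i 0 : ℕ) : ℤ) := by
      rw [show (0 : ℤ) = ((0 : ℕ) : ℤ) from rfl, List.getD_map]
    rw [this, Int.cast_natCast]
  have h6 : (fun t : List ℤ => ∑ i : Fin l, ((t.getD i 0 : ℤ) : S) * v i) ∘ (List.map fun a : ℕ => -(a : ℤ)) =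
      fun r => - dotF r v := by
    funext r
    simp only [Function.comp_apply]
    unfold dotF
    rw [← Finset.sum_neg_distrib]
    refine Finset.sum_congr rfl fun i _ => ?_
    have : (r.map fun a : ℕ => -(a : ℤ)).getD i 0 = -((r.getD i 0 : ℕ) : ℤ) := by
      rw [show (0 : ℤ) = -((0 : ℕ) : ℤ) from rfl, List.getD_map (f := fun a : ℕ => -(a : ℤ))]
    rw [this]
    push_cast
    ring
  rw [h5, h6, List.map_reverse]
  congr 1
  exact Multiset.coe_eq_coe.2 (List.reverse_perm _)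

/-- sums over the multiset of root values -/
theorem sum_ms {S A : Type*} [CommRing S] [AddCommMonoid A] {R : List (List ℕ)} (hR : chkTab D l R = true)
    (v : Fin l → S) (g : S → A) :
    ((ms D l v).map g).sum = (R.map fun r => g (dotF r v) + g (- dotF r v)).sum := by
  rw [ms_tab hR, Multiset.map_add, Multiset.sum_add, Multiset.map_coe, Multiset.map_coe, Multiset.sum_coe,
    Multiset.sum_coe, List.map_map, List.map_map, ← List.sum_map_add]
  rfl

/-- sums over the root values, for an invariant multiset -/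
theorem sum_inv {S A : Type*} [CommRing S] [AddCommMonoid A] {R : List (List ℕ)} (hR : chkTab D l R = true)
    {v : Fin l → S} {q : S} (hq : ms D l v = (ms D l v).map (fun a => q * a)) (g : S → A) :
    (R.map fun r => g (dotF r v) + g (- dotF r v)).sum =
      (R.map fun r => g (q * dotF r v) + g (- (q * dotF r v))).sum := by
  rw [← sum_ms hR, hq, Multiset.map_map, sum_ms hR]
  congr 1
  refine List.map_congr_left fun r _ => ?_
  simp only [Function.comp_apply, mul_neg]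

/-- The code of the pair of values `± t` modulo `N`. -/
def hh (N t : ℕ) : ℕ := 256 ^ (t % N) + 256 ^ ((N - t % N) % N)

/-- Frobenius invariance, as a check. -/
def invB (N q : ℕ) (R : List (List ℕ)) (V : List ℕ) : Bool :=
  Nat.beq (sumH (hh N) R V) (sumH (fun t => hh N (q * t)) R V)

theorem invB_of {N : ℕ} (hN : 0 < N) {q : ℕ} {R : List (List ℕ)} (hR : chkTab D l R = true)
    (hRl : ∀ r ∈ R, r.length ≤ l) {V : List ℕ}
    (hq : ms D l (fun i => ((V.getD i 0 : ℕ) : ZMod N)) =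
      (ms D l (fun i : Fin l => ((V.getD i 0 : ℕ) : ZMod N))).map (fun a => (q : ZMod N) * a)) : invB N q R V = true := by
  have : NeZero N := ⟨hN.ne'⟩
  rw [invB, Nat.beq_eq, sumH_eq, sumH_eq]
  have h1 := sum_inv hR hq (fun c : ZMod N => 256 ^ c.val)
  have h2 : ∀ t : ℕ, 256 ^ (t : ZMod N).val + 256 ^ (-(t : ZMod N)).val = hh N t := by
    intro t
    rw [hh, ZMod.val_natCast]
    congr 2
    by_cases h0 : t % N = 0
    · have h3 : (t : ZMod N) = 0 := by rw [ZMod.natCast_eq_zero_iff]; exact Nat.dvd_of_mod_eq_zero h0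
      rw [h3, neg_zero, ZMod.val_zero, h0, Nat.sub_zero, Nat.mod_self]
    · have h3 : (t : ZMod N) ≠ 0 := by
        intro h4
        rw [ZMod.natCast_eq_zero_iff] at h4
        exact h0 (Nat.mod_eq_zero_of_dvd h4)
      have : NeZero (t : ZMod N) := ⟨h3⟩
      rw [ZMod.val_neg_of_ne_zero, ZMod.val_natCast]
      refine (Nat.mod_eq_of_lt ?_).symm
      have := Nat.mod_lt t hN
      omega
  have h3 : ∀ r ∈ R, dotF r (fun i : Fin l => ((V.getD i 0 : ℕ) : ZMod N)) = ((dotN r V : ℕ) : ZMod N) := by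
    intro r hr
    rw [dotN_eq l r V (hRl r hr)]
    unfold dotF
    push_cast
    rfl
  have h4 : (R.map fun r => hh N (dotN r V)) = R.map fun r => (256 ^ (dotF r (fun i : Fin l => ((V.getD i 0 : ℕ) : ZMod N))).val +
      256 ^ (-(dotF r (fun i : Fin l => ((V.getD i 0 : ℕ) : ZMod N)))).val) := by
    refine List.map_congr_left fun r hr => ?_
    rw [h3 r hr, h2]
  have h5 : (R.map fun r => hh N (q * dotN r V)) = R.map fun r =>
      (256 ^ ((q : ZMod N) * dotF r (fun i : Fin l => ((V.getD i 0 : ℕ) : ZMod N))).val +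
      256 ^ (-((q : ZMod N) * dotF r (fun i : Fin l => ((V.getD i 0 : ℕ) : ZMod N)))).val) := by
    refine List.map_congr_left fun r hr => ?_
    rw [h3 r hr, ← Nat.cast_mul, h2]
  rw [h4, h5]
  exact h1

/-! ### linear conditions -/

/-- The coefficient of the root with value `t` in the sum over the class `c`. -/
def ee (N c t : ℕ) : ℤ := (if t % N = c then 1 else 0) - (if (N - t % N) % N = c then 1 else 0)

/-- The coefficient of a root in the linear condition of the class `c`. -/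
def bb (N q c t : ℕ) : ℤ := ee N c t - q * ee N c (q * t)

/-- The linear condition of the class `c`. -/
def colB (N q c : ℕ) (y : List ℕ) (i : ℕ) : List (List ℕ) → ℤ
  | [] => 0
  | r :: rs => bb N q c (dotN r y) * (r.getD i 0 : ℤ) + colB N q c y i rs

/-- The check of the linear conditions: `B` is a list of pairs (class, condition). -/
def chkB (N₁ N₂ q l : ℕ) (R : List (List ℕ)) (y : List ℕ) (B : List (ℕ × List ℕ)) : Bool :=
  B.all fun cb => decide (cb.1 < N₁) && decide (cb.2.length ≤ l) &&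
    (List.range l).all fun i => decide (colB N₁ q cb.1 y i R % (N₂ : ℤ) = (cb.2.getD i 0 : ℤ) % (N₂ : ℤ))

theorem neg_mod_iff {N : ℕ} (hN : 0 < N) (t : ℕ) {c : ℕ} (hc : c < N) :
    (-(t : ZMod N) = (c : ZMod N)) ↔ (N - t % N) % N = c := by
  have h1 : (-(t : ZMod N)) = (((N - t % N) % N : ℕ) : ZMod N) := by
    rw [ZMod.natCast_mod, Nat.cast_sub (Nat.mod_lt t hN).le, ZMod.natCast_self, ZMod.natCast_mod, zero_sub]
  rw [h1]
  constructor
  · intro h
    rw [ZMod.natCast_eq_natCast_iff'] at h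
    rwa [Nat.mod_mod, Nat.mod_eq_of_lt hc] at h
  · intro h; rw [h]

theorem mod_iff {N : ℕ} (t : ℕ) {c : ℕ} (hc : c < N) :
    ((t : ZMod N) = (c : ZMod N)) ↔ t % N = c := by
  rw [ZMod.natCast_eq_natCast_iff', Nat.mod_eq_of_lt hc]

theorem sum_map_sub' {α A : Type*} [AddCommGroup A] (f g : α → A) (R : List α) :
    (R.map fun r => f r - g r).sum = (R.map f).sum - (R.map g).sum := by
  induction R with
  | nil => simp
  | cons r R ih =>
    simp only [List.map_cons, List.sum_cons, ih]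
    abel

theorem lin_of {N₁ N₂ : ℕ} (hN₁ : 0 < N₁) {q : ℕ} {R : List (List ℕ)} (hR : chkTab D l R = true)
    (hRl : ∀ r ∈ R, r.length ≤ l) {y : List ℕ} {v : Fin l → ZMod (N₁ * N₂)}
    (hq : ms D l v = (ms D l v).map (fun a => (q : ZMod (N₁ * N₂)) * a))
    (hy : ∀ i : Fin l, ZMod.castHom (Dvd.intro _ rfl) (ZMod N₁) (v i) = (y.getD i 0 : ZMod N₁))
    {B : List (ℕ × List ℕ)} (hB : chkB N₁ N₂ q l R y B = true) :
    ∀ cb ∈ B, ∑ i : Fin l, ((cb.2.getD i 0 : ℕ) : ZMod N₂) *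
      ZMod.castHom (Dvd.intro_left _ rfl) (ZMod N₂) (v i) = 0 := by
  classical
  intro cb hcb
  rw [chkB, List.all_eq_true] at hB
  have hB1 := hB cb hcb
  rw [Bool.and_eq_true, Bool.and_eq_true, decide_eq_true_iff, decide_eq_true_iff, List.all_eq_true] at hB1
  obtain ⟨⟨hc, -⟩, hcol⟩ := hB1
  set c := cb.1 with hcdef
  set b := cb.2 with hbdef
  let p₁ : ZMod (N₁ * N₂) →+* ZMod N₁ := ZMod.castHom (Dvd.intro _ rfl) (ZMod N₁)
  let p₂ : ZMod (N₁ * N₂) →+* ZMod N₂ := ZMod.castHom (Dvd.intro_left _ rfl) (ZMod N₂)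
  let u : Fin l → ZMod N₂ := fun i => p₂ (v i)
  have h1 := sum_inv hR hq (fun a => if p₁ a = (c : ZMod N₁) then p₂ a else 0)
  have hd1 : ∀ r ∈ R, p₁ (dotF r v) = ((dotN r y : ℕ) : ZMod N₁) := by
    intro r hr
    rw [dotN_eq l r y (hRl r hr)]
    unfold dotF
    rw [map_sum]
    push_cast
    refine Finset.sum_congr rfl fun i _ => ?_
    rw [map_mul, map_natCast, ← hy i]
  have hd2 : ∀ r, p₂ (dotF r v) = dotF r u := by
    intro r
    unfold dotF
    rw [map_sum]
    refine Finset.sum_congr rfl fun i _ => ?_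
    rw [map_mul, map_natCast]
  have h2 : ∀ r ∈ R, ((if p₁ (dotF r v) = (c : ZMod N₁) then p₂ (dotF r v) else 0) +
      (if p₁ (- dotF r v) = (c : ZMod N₁) then p₂ (- dotF r v) else 0)) =
      ((ee N₁ c (dotN r y) : ℤ) : ZMod N₂) * dotF r u := by
    intro r hr
    rw [map_neg, map_neg, hd1 r hr, hd2]
    simp only [mod_iff _ hc, neg_mod_iff hN₁ _ hc, ee]
    split_ifs <;> push_cast <;> ring
  have h3 : ∀ r ∈ R, ((if p₁ ((q : ZMod (N₁ * N₂)) * dotF r v) = (c : ZMod N₁) then p₂ ((q : ZMod (N₁ * N₂)) * dotF r v) else 0) +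
      (if p₁ (-((q : ZMod (N₁ * N₂)) * dotF r v)) = (c : ZMod N₁) then p₂ (-((q : ZMod (N₁ * N₂)) * dotF r v)) else 0)) =
      (((q : ℤ) * ee N₁ c (q * dotN r y) : ℤ) : ZMod N₂) * dotF r u := by
    intro r hr
    rw [map_neg, map_neg, map_mul, map_mul, map_natCast, map_natCast, hd1 r hr, hd2, ← Nat.cast_mul]
    simp only [mod_iff _ hc, neg_mod_iff hN₁ _ hc, ee]
    split_ifs <;> push_cast <;> ring
  have h4 : (R.map fun r => ((bb N₁ q c (dotN r y) : ℤ) : ZMod N₂) * dotF r u).sum = 0 := by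
    have h5 : (R.map fun r => ((bb N₁ q c (dotN r y) : ℤ) : ZMod N₂) * dotF r u).sum =
        (R.map fun r => ((ee N₁ c (dotN r y) : ℤ) : ZMod N₂) * dotF r u).sum -
        (R.map fun r => (((q : ℤ) * ee N₁ c (q * dotN r y) : ℤ) : ZMod N₂) * dotF r u).sum := by
      rw [← sum_map_sub']
      congr 1
      refine List.map_congr_left fun r _ => ?_
      rw [bb]
      push_cast
      ring
    rw [h5, sub_eq_zero, ← List.map_congr_left h2, ← List.map_congr_left h3]
    exact h1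
  have h6 : (R.map fun r => ((bb N₁ q c (dotN r y) : ℤ) : ZMod N₂) * dotF r u).sum =
      ∑ i : Fin l, ((colB N₁ q c y i R : ℤ) : ZMod N₂) * u i := by
    clear hB hcb hR hRl h1 hd1 hd2 h2 h3 h4 hcol
    induction R with
    | nil => simp only [colB, _root_.List.map_nil, _root_.List.sum_nil, _root_.Int.cast_zero, _root_.MulZeroClass.zero_mul, _root_.Finset.sum_const_zero]
    | cons r R ih =>
      rw [List.map_cons, List.sum_cons, ih]
      simp only [colB]
      unfold dotF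
      rw [Finset.mul_sum, ← Finset.sum_add_distrib]
      refine Finset.sum_congr rfl fun i _ => ?_
      push_cast
      ring
  rw [h6] at h4
  rw [← h4]
  refine Finset.sum_congr rfl fun i _ => ?_
  congr 1
  have h7 := hcol i (by rw [List.mem_range]; exact i.2)
  rw [decide_eq_true_iff] at h7
  have h8 := (ZMod.intCast_eq_intCast_iff' _ _ N₂).2 h7
  rw [h8, Int.cast_natCast]

/-! ### the search for a second component -/

/-- Chinese remainders. -/
def crt (e₁ e₂ N : ℕ) : List ℕ → List ℕ → List ℕ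
  | a :: as, b :: bs => (e₁ * a + e₂ * b) % N :: crt e₁ e₂ N as bs
  | _, _ => []

theorem crt_getD (e₁ e₂ N : ℕ) : ∀ (as bs : List ℕ) (_ : as.length = bs.length) (i : ℕ),
    (crt e₁ e₂ N as bs).getD i 0 = (e₁ * as.getD i 0 + e₂ * bs.getD i 0) % N
  | [], [], _, i => by simp [crt]
  | [], _ :: _, h, _ => by simp at h
  | _ :: _, [], h, _ => by simp at h
  | a :: as, b :: bs, h, 0 => by simp only [crt, _root_.List.getD_eq_getElem?_getD, _root_.List.length_cons, _root_.lt_add_iff_pos_left, _root_.Order.lt_add_one_iff, _root_.zero_le, _root_.getElem?_pos, _root_.List.getElem_cons_zero, _root_.Option.getD_some]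
  | a :: as, b :: bs, h, i + 1 => by
    rw [crt, List.getD_cons_succ, List.getD_cons_succ, List.getD_cons_succ,
      crt_getD e₁ e₂ N as bs (by simpa using h) i]

/-- The list is zero. -/
def isZ : List ℕ → Bool
  | [] => true
  | a :: as => Nat.beq a 0 && isZ as

theorem isZ_spec : ∀ (L : List ℕ), isZ L = true → ∀ a ∈ L, a = 0
  | [], _, a, ha => by simp at ha
  | b :: bs, h, a, ha => by
    rw [isZ, Bool.and_eq_true, Nat.beq_eq] at h
    rcases List.mem_cons.1 ha with rfl | ha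
    · exact h.1
    · exact isZ_spec bs h.2 a ha

end Cfsg.Agent.H944.Tab
end

private theorem dce_885347ac230e : _root_.True := by
  try have : _root_.True := by simp only [_root_.Cfsg.Agent.H944.Tab.allAlc.eq_def]
  try have : _root_.True := by simp only [_root_.Cfsg.Agent.H944.Tab.dotN.eq_2]
  try have : _root_.True := by simp only [_root_.Cfsg.Agent.H944.Tab.dotN.eq_def]
  try have : _root_.True := by simp only [_root_.Cfsg.Agent.H944.Tab.chkB.eq_1]
  try have : _root_.True := by simp only [_root_.Cfsg.Agent.H944.Tab.bb.eq_1]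
  try have : _root_.True := by simp only [_root_.Cfsg.Agent.H944.Tab.colB.eq_2]
  try have : _root_.True := by simp only [_root_.Cfsg.Agent.H944.Tab.sumH.eq_1]
  try have : _root_.True := by simp only [_root_.Cfsg.Agent.H944.Tab.crt.eq_2]
  try have : _root_.True := by simp only [_root_.Cfsg.Agent.H944.Tab.crt.eq_def]
  try have : _root_.True := by simp only [_root_.Cfsg.Agent.H944.Tab.crt.eq_1]
  try have : _root_.True := by simp only [_root_.Cfsg.Agent.H944.Tab.allLt.eq_1]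
  try have : _root_.True := by simp only [_root_.Cfsg.Agent.H944.Tab.isZ.eq_1]
  try have : _root_.True := by simp only [_root_.Cfsg.Agent.H944.Tab.chkTab.eq_1]
  try have : _root_.True := by simp only [_root_.Cfsg.Agent.H944.Tab.isZ.eq_2]
  try have : _root_.True := by simp only [_root_.Cfsg.Agent.H944.Tab.dotN.eq_1]
  try have : _root_.True := by simp only [_root_.Cfsg.Agent.H944.Tab.allAlc.eq_2]
  try have : _root_.True := by simp only [_root_.Cfsg.Agent.H944.Tab.allAlc.eq_1]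
  try have : _root_.True := by simp only [_root_.Cfsg.Agent.H944.Tab.hh.eq_1]
  try have : _root_.True := by simp only [_root_.Cfsg.Agent.H944.Tab.sumH.eq_2]
  try have : _root_.True := by simp only [_root_.Cfsg.Agent.H944.Tab.colB.eq_1]
  try have : _root_.True := by simp only [_root_.Cfsg.Agent.H944.Tab.ee.eq_1]
  try have : _root_.True := by simp only [_root_.Cfsg.Agent.H944.Tab.isZ.eq_def]
  try have : _root_.True := by simp only [_root_.Cfsg.Agent.H944.Tab.allLt.eq_def]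
  try have : _root_.True := by simp only [_root_.Cfsg.Agent.H944.Tab.allLt.eq_2]
  try have : _root_.True := by simp only [_root_.Cfsg.Agent.H944.Tab.invB.eq_1]
  try have : _root_.True := by simp only [_root_.Cfsg.Agent.H944.Tab.dotN._sparseCasesOn_1.else_eq]
  try have : _root_.True := by simp only [_root_.Cfsg.Agent.H944.Tab.sumH.eq_def]
  try have : _root_.True := by simp only [_root_.Cfsg.Agent.H944.Tab.colB.eq_def]
  exact _root_.True.intro
end

-- part: H942/ValsChar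
section
prune_inst 0x3410754464a2000800182080e3003e66f6000190006bcc00cd010a4c0d892d43ad018e21b7e03303d9fcaaf40038c04811100119420800000a000800411d0481000a1204820ca808660098000184000000000000000000000000000000000004200000000
set_option linter.all false
open scoped Cfsg.Agent.FastGrp

/-!
# Root values and characteristic polynomials

As `Cfsg.Agent.H944.RootVals.exists_vals`, with the characteristic polynomials of all powers of the element over an
algebraically closed extension field (proof of helper944, with the last statement added).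
-/

set_option autoImplicit false
set_option linter.unusedSectionVars false

namespace Cfsg.Agent.H942.ValsChar

open Cfsg.Agent.ChevalleyStructure.CoxeterGeom Cfsg.Agent.Tits.Roots
  Cfsg.Agent.Nodes.Reps Cfsg.Agent.Nodes.BNOf Cfsg.Agent.Nodes.RGDChev Cfsg.Agent.KFacts.RgdChevCoord
open Cfsg.Lie Cfsg.Agent.ChevalleyStructure Cfsg.Agent.ChevalleyStructure.Elts
  Cfsg.Agent.ChevalleyStructure.RootVecTab
  Cfsg.Agent.ChevalleyStructure.CoxeterGeomTypes
  Cfsg.Agent.BpExc.TorAll Cfsg.Agent.BpExc.TorChev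
open Cfsg.Agent.GpExc.Field (glMap emb coe_emb coe_glMap emb_injective)
open Cfsg.Agent.H944.RootVals
open Polynomial (X C)

universe u w

variable {D : ChevalleyDatum} {l : ℕ} {M : CoxeterMatrix (Fin l)} (hp : IsType D l M)

include hp in
/-- **Root values of an element of order prime to `p`.** -/
theorem exists_valsChar (p : ℕ) [Fact p.Prime] {F : Type u} [Field F] [Finite F] [CharP F p] {x : ↥(D.group F)} {N : ℕ}
    (hN0 : N ≠ 0) (hN : N.Coprime p) (hx : x ^ N = 1) (K : Type w) [Field K] [IsAlgClosed K] [Algebra F K] :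
    ∃ v : Fin l → ZMod N, Vals (l := l) x N v ∧ ∃ ζ : K, IsPrimitiveRoot ζ N ∧ ∀ d : ℕ,
      ((((x ^ d : ↥(D.group F)) : GL D.Idx F) : Matrix D.Idx D.Idx F).charpoly).map (algebraMap F K) =
        (X - C 1) ^ D.rank * ((ms D l v).map (fun a => X - C (ζ ^ (((d : ZMod N) * a).val)))).prod := by
  classical
  have : NeZero N := ⟨hN0⟩
  have : Fintype F := Fintype.ofFinite F
  set k := AlgebraicClosure F with hk
  have hkch : CharP k p := charP_of_injective_algebraMap (algebraMap F k).injective p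
  have hk' : HAlg p k := hAlg_closure p F
  set f : F →+* k := algebraMap F k with hf
  set x' : ↥(D.group k) := emb hp.inList f x with hx'
  have hxN : x' ^ N = 1 := by rw [hx', ← map_pow, hx, map_one]
  obtain ⟨g, hg⟩ := Cfsg.Agent.H944.TorAnyChev.exists_conj_mem_TT hp p hk' hN0 hN hxN
  set t := g * x' * g⁻¹ with ht
  obtain ⟨c, hc⟩ := TT_diag hp hg
  have htN : t ^ N = 1 := by rw [ht, conj_pow, hxN, mul_one, mul_inv_cancel]
  -- the powers of `t`
  have hpow : ∀ d : ℕ, (((t ^ d : ↥(D.group k)) : GL D.Idx k) : Matrix D.Idx D.Idx k) =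
      Matrix.diagonal (Sum.elim (fun _ => (1 : k)) (fun s : Fin D.nroots =>
        ((∏ i, c i ^ (vec D l s i) : kˣ) : k) ^ d)) := by
    intro d
    rw [Subgroup.coe_pow, Units.val_pow_eq_pow_val, hc, Matrix.diagonal_pow]
    congr 1
    funext i
    rcases i with i | i
    · simp only [_root_.Units.coe_prod, _root_.Units.val_zpow_eq_zpow_val, _root_.Pi.pow_apply, _root_.Sum.elim_inl, _root_.one_pow]
    · simp only [_root_.Units.coe_prod, _root_.Units.val_zpow_eq_zpow_val, _root_.Pi.pow_apply, _root_.Sum.elim_inr]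
  -- the value on the simple roots
  have hsimple : ∀ j : Fin l, ∃ s : Fin D.nroots, (∏ i, c i ^ (vec D l s i) : kˣ) = c j := by
    intro j
    have hlt := NPerm.simple_lt hp.inList (lt_rank hp j)
    refine ⟨⟨D.simple j, hlt⟩, ?_⟩
    show (∏ i, c i ^ (vec D l (D.simple j) i) : kˣ) = c j
    rw [vec_simple hp j, Finset.prod_eq_single j]
    · rw [sr_self, zpow_one]
    · intro i _ hij
      rw [sr_ne hij, zpow_zero]
    · intro h
      exact absurd (Finset.mem_univ j) h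
  have hcN : ∀ d : ℕ, t ^ d = 1 ↔ ∀ j, c j ^ d = 1 := by
    intro d
    constructor
    · intro h1 j
      obtain ⟨s, hs⟩ := hsimple j
      have h2 := hpow d
      rw [h1, Subgroup.coe_one, Units.val_one] at h2
      have h3 := congrFun (congrFun h2 (Sum.inr s)) (Sum.inr s)
      rw [Matrix.one_apply_eq, Matrix.diagonal_apply_eq, Sum.elim_inr, hs, ← Units.val_pow_eq_pow_val] at h3
      exact Units.ext h3.symm
    · intro h1
      apply Subtype.ext
      apply Units.ext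
      rw [hpow, Subgroup.coe_one, Units.val_one, ← Matrix.diagonal_one]
      congr 1
      funext i
      rcases i with i | i
      · rfl
      · rw [Sum.elim_inr, ← Units.val_pow_eq_pow_val, ← Finset.prod_pow]
        have : ∀ j ∈ (Finset.univ : Finset (Fin l)), (c j ^ vec D l i j) ^ d = 1 := by
          intro j _
          rw [← zpow_natCast, ← zpow_mul, mul_comm, zpow_mul, zpow_natCast, h1, one_zpow]
        rw [Finset.prod_congr rfl this, Finset.prod_const_one, Units.val_one]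
  have hcN' : ∀ j, c j ^ N = 1 := (hcN N).1 htN
  -- a primitive root of unity
  have hNk : ((N : ℕ) : k) ≠ 0 := by
    intro h0
    have h1 : p ∣ N := (CharP.cast_eq_zero_iff k p N).1 h0
    have h2 : p ∣ 1 := by
      rw [← hN]
      exact Nat.dvd_gcd h1 dvd_rfl
    exact (Fact.out : p.Prime).one_lt.ne' (Nat.dvd_one.1 h2)
  have : NeZero ((N : ℕ) : k) := ⟨hNk⟩
  obtain ⟨ζ, hζ⟩ : ∃ ζ : k, IsPrimitiveRoot ζ N := HasEnoughRootsOfUnity.exists_primitiveRoot k N
  have hζu : IsPrimitiveRoot (hζ.toRootsOfUnity : kˣ) N := by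
    rw [IsPrimitiveRoot.coe_units_iff.symm]
    exact hζ
  set z : kˣ := (hζ.toRootsOfUnity : kˣ) with hz
  have hex : ∀ j, ∃ a : ℕ, z ^ a = c j := by
    intro j
    have h1 : ((c j : kˣ) : k) ^ N = 1 := by
      rw [← Units.val_pow_eq_pow_val, hcN' j, Units.val_one]
    obtain ⟨a, -, ha⟩ := hζ.eq_pow_of_pow_eq_one h1
    refine ⟨a, Units.ext ?_⟩
    rw [Units.val_pow_eq_pow_val, ← ha]
    rfl
  choose a ha using hex
  let v : Fin l → ZMod N := fun j => (a j : ZMod N)
  -- the values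
  let pw : ZMod N → k := fun b => ((z ^ b.val : kˣ) : k)
  have hzpow : ∀ m : ℤ, z ^ m = z ^ ((m : ZMod N).val) := by
    intro m
    rw [← zpow_natCast, ZMod.val_intCast]
    have h1 : z ^ (N : ℤ) = 1 := by rw [zpow_natCast]; exact hζu.pow_eq_one
    conv_lhs => rw [← Int.emod_add_mul_ediv m N]
    rw [zpow_add, zpow_mul, h1, one_zpow, mul_one]
  have hpw_inj : Function.Injective pw := by
    intro b b' h
    have h1 : z ^ b.val = z ^ b'.val := Units.ext h
    exact ZMod.val_injective N (hζu.pow_inj (ZMod.val_lt b) (ZMod.val_lt b') h1)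
  have hval : ∀ s : Fin D.nroots, ((∏ i, c i ^ (vec D l s i) : kˣ) : k) =
      pw (∑ i, (vec D l s i : ZMod N) * v i) := by
    intro s
    have h1 : ∏ i, c i ^ (vec D l s i) = z ^ (∑ i, vec D l s i * (a i : ℤ)) := by
      have h2 : ∀ S : Finset (Fin l), ∏ i ∈ S, c i ^ (vec D l s i) = z ^ (∑ i ∈ S, vec D l s i * (a i : ℤ)) := by
        intro S
        induction S using Finset.induction_on with
        | empty => simp
        | insert b S hb ih =>
          rw [Finset.prod_insert hb, Finset.sum_insert hb, zpow_add, ih, ← ha b, mul_comm (vec D l s b), zpow_mul,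
            zpow_natCast]
      exact h2 _
    rw [h1, hzpow]
    congr 3
    push_cast
    rfl
  have hpwmul : ∀ (m : ℕ) (b : ZMod N), pw b ^ m = pw ((m : ZMod N) * b) := by
    intro m b
    show (((z ^ b.val : kˣ) : k)) ^ m = ((z ^ ((m : ZMod N) * b).val : kˣ) : k)
    rw [← Units.val_pow_eq_pow_val, ← pow_mul]
    congr 1
    have h1 := hzpow ((b.val * m : ℕ) : ℤ)
    rw [zpow_natCast] at h1
    rw [h1]
    congr 2
    push_cast
    rw [ZMod.natCast_zmod_val, mul_comm]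
  -- multisets
  have hms : ∀ m : ℕ, (Finset.univ : Finset (Fin D.nroots)).val.map
      (fun s : Fin D.nroots => ((∏ i, c i ^ (vec D l s i) : kˣ) : k) ^ m) = ((ms D l v).map (fun b => (m : ZMod N) * b)).map pw := by
    intro m
    unfold ms
    rw [Multiset.map_map, Multiset.map_map]
    refine Multiset.map_congr rfl fun s _ => ?_
    simp only [Function.comp_apply]
    rw [hval, hpwmul]
  have hms1 : (Finset.univ : Finset (Fin D.nroots)).val.map
      (fun s : Fin D.nroots => ((∏ i, c i ^ (vec D l s i) : kˣ) : k)) = (ms D l v).map pw := by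
    unfold ms
    rw [Multiset.map_map]
    refine Multiset.map_congr rfl fun s _ => ?_
    exact hval s
  -- the characteristic polynomial of `t`
  have hchart : ∀ d : ℕ, (((t ^ d : ↥(D.group k)) : GL D.Idx k) : Matrix D.Idx D.Idx k).charpoly =
      ((((x ^ d : ↥(D.group F)) : GL D.Idx F) : Matrix D.Idx D.Idx F).charpoly).map f := by
    intro d
    have h1 : t ^ d = g * x' ^ d * g⁻¹ := by rw [ht, conj_pow]
    rw [h1, Subgroup.coe_mul, Subgroup.coe_mul, Subgroup.coe_inv, Units.val_mul, Units.val_mul,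
      Matrix.coe_units_inv]
    have h2 := Matrix.charpoly_units_conj ((g : GL D.Idx k)) (((x' ^ d : ↥(D.group k)) : GL D.Idx k) : Matrix D.Idx D.Idx k)
    rw [h2, ← Matrix.charpoly_map]
    congr 1
    rw [hx', ← map_pow, coe_emb, coe_glMap]
  have hchar : ∀ d : ℕ, ((((x ^ d : ↥(D.group F)) : GL D.Idx F) : Matrix D.Idx D.Idx F).charpoly).map f =
      (X - C 1) ^ D.rank * ((ms D l v).map (fun a => X - C (ζ ^ (((d : ZMod N) * a).val)))).prod := by
    intro d
    rw [← hchart d, hpow d, Matrix.charpoly_diagonal, Fintype.prod_sum_type]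
    congr 1
    · simp only [_root_.Units.coe_prod, _root_.Units.val_zpow_eq_zpow_val, _root_.Sum.elim_inl, _root_.map_one, _root_.Finset.prod_const, _root_.Finset.card_univ, _root_.Fintype.card_fin]
    · have h1 : ∀ s : Fin D.nroots, ((∏ i, c i ^ (vec D l s i) : kˣ) : k) ^ d =
          ζ ^ (((d : ZMod N) * ∑ i, (vec D l s i : ZMod N) * v i).val) := by
        intro s
        rw [hval, hpwmul]
        rfl
      unfold ms
      rw [Multiset.map_map]
      simp only [Sum.elim_inr, h1]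
      rfl
  let ψ : k →ₐ[F] K := IsAlgClosed.lift
  have hψ : ψ.toRingHom.comp f = algebraMap F K := by
    ext b
    exact ψ.commutes b
  refine ⟨v, ⟨?_, ?_, ?_⟩, ψ ζ, hζ.map_of_injective ψ.toRingHom.injective, fun d => by
    have h1 := congrArg (Polynomial.map ψ.toRingHom) (hchar d)
    rw [Polynomial.map_map, hψ] at h1
    rw [h1, Polynomial.map_mul, Polynomial.map_pow, Polynomial.map_sub, Polynomial.map_X, Polynomial.map_C,
      Polynomial.map_multiset_prod, Multiset.map_map, map_one]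
    congr 2
    refine Multiset.map_congr rfl fun a _ => ?_
    simp only [Function.comp_apply, Polynomial.map_sub, Polynomial.map_X, map_pow, Polynomial.map_pow,
      Polynomial.map_C]
    rfl⟩
  · intro d
    have h1 : x ^ d = 1 ↔ t ^ d = 1 := by
      have h2 : t ^ d = g * x' ^ d * g⁻¹ := by rw [ht, conj_pow]
      rw [h2, conj_eq_one_iff, hx', ← map_pow]
      constructor
      · intro h; rw [h, map_one]
      · intro h
        exact emb_injective hp.inList f (by rw [h, map_one])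
    rw [h1, hcN]
    refine forall_congr' fun j => ?_
    have h3 : c j ^ d = z ^ (((d : ZMod N) * v j).val) := by
      rw [← ha j, ← pow_mul]
      have h4 := hzpow ((a j * d : ℕ) : ℤ)
      rw [zpow_natCast] at h4
      rw [h4]
      congr 2
      show (((a j * d : ℕ) : ℤ) : ZMod N) = (d : ZMod N) * (a j : ZMod N)
      push_cast
      rw [mul_comm]
    rw [h3]
    constructor
    · intro h; rw [h, ZMod.val_zero, pow_zero]
    · intro h
      have h5 : z ^ (((d : ZMod N) * v j).val) = z ^ (0 : ZMod N).val := by rw [h, ZMod.val_zero, pow_zero]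
      have h6 := hζu.pow_inj (ZMod.val_lt _) (ZMod.val_lt _) h5
      exact ZMod.val_injective N h6
  · -- Frobenius
    have hq : Nat.card F = Fintype.card F := Nat.card_eq_fintype_card
    obtain ⟨⟨m, hm⟩, hp', hcard⟩ := FiniteField.card F p
    simp only [PNat.mk_coe] at hcard
    let φ : k →+* k := iterateFrobenius k p m
    have hφf : ∀ b : F, φ (f b) = f b := by
      intro b
      show iterateFrobenius k p m (f b) = f b
      rw [iterateFrobenius_def, ← map_pow, ← hcard, FiniteField.pow_card]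
    have h1 := hchart 1
    rw [pow_one, pow_one] at h1
    have h2 : ((((t : ↥(D.group k)) : GL D.Idx k) : Matrix D.Idx D.Idx k).map φ).charpoly =
        (((t : ↥(D.group k)) : GL D.Idx k) : Matrix D.Idx D.Idx k).charpoly := by
      rw [Matrix.charpoly_map, h1, Polynomial.map_map]
      congr 1
      ext b
      exact hφf b
    rw [hc, Matrix.diagonal_map (map_zero φ)] at h2
    have h3 := diag_multiset h2
    have h4 : (φ ∘ Sum.elim (fun _ : Fin D.rank => (1 : k)) (fun s : Fin D.nroots => ((∏ i, c i ^ (vec D l s i) : kˣ) : k))) =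
        Sum.elim (fun _ : Fin D.rank => (1 : k)) (fun s : Fin D.nroots => ((∏ i, c i ^ (vec D l s i) : kˣ) : k) ^ (Nat.card F)) := by
      funext i
      rcases i with i | i
      · simp only [_root_.Units.coe_prod, _root_.Units.val_zpow_eq_zpow_val, _root_.Function.comp_apply, _root_.Sum.elim_inl, _root_.map_one, _root_.Nat.card_eq_fintype_card]
      · simp only [Function.comp_apply, Sum.elim_inr]
        show iterateFrobenius k p m _ = _
        rw [iterateFrobenius_def, hq, hcard]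
    have h3' : (Finset.univ : Finset (Fin D.rank ⊕ Fin D.nroots)).val.map
        (φ ∘ Sum.elim (fun _ => (1 : k)) (fun s : Fin D.nroots => ((∏ i, c i ^ (vec D l s i) : kˣ) : k))) =
        (Finset.univ : Finset (Fin D.rank ⊕ Fin D.nroots)).val.map
        (Sum.elim (fun _ => (1 : k)) (fun s : Fin D.nroots => ((∏ i, c i ^ (vec D l s i) : kˣ) : k))) := h3
    rw [h4] at h3'
    have h5 := cancel_inl h3'
    rw [hms1, hms] at h5
    exact (Multiset.map_injective hpw_inj h5).symm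
  · -- conjugation
    rintro b ⟨g', hg'⟩
    have h1 := hchart 1
    rw [pow_one, pow_one] at h1
    have h2 : (((t ^ b : ↥(D.group k)) : GL D.Idx k) : Matrix D.Idx D.Idx k).charpoly =
        (((t : ↥(D.group k)) : GL D.Idx k) : Matrix D.Idx D.Idx k).charpoly := by
      rw [hchart, h1, ← hg', Subgroup.coe_mul, Subgroup.coe_mul, Subgroup.coe_inv, Units.val_mul, Units.val_mul,
        Matrix.coe_units_inv, Matrix.charpoly_units_conj]
    rw [hpow, hc] at h2
    have h3 := cancel_inl (diag_multiset h2)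
    rw [hms1, hms] at h3
    exact (Multiset.map_injective hpw_inj h3).symm

end Cfsg.Agent.H942.ValsChar
end

-- part: H904/TorPQ
section
set_option linter.all false
open scoped Cfsg.Agent.FastGrp

/-!
# Elements of order `a b` are toral (helper904)

`k` an algebraic closure of the prime field `𝔽_p`, `D.group k` a Chevalley group (tabulated types), `x ∈ D.group k`
with `x ^ (a b) = 1`, `a ≠ b` primes different from `p`, `b` not dividing the order of the Weyl group: `x` is conjugate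
into the diagonal subgroup, already over a finite field (`exists_level_toral`).

* `exists_fix` : commuting `t ∈ T` and `s`, `s ^ b = 1`, have a common fixed chamber;
* `exists_conj_T` : a `p'`-element of `U ⊔ T` is conjugate into `T`;
* `conj_T_rp` : elements of `T` conjugate in `Y` are conjugate by a representative of an element of `W`.
-/

set_option autoImplicit false
set_option linter.unusedSectionVars false

namespace Cfsg.Agent.H904.TorPQ

open CoxeterSystem Cfsg.Agent.ChevalleyStructure.CoxeterGeom Cfsg.Agent.Tits.Roots Cfsg.Agent.Tits.Core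
  Cfsg.Agent.Tits.RootComb Cfsg.Agent.Tits.Exchange Cfsg.Agent.Nodes.Reps Cfsg.Agent.Nodes.BNOf
  Cfsg.Agent.Nodes.Comb Cfsg.Agent.Nodes.BNOf.RGD Cfsg.Agent.Nodes.Unique Cfsg.Agent.Nodes.CardSup
  Cfsg.Agent.Nodes.StabComb Cfsg.Agent.Nodes.Bruhat Cfsg.Agent.Nodes.OppDec Cfsg.Agent.Nodes.LeviDec
  Cfsg.Agent.Nodes.NormalForm Cfsg.Agent.KFacts.RgdOpp Cfsg.Agent.KFacts.RgdAut Cfsg.Agent.KFacts.RgdDiag
  Cfsg.Agent.KFacts.RgdRigid Cfsg.Agent.CpAut.RgdFix Cfsg.Agent.CpAut.RgdCoh Cfsg.Agent.CpAut.RgdConj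
  Cfsg.Agent.BpExc.TorRgd
open scoped commutatorElement Pointwise

section SZ

variable {G : Type*} [Group G] [Finite G]

theorem compl_of {U C : Subgroup G} (hC : C ≤ Subgroup.normalizer (U : Set G)) (hdis : U ⊓ C = ⊥) :
    Subgroup.IsComplement' (U.subgroupOf (U ⊔ C)) (C.subgroupOf (U ⊔ C)) := by
  apply Subgroup.isComplement'_of_disjoint_and_mul_eq_univ
  · rw [disjoint_iff, eq_bot_iff]
    rintro ⟨g, hg⟩ hgm
    have h1 : g ∈ U ⊓ C := ⟨hgm.1, hgm.2⟩
    rw [hdis, Subgroup.mem_bot] at h1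
    rw [Subgroup.mem_bot]
    exact Subtype.ext h1
  · rw [Set.eq_univ_iff_forall]
    rintro ⟨g, hg⟩
    have h1 : g ∈ ((C ⊔ U : Subgroup G) : Set G) := by rw [sup_comm]; exact hg
    rw [Subgroup.coe_mul_of_left_le_normalizer_right _ _ hC, Set.mem_mul] at h1
    obtain ⟨c, hc, u, hu, e⟩ := h1
    have hu' : c * u * c⁻¹ ∈ U := (Subgroup.mem_normalizer_iff.1 (hC hc) u).1 hu
    refine Set.mem_mul.2 ⟨⟨c * u * c⁻¹, Subgroup.mem_sup_left hu'⟩, hu', ⟨c, Subgroup.mem_sup_right hc⟩, hc, ?_⟩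
    apply Subtype.ext
    show c * u * c⁻¹ * c = g
    rw [inv_mul_cancel_right]
    exact e

theorem exists_conj_T {p : ℕ} [hp : Fact p.Prime] {U T : Subgroup G} (hT : T ≤ Subgroup.normalizer (U : Set G))
    (hdis : U ⊓ T = ⊥) (hU : IsPGroup p U) {x : G} (hx : ∃ u ∈ U, ∃ t ∈ T, x = u * t) {m : ℕ}
    (hxm : x ^ m = 1) (hm : m.Coprime p) : ∃ g : G, g * x * g⁻¹ ∈ T := by
  obtain ⟨u, hu, t, ht, rfl⟩ := hx
  have hxN : u * t ∈ Subgroup.normalizer (U : Set G) := mul_mem (Subgroup.le_normalizer hu) (hT ht)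
  have hm0 : m ≠ 0 := by
    rintro rfl
    exact hp.out.one_lt.ne' (by simpa using hm)
  -- powers
  have hpow : ∀ j : ℕ, ∃ v ∈ U, (u * t) ^ j = v * t ^ j := by
    intro j
    induction j with
    | zero => exact ⟨1, one_mem _, by simp⟩
    | succ j ih =>
      obtain ⟨v, hv, e⟩ := ih
      have h1 : t ^ j * u * (t ^ j)⁻¹ ∈ U := (Subgroup.mem_normalizer_iff.1 (pow_mem (hT ht) j) u).1 hu
      refine ⟨v * (t ^ j * u * (t ^ j)⁻¹), mul_mem hv h1, ?_⟩
      rw [pow_succ, e, pow_succ]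
      group
  have htm : t ^ m = 1 := by
    obtain ⟨v, hv, e⟩ := hpow m
    rw [hxm] at e
    have h1 : t ^ m = v⁻¹ := eq_inv_of_mul_eq_one_right e.symm
    have h2 : t ^ m ∈ U ⊓ T := Subgroup.mem_inf.2 ⟨by rw [h1]; exact U.inv_mem hv, T.pow_mem ht m⟩
    rwa [hdis, Subgroup.mem_bot] at h2
  -- coprime orders
  have hcop : ∀ c : G, c ^ m = 1 → U ⊓ Subgroup.zpowers c = ⊥ := by
    intro c hc
    rw [eq_bot_iff]
    rintro y ⟨hyU, hyc⟩
    obtain ⟨j, rfl⟩ := hyc
    obtain ⟨n, hn⟩ := hU ⟨c ^ j, hyU⟩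
    have hn' : (c ^ j) ^ p ^ n = 1 := congrArg Subtype.val hn
    have hm' : (c ^ j) ^ m = 1 := by
      rw [← zpow_natCast, ← zpow_mul, mul_comm, zpow_mul, zpow_natCast, hc, one_zpow]
    have h1 := orderOf_dvd_of_pow_eq_one hn'
    have h2 := orderOf_dvd_of_pow_eq_one hm'
    have h3 := Nat.dvd_gcd h2 h1
    rw [(hm.pow_right n : Nat.Coprime m (p ^ n)), Nat.dvd_one, orderOf_eq_one_iff] at h3
    exact h3
  have hcx := hcop _ hxm
  have hct := hcop _ htm
  have hN1 : Subgroup.zpowers (u * t) ≤ Subgroup.normalizer (U : Set G) := Subgroup.zpowers_le.2 hxN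
  have hN2 : Subgroup.zpowers t ≤ Subgroup.normalizer (U : Set G) := Subgroup.zpowers_le.2 (hT ht)
  have hL : U ⊔ Subgroup.zpowers (u * t) = U ⊔ Subgroup.zpowers t := by
    apply le_antisymm
    · refine sup_le le_sup_left (Subgroup.zpowers_le.2 ?_)
      exact mul_mem (Subgroup.mem_sup_left hu) (Subgroup.mem_sup_right (Subgroup.mem_zpowers t))
    · refine sup_le le_sup_left (Subgroup.zpowers_le.2 ?_)
      have h1 : t = u⁻¹ * (u * t) := by group
      rw [h1]
      exact mul_mem (Subgroup.mem_sup_left (inv_mem hu)) (Subgroup.mem_sup_right (by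
        rw [← h1]; exact Subgroup.mem_zpowers _))
  set L := U ⊔ Subgroup.zpowers (u * t) with hLdef
  have hLN : L ≤ Subgroup.normalizer (U : Set G) := sup_le Subgroup.le_normalizer hN1
  have hnorm : (U.subgroupOf L).Normal := Subgroup.normal_subgroupOf_of_le_normalizer hLN
  have c1 := compl_of hN1 hcx
  have c2 := compl_of hN2 hct
  rw [← hL] at c2
  have hsol : Group.IsSolvable ↥(U.subgroupOf L) := by
    have h1 : IsPGroup p ↥(U.subgroupOf L) := hU.comap_of_injective L.subtype L.subtype_injective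
    have := h1.isNilpotent
    infer_instance
  have hidx : (Nat.card ↥(U.subgroupOf L)).Coprime (U.subgroupOf L).index := by
    have h1 : IsPGroup p ↥(U.subgroupOf L) := hU.comap_of_injective L.subtype L.subtype_injective
    obtain ⟨n, hn⟩ := IsPGroup.iff_card.1 h1
    rw [hn]
    apply Nat.Coprime.pow_left
    have h2 : (U.subgroupOf L).index = Nat.card ↥((Subgroup.zpowers (u * t)).subgroupOf L) := c1.symm.index_eq_card
    rw [h2]
    have h3 : Nat.card ↥((Subgroup.zpowers (u * t)).subgroupOf L) = Nat.card ↥(Subgroup.zpowers (u * t)) :=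
      Nat.card_congr (Subgroup.subgroupOfEquivOfLe le_sup_right).toEquiv
    rw [h3, Nat.card_zpowers]
    exact (Nat.Coprime.coprime_dvd_left (orderOf_dvd_of_pow_eq_one hxm) hm).symm
  obtain ⟨g, hg⟩ := Cfsg.Agent.S0001.result (U.subgroupOf L) hidx (Or.inl hsol) _ _ c1 c2
  refine ⟨(g : G), ?_⟩
  have h1 : g * ⟨u * t, Subgroup.mem_sup_right (Subgroup.mem_zpowers _)⟩ * g⁻¹ ∈ (Subgroup.zpowers t).subgroupOf L := by
    rw [← hg]
    exact Subgroup.smul_mem_pointwise_smul _ (MulAut.conj g) _ (by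
      rw [Subgroup.mem_subgroupOf]; exact Subgroup.mem_zpowers _)
  have h2 : (g : G) * (u * t) * (g : G)⁻¹ ∈ Subgroup.zpowers t := h1
  exact (Subgroup.zpowers_le.2 ht) h2

end SZ

section RG

variable {I W Y : Type*} [Fintype I] [DecidableEq I] [Group W] [Group Y] {M : CoxeterMatrix I}
  {cs : CoxeterSystem M W} {A : I → I → ℤ} {h : IsCartan M A} {p : ℕ} {T : Subgroup Y} {n : I → Y}
  {X : (I → ℤ) → Subgroup Y} (R : RGD cs h p T n X)

include R

/-- `t ∈ T` and `s` commute, `s ^ b = 1`: a chamber fixed by both. -/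
theorem exists_fix [Finite W] [Finite Y] [Fact p.Prime] (hG : GG cs h T X = ⊤) {b : ℕ} (hb : b.Prime)
    {t s : Y} (ht : t ∈ T) (hts : s * t = t * s) (hs : s ^ b = 1)
    (hk : ∀ a, IsRoot cs h a → Nat.card ↥(XF X (MulAut.conj t) a) ≡ 1 [MOD b])
    (hW : ¬ b ∣ Nat.card W) : ∃ S : Sylow p Y, MulAut.conj t • S = S ∧ MulAut.conj s • S = S := by
  classical
  have D := Cfsg.Agent.BpExc.FamFrame.diag_conj R ht
  have h1 := card_fix_sylow_modEq R hG D hk
  let C := {S : Sylow p Y // MulAut.conj t • S = S}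
  have hst : MulAut.conj s * MulAut.conj t = MulAut.conj t * MulAut.conj s := by
    rw [← map_mul, ← map_mul, hts]
  let τ : Equiv.Perm C :=
    { toFun := fun S => ⟨MulAut.conj s • S.1, by rw [← mul_smul, ← hst, mul_smul, S.2]⟩
      invFun := fun S => ⟨(MulAut.conj s)⁻¹ • S.1, by
        rw [← mul_smul, show MulAut.conj t * (MulAut.conj s)⁻¹ = (MulAut.conj s)⁻¹ * MulAut.conj t by
          rw [mul_inv_eq_iff_eq_mul, mul_assoc, ← hst, inv_mul_cancel_left], mul_smul, S.2]⟩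
      left_inv := fun S => Subtype.ext (inv_smul_smul _ S.1)
      right_inv := fun S => Subtype.ext (smul_inv_smul _ S.1) }
  have hτ : ∀ (k : ℕ) (S : C), ((τ ^ k) S).1 = (MulAut.conj s ^ k) • S.1 := by
    intro k
    induction k with
    | zero => intro S; rw [pow_zero, pow_zero, one_smul]; rfl
    | succ k ih =>
      intro S
      rw [pow_succ, Equiv.Perm.mul_apply, ih, pow_succ, mul_smul]
      rfl
  have hτ1 : τ ^ b ^ 1 = 1 := by
    rw [pow_one]
    ext1 S
    apply Subtype.ext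
    rw [hτ, ← map_pow, hs, map_one, one_smul]
    rfl
  have hf : Fact b.Prime := ⟨hb⟩
  have : Fintype C := Fintype.ofFinite C
  obtain ⟨S, hS⟩ := Equiv.Perm.exists_fixed_point_of_prime (p := b) (n := 1) (α := C) (by
    rw [← Nat.card_eq_fintype_card]
    intro hd
    exact hW (Nat.modEq_zero_iff_dvd.1 (h1.symm.trans (Nat.modEq_zero_iff_dvd.2 hd)))) (σ := τ) hτ1
  exact ⟨S.1, S.2, congrArg Subtype.val hS⟩

theorem U_inf_T [Finite W] [Fact p.Prime] : RGD.Sup X (RGD.Pos cs h) ⊓ T = ⊥ := by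
  rw [eq_bot_iff]
  rintro y ⟨hyU, hyT⟩
  obtain ⟨k, hk⟩ := R.isPGroup_Upos ⟨y, hyU⟩
  have hk' : y ^ p ^ k = 1 := congrArg Subtype.val hk
  have h1 : orderOf y ∣ p ^ k := orderOf_dvd_of_pow_eq_one hk'
  have h2 : orderOf y ∣ Nat.card T := by
    have h3 := orderOf_dvd_natCard (⟨y, hyT⟩ : T)
    rwa [Subgroup.orderOf_mk] at h3
  have h3 := Nat.dvd_gcd h2 h1
  rw [(R.tcop.pow_right k : Nat.Coprime _ (p ^ k)), Nat.dvd_one, orderOf_eq_one_iff] at h3
  exact h3

/-- a `p'`-element fixing a chamber is conjugate into `T` -/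
theorem exists_conj_T_of_fix [Finite W] [Finite Y] [Fact p.Prime] (hG : GG cs h T X = ⊤) {x : Y} {m : ℕ}
    (hxm : x ^ m = 1) (hm : m.Coprime p) {S : Sylow p Y} (hS : MulAut.conj x • S = S) :
    ∃ g : Y, g * x * g⁻¹ ∈ T := by
  obtain ⟨P, hP⟩ := exists_sylow_eq R hG
  obtain ⟨g, hg⟩ := MulAction.exists_smul_eq Y P S
  have h1 : (g⁻¹ * x * g) • P = P := by
    rw [mul_smul, mul_smul, hg, show x • S = S from hS, ← hg, inv_smul_smul]
  rw [smul_eq_iff_mem_B R hG hP] at h1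
  obtain ⟨t, ht, u, hu, e⟩ := R.mem_B.1 h1
  obtain ⟨g', hg'⟩ := exists_conj_T (p := p) (U := RGD.Sup X (RGD.Pos cs h)) (T := T) R.T_le_normalizer_U
    (U_inf_T R) R.isPGroup_Upos (x := g⁻¹ * x * g) (m := m) ⟨t * u * t⁻¹,
      (Subgroup.mem_normalizer_iff.1 (R.T_le_normalizer_U ht) u).1 hu, t, ht, by rw [e]; group⟩ (by
    have h2 : (g⁻¹ * x * g) ^ m = g⁻¹ * x ^ m * g := by
      have h3 := conj_pow (i := m) (a := g⁻¹) (b := x)
      rwa [inv_inv] at h3
    rw [h2, hxm]; group) hm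
  exact ⟨g' * g⁻¹, by rw [show g' * g⁻¹ * x * (g' * g⁻¹)⁻¹ = g' * (g⁻¹ * x * g) * g'⁻¹ by group]; exact hg'⟩

/-- elements of `T` conjugate in `Y` are conjugate by a representative of an element of `W` -/
theorem conj_T_rp [Finite W] (hG : GG cs h T X = ⊤) {t t' g : Y} (ht : t ∈ T) (ht' : t' ∈ T)
    (hg : g * t * g⁻¹ = t') : ∃ w k, Rp cs R.nsys w k ∧ k * t * k⁻¹ = t' := by
  have hgG : g ∈ GG cs h T X := by rw [hG]; exact Subgroup.mem_top g
  obtain ⟨w, hw⟩ := (mem_GG R).1 hgG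
  obtain ⟨u, hu, k, hk, v, hv, rfl⟩ := exists_normal_form R hw
  have e1 : t' * u * t'⁻¹ * (t' * k) * v = u * (k * t) * (t⁻¹ * v * t) := by
    have h1 : (u * k * v) * t = t' * (u * k * v) := by rw [← hg]; group
    calc t' * u * t'⁻¹ * (t' * k) * v = t' * (u * k * v) := by group
      _ = (u * k * v) * t := h1.symm
      _ = _ := by group
  have hu' : t' * u * t'⁻¹ ∈ RGD.Sup X (RGD.Pos cs h) :=
    (Subgroup.mem_normalizer_iff.1 (R.T_le_normalizer_U ht') u).1 hu
  have hv' : t⁻¹ * v * t ∈ Sup X (NW cs h w) := by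
    have h1 := conj_mem_Sup R (rp_of_mem (cs := cs) (hN := R.nsys) (T.inv_mem ht)) (S := NW cs h w)
      (S' := NW cs h w) (fun x hx => hx.1) (fun x hx => by
        rw [map_one, Module.End.one_apply]; exact hx) hv
    rwa [inv_inv] at h1
  have hk1 : Rp cs R.nsys w (t' * k) := by
    have := (rp_of_mem (cs := cs) (hN := R.nsys) ht').mul hk
    rwa [one_mul] at this
  have h2 := (normal_form_unique R hu' hu hk1 (hk.mul_mem_right ht) hv hv' e1).2.1
  exact ⟨w, k, hk, by rw [mul_inv_eq_iff_eq_mul]; exact h2.symm⟩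

end RG

section Chev

open Cfsg.Lie Cfsg.Agent.ChevalleyStructure Cfsg.Agent.ChevalleyStructure.Elts
  Cfsg.Agent.Nodes.RGDChev Cfsg.Agent.KFacts.RgdField Cfsg.Agent.KFacts.RgdChevCoord
  Cfsg.Agent.CpAut.RgdSub Cfsg.Agent.ChevStructure.FieldMap Cfsg.Agent.BpExc.TorAll

universe u

variable {D : ChevalleyDatum} {l : ℕ} {M : CoxeterMatrix (Fin l)} (hp : IsType D l M)
  (p : ℕ) [Fact p.Prime]

section Fin

variable {K : Type u} [Field K] [Finite K] [CharP K p] {W : Type*} [Group W] (cs : CoxeterSystem M W)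

include p in
/-- the fixed points of `t ∈ T` on a root group -/
theorem card_XF_conj {t : ↥(D.group K)} (ht : t ∈ TT D K) {a : Fin l → ℤ} (ha : IsRoot cs hp.isCartan a) {b : ℕ}
    (hb : Nat.card K ≡ 1 [MOD b]) : Nat.card ↥(XF (XX D l K) (MulAut.conj t) a) ≡ 1 [MOD b] := by
  have C := coords (K := K) hp cs p
  have Ca := C.coord _ ha
  by_cases h1 : ch hp a t = 1
  · have h2 : Nat.card ↥(XF (XX D l K) (MulAut.conj t) a) = Nat.card K := by
      symm
      refine Nat.card_congr (Equiv.ofBijective (fun s : K => ⟨xc hp a s, ⟨(Ca.mem _).2 ⟨_, rfl⟩, ?_⟩⟩) ⟨?_, ?_⟩)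
      · show t * xc hp a s * t⁻¹ = xc hp a s
        rw [Ca.act t ht, h1, one_mul]
      · intro s s' e
        exact Ca.inj (congrArg Subtype.val e)
      · rintro ⟨y, hy, hy'⟩
        obtain ⟨s, rfl⟩ := (Ca.mem y).1 hy
        exact ⟨s, rfl⟩
    rw [h2]
    exact hb
  · have h2 : XF (XX D l K) (MulAut.conj t) a = ⊥ := by
      rw [eq_bot_iff]
      rintro y ⟨hy, hy'⟩
      obtain ⟨s, rfl⟩ := (Ca.mem y).1 hy
      have h3 : t * xc hp a s * t⁻¹ = xc hp a s := hy'
      rw [Ca.act t ht] at h3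
      have h4 := Ca.inj h3
      have h5 : s = 0 := by
        by_contra hs
        exact h1 (mul_right_cancel₀ hs (by rw [h4, one_mul]))
      rw [Subgroup.mem_bot, h5, Ca.zero]
    rw [h2, Subgroup.card_bot]

end Fin

section Lev

variable {k : Type u} [Field k] [IsAlgClosed k] [CharP k p]

include hp in
theorem map_diag_mono {m m' : ℕ} (h : m ∣ m') :
    (D.diagonalSubgroup ↥(EE p m : Subfield k)).map (glm D (EE p m)) ≤
      (D.diagonalSubgroup ↥(EE p m' : Subfield k)).map (glm D (EE p m')) := by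
  rw [Subgroup.map_le_iff_le_comap]
  conv_lhs => unfold ChevalleyDatum.diagonalSubgroup
  rw [Subgroup.closure_le]
  rintro g ⟨r, t, hr, ht, e⟩
  refine ⟨hG hp.inList r (⟨(t : k), EE_le p h t.2⟩ : ↥(EE p m')), hG_mem_diagonal hp.inList hr (fun h0 => ht ?_), ?_⟩
  · have h1 : (t : k) = 0 := congrArg (fun z : ↥(EE p m' : Subfield k) => (z : k)) h0
    exact Subtype.ext h1
  · apply Units.ext
    rw [glm_coe, glm_coe, coe_hG, e]
    unfold ChevalleyDatum.hMat
    rw [wordMat_map, wordMat_map]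
    rfl

include hp in
/-- every element of the diagonal subgroup lives over a finite subfield -/
theorem exists_diag_level (hk : HAlg p k) {g : GL D.Idx k} (hg : g ∈ D.diagonalSubgroup k) :
    ∃ m, 0 < m ∧ g ∈ (D.diagonalSubgroup ↥(EE p m : Subfield k)).map (glm D (EE p m)) := by
  let LL : Subgroup (GL D.Idx k) :=
    { carrier := {g | ∃ m, 0 < m ∧ g ∈ (D.diagonalSubgroup ↥(EE p m : Subfield k)).map (glm D (EE p m))}
      mul_mem' := by
        rintro a b ⟨m, hm, ha⟩ ⟨m', hm', hb⟩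
        exact ⟨m * m', Nat.mul_pos hm hm', mul_mem (map_diag_mono hp p (Dvd.intro _ rfl) ha)
          (map_diag_mono hp p (Dvd.intro_left _ rfl) hb)⟩
      one_mem' := ⟨1, one_pos, one_mem _⟩
      inv_mem' := by
        rintro a ⟨m, hm, ha⟩
        exact ⟨m, hm, inv_mem ha⟩ }
  have h1 : D.diagonalSubgroup k ≤ LL := by
    unfold ChevalleyDatum.diagonalSubgroup
    rw [Subgroup.closure_le]
    rintro g ⟨r, t, hr, ht, e⟩
    obtain ⟨m, hm, h⟩ := hk t
    refine ⟨m, hm, hG hp.inList r (⟨t, (mem_EE p).2 h⟩ : ↥(EE p m)), hG_mem_diagonal hp.inList hr (fun h0 => ht ?_),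
      ?_⟩
    · exact congrArg Subtype.val h0
    · apply Units.ext
      rw [glm_coe, coe_hG, e]
      unfold ChevalleyDatum.hMat
      rw [wordMat_map]
      rfl
  exact h1 hg

include hp in
/-- **Elements of order dividing `a b` are toral**, over a finite subfield. -/
theorem exists_level_toral (hk : HAlg p k) {x : GL D.Idx k} (hx : x ∈ D.group k) {a b : ℕ} (ha : a.Prime)
    (hb : b.Prime) (hap : a ≠ p) (hbp : b ≠ p) (hab : a ≠ b) (hxab : x ^ (a * b) = 1)
    (hW : ¬ b ∣ Nat.card M.Group) :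
    ∃ N, 0 < N ∧ ∃ x' : ↥(D.group ↥(EE p N : Subfield k)), glm D (EE p N) x' = x ∧
      ∃ g : ↥(D.group ↥(EE p N : Subfield k)), g * x' * g⁻¹ ∈ TT D ↥(EE p N : Subfield k) := by
  have hpp : p.Prime := Fact.out
  obtain ⟨z, hz, hzt⟩ := exists_conj_mem_diag hp p hk (x := x ^ b) (pow_mem hx b) ha hap (by
    rw [← pow_mul, mul_comm, hxab])
  obtain ⟨m0, hm0, x0, hx0, hxx0⟩ := exists_level hp p hk hx
  obtain ⟨m2, hm2, hz2⟩ := exists_level hp p hk hz
  obtain ⟨m3, hm3, ht3⟩ := exists_diag_level hp p hk hzt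
  set N := m0 * m2 * m3 * b.totient with hNdef
  have hN : 0 < N := Nat.mul_pos (Nat.mul_pos (Nat.mul_pos hm0 hm2) hm3) (Nat.totient_pos.2 hb.pos)
  have h0N : m0 ∣ N := ⟨m2 * m3 * b.totient, by rw [hNdef]; ring⟩
  have h2N : m2 ∣ N := ⟨m0 * m3 * b.totient, by rw [hNdef]; ring⟩
  have h3N : m3 ∣ N := ⟨m0 * m2 * b.totient, by rw [hNdef]; ring⟩
  obtain ⟨x', hx', hxx'⟩ := map_group_mono hp p h0N
    (show x ∈ (D.group ↥(EE p m0 : Subfield k)).map (glm D (EE p m0)) from ⟨x0, hx0, hxx0⟩)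
  obtain ⟨z', hz', hzz'⟩ := map_group_mono hp p h2N hz2
  obtain ⟨t', ht', htt'⟩ := map_diag_mono hp p h3N ht3
  have hfinN : Finite ↥(EE p N : Subfield k) := finite_EE p hN
  have : CharP ↥(EE p N : Subfield k) p := charP_fixF p _
  have : Finite (GL D.Idx ↥(EE p N : Subfield k)) := inferInstance
  have hGfin : Finite ↥(D.group ↥(EE p N : Subfield k)) := inferInstance
  have hWfin := finite_W hp (M.toCoxeterSystem)
  have R := rgd (K := ↥(EE p N : Subfield k)) hp M.toCoxeterSystem p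
  have hG := GG_eq_top (T := TT D ↥(EE p N : Subfield k)) (G1_eq_top (K := ↥(EE p N : Subfield k)) hp M.toCoxeterSystem)
  have hinj := glm_injective (D := D) (EE p N : Subfield k)
  let X : ↥(D.group ↥(EE p N : Subfield k)) := ⟨x', hx'⟩
  let Z : ↥(D.group ↥(EE p N : Subfield k)) := ⟨z', hz'⟩
  have hXab : X ^ (a * b) = 1 := by
    apply Subtype.ext
    apply hinj
    show glm D (EE p N) (x' ^ (a * b)) = glm D (EE p N) 1
    rw [map_pow, hxx', hxab, map_one]
  have hzxt : z' * x' ^ b * z'⁻¹ = t' := by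
    apply hinj
    rw [map_mul, map_mul, map_inv, map_pow, hxx', hzz', htt']
  let Q : ↥(D.group ↥(EE p N : Subfield k)) := Z * X * Z⁻¹
  have hQpow : ∀ j : ℕ, Q ^ j = Z * X ^ j * Z⁻¹ := fun j => conj_pow
  have hQab : Q ^ (a * b) = 1 := by rw [hQpow, hXab]; group
  have ht : Q ^ b ∈ TT D ↥(EE p N : Subfield k) := by
    rw [hQpow, Subgroup.mem_subgroupOf]
    show z' * x' ^ b * z'⁻¹ ∈ _
    rw [hzxt]
    exact ht'
  have hcard : Nat.card ↥(EE p N : Subfield k) ≡ 1 [MOD b] := by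
    rw [card_EE p hN, hNdef, mul_comm, pow_mul]
    have h1 := (Nat.ModEq.pow_totient ((Nat.coprime_primes hpp hb).2 (Ne.symm hbp))).pow (m0 * m2 * m3)
    rwa [one_pow] at h1
  obtain ⟨S, hS1, hS2⟩ := exists_fix R hG hb (t := Q ^ b) (s := Q ^ a) ht (by rw [← pow_add, ← pow_add, add_comm])
    (by rw [← pow_mul, hQab]) (fun c hc => card_XF_conj hp p M.toCoxeterSystem ht hc hcard) hW
  have hS3 : MulAut.conj Q • S = S := by
    have hcop : IsCoprime (a : ℤ) (b : ℤ) := Nat.isCoprime_iff_coprime.2 ((Nat.coprime_primes ha hb).2 hab)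
    obtain ⟨u, v, huv⟩ := hcop
    have h1 : Q = (Q ^ a) ^ u * (Q ^ b) ^ v := by
      rw [← zpow_natCast, ← zpow_natCast, ← zpow_mul, ← zpow_mul, ← zpow_add, mul_comm (a : ℤ), mul_comm (b : ℤ), huv,
        zpow_one]
    have hst : ∀ {y : ↥(D.group ↥(EE p N : Subfield k))}, MulAut.conj y • S = S →
        MulAut.conj y ∈ MulAction.stabilizer (MulAut ↥(D.group ↥(EE p N : Subfield k))) S := fun h => h
    have h2 := mul_mem (zpow_mem (hst hS2) u) (zpow_mem (hst hS1) v)
    rw [← map_zpow, ← map_zpow, ← map_mul, ← h1] at h2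
    exact h2
  obtain ⟨g, hg⟩ := exists_conj_T_of_fix R hG (x := Q) (m := a * b) hQab
    (Nat.Coprime.mul_left ((Nat.coprime_primes ha hpp).2 hap) ((Nat.coprime_primes hb hpp).2 hbp)) hS3
  refine ⟨N, hN, X, hxx', g * Z, ?_⟩
  rw [show g * Z * X * (g * Z)⁻¹ = g * Q * g⁻¹ by simp only [Q]; group]
  exact hg

end Lev

end Chev

end Cfsg.Agent.H904.TorPQ
end

-- part: H234/TorFam
section
set_option linter.all false
open scoped Cfsg.Agent.FastGrp

/-!
# Simultaneous torality (helper234)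

`R : RGD cs h p T n X`, `Y` finite, `GG = ⊤`, `A ≤ T`, `s` an element of prime order `b ∤ |W|` commuting with `A`:

* `card_fix_fam` : the number of chambers fixed by `A`;
* `exists_fix_fam` : a chamber fixed by `A` and `s`;
* `exists_conj_fam` : `g A g⁻¹ ≤ T` and `g s g⁻¹ ∈ T` for some `g`;
* `exists_conj_TT_fam` : the same in `D.group k`, `k` algebraically closed.
-/

set_option autoImplicit false
set_option linter.unusedSectionVars false

namespace Cfsg.Agent.H234.TorFam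

open CoxeterSystem Cfsg.Agent.ChevalleyStructure.CoxeterGeom Cfsg.Agent.Tits.Roots Cfsg.Agent.Tits.Core
  Cfsg.Agent.Tits.RootComb Cfsg.Agent.Tits.Exchange Cfsg.Agent.Nodes.Reps Cfsg.Agent.Nodes.BNOf
  Cfsg.Agent.Nodes.Comb Cfsg.Agent.Nodes.BNOf.RGD Cfsg.Agent.Nodes.Unique Cfsg.Agent.Nodes.CardSup
  Cfsg.Agent.Nodes.StabComb Cfsg.Agent.Nodes.Bruhat Cfsg.Agent.Nodes.OppDec Cfsg.Agent.Nodes.LeviDec
  Cfsg.Agent.Nodes.NormalForm Cfsg.Agent.KFacts.RgdOpp Cfsg.Agent.KFacts.RgdAut Cfsg.Agent.KFacts.RgdDiag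
  Cfsg.Agent.KFacts.RgdRigid Cfsg.Agent.CpAut.RgdFix Cfsg.Agent.CpAut.RgdCoh Cfsg.Agent.CpAut.RgdConj
  Cfsg.Agent.BpExc.TorRgd Cfsg.Agent.BpExc
open Cfsg.Agent.H944.TorAny Cfsg.Agent.H904.TorPQ
open scoped commutatorElement Pointwise

section SZ

variable {G : Type*} [Group G] [Finite G]

/-- **Schur–Zassenhaus for a subgroup**: a `p'`-subgroup `Q` of `U T` is conjugate into `T`. -/
theorem exists_conj_sub {p : ℕ} [hp : Fact p.Prime] {U T Q : Subgroup G} (hT : T ≤ Subgroup.normalizer (U : Set G))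
    (hdis : U ⊓ T = ⊥) (hU : IsPGroup p U) (hQ : ∀ x ∈ Q, ∃ u ∈ U, ∃ t ∈ T, x = u * t)
    (hQp : (Nat.card Q).Coprime p) : ∃ g : G, ∀ x ∈ Q, g * x * g⁻¹ ∈ T := by
  have hQN : Q ≤ Subgroup.normalizer (U : Set G) := by
    intro x hx
    obtain ⟨u, hu, t, ht, rfl⟩ := hQ x hx
    exact mul_mem (Subgroup.le_normalizer hu) (hT ht)
  have hUQ : U ⊓ Q = ⊥ := by
    rw [eq_bot_iff]
    rintro y ⟨hyU, hyQ⟩
    obtain ⟨n, hn⟩ := hU ⟨y, hyU⟩
    have hn' : y ^ p ^ n = 1 := congrArg Subtype.val hn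
    have h1 := orderOf_dvd_of_pow_eq_one hn'
    have h2 : orderOf y ∣ Nat.card Q := by
      have := orderOf_dvd_natCard (⟨y, hyQ⟩ : Q)
      rwa [Subgroup.orderOf_mk] at this
    have h3 := Nat.dvd_gcd h2 h1
    rw [(hQp.pow_right n : Nat.Coprime _ (p ^ n)), Nat.dvd_one, orderOf_eq_one_iff] at h3
    exact h3
  set L := U ⊔ Q with hLdef
  set T' := T ⊓ L with hT'
  have hT'N : T' ≤ Subgroup.normalizer (U : Set G) := inf_le_left.trans hT
  have hUT' : U ⊓ T' = ⊥ := by
    rw [eq_bot_iff, ← hdis]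
    exact inf_le_inf_left _ inf_le_left
  have hL : U ⊔ T' = L := by
    apply le_antisymm
    · exact sup_le le_sup_left inf_le_right
    · refine sup_le le_sup_left fun x hx => ?_
      obtain ⟨u, hu, t, ht, rfl⟩ := hQ x hx
      refine mul_mem (Subgroup.mem_sup_left hu) (Subgroup.mem_sup_right ⟨ht, ?_⟩)
      have h1 : t = u⁻¹ * (u * t) := by group
      rw [h1]
      exact mul_mem (Subgroup.mem_sup_left (inv_mem hu)) (Subgroup.mem_sup_right hx)
  have hLN : L ≤ Subgroup.normalizer (U : Set G) := sup_le Subgroup.le_normalizer hQN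
  have hnorm : (U.subgroupOf L).Normal := Subgroup.normal_subgroupOf_of_le_normalizer hLN
  have c1 := compl_of hQN hUQ
  have c2 := compl_of hT'N hUT'
  rw [hL] at c2
  rw [← hLdef] at c1
  have hsol : Group.IsSolvable ↥(U.subgroupOf L) := by
    have h1 : IsPGroup p ↥(U.subgroupOf L) := hU.comap_of_injective L.subtype L.subtype_injective
    have := h1.isNilpotent
    infer_instance
  have hidx : (Nat.card ↥(U.subgroupOf L)).Coprime (U.subgroupOf L).index := by
    have h1 : IsPGroup p ↥(U.subgroupOf L) := hU.comap_of_injective L.subtype L.subtype_injective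
    obtain ⟨n, hn⟩ := IsPGroup.iff_card.1 h1
    rw [hn]
    apply Nat.Coprime.pow_left
    have h2 : (U.subgroupOf L).index = Nat.card ↥(Q.subgroupOf L) := c1.symm.index_eq_card
    rw [h2]
    have h3 : Nat.card ↥(Q.subgroupOf L) = Nat.card ↥Q :=
      Nat.card_congr (Subgroup.subgroupOfEquivOfLe le_sup_right).toEquiv
    rw [h3]
    exact hQp.symm
  obtain ⟨g, hg⟩ := Cfsg.Agent.S0001.result (U.subgroupOf L) hidx (Or.inl hsol) _ _ c1 c2
  refine ⟨(g : G), fun x hx => ?_⟩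
  have h1 : g * ⟨x, Subgroup.mem_sup_right hx⟩ * g⁻¹ ∈ T'.subgroupOf L := by
    rw [← hg]
    exact Subgroup.smul_mem_pointwise_smul _ (MulAut.conj g) _ (by
      rw [Subgroup.mem_subgroupOf]; exact hx)
  have h2 : (g : G) * x * (g : G)⁻¹ ∈ T' := h1
  exact h2.1

end SZ

section RG

variable {I W Y : Type*} [Fintype I] [DecidableEq I] [Group W] [Group Y] {M : CoxeterMatrix I}
  {cs : CoxeterSystem M W} {A : I → I → ℤ} {h : IsCartan M A} {p : ℕ} {T : Subgroup Y} {n : I → Y}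
  {X : (I → ℤ) → Subgroup Y} (R : RGD cs h p T n X)

include R

theorem diag_of_mem {t : Y} (ht : t ∈ T) : Diag T X (MulAut.conj t) 1 := diag_conj_T R ht

omit R in
theorem mem_cent_iff {Q : Set Y} {v : Y} : v ∈ Subgroup.centralizer Q ↔ ∀ a ∈ Q, MulAut.conj a v = v := by
  rw [Subgroup.mem_centralizer_iff]
  refine forall₂_congr fun a _ => ?_
  rw [MulAut.conj_apply, mul_inv_eq_iff_eq_mul]

theorem card_fix_fam_fut [Finite W] {Q : Set Y} (hQ : Q ⊆ T) (w : W)
    {s : Finset (I → ℤ)} (hS : (s : Set (I → ℤ)) ⊆ Fut cs h w) (hc : Closed cs h (s : Set (I → ℤ))) :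
    Nat.card ↥(Sup X (s : Set (I → ℤ)) ⊓ Subgroup.centralizer Q) =
      ∏ x ∈ s, Nat.card ↥(X x ⊓ Subgroup.centralizer Q) := by
  classical
  induction hn : (Fut cs h w).ncard generalizing w s with
  | zero =>
    have h1 := (Set.ncard_eq_zero (finite_fut w)).1 hn
    rw [h1, Set.subset_empty_iff, Finset.coe_eq_empty] at hS
    subst hS
    have h2 : Sup X ((∅ : Finset (I → ℤ)) : Set (I → ℤ)) ⊓ Subgroup.centralizer Q = ⊥ := by
      rw [eq_bot_iff]
      refine le_trans inf_le_left (Sup_le fun z hz => ?_)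
      simp at hz
    rw [h2, Subgroup.card_bot, Finset.prod_empty]
  | succ k ih =>
    have hne : (Fut cs h w).Nonempty := by
      rw [Set.nonempty_iff_ne_empty]
      intro h1
      rw [h1, Set.ncard_empty] at hn
      omega
    obtain ⟨y, hy⟩ := hne
    obtain ⟨i, hi⟩ := exists_simple hy
    have hcard : (Fut cs h (w * cs.simple i)).ncard = k := by
      rw [fut_mul hi, Set.ncard_sdiff_singleton_of_mem (mem_fut hi), hn]
      rfl
    have hsub : (s : Set (I → ℤ)) \ {rep cs h w (sr i)} ⊆ Fut cs h (w * cs.simple i) := by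
      rw [fut_mul hi]
      exact Set.sdiff_subset_sdiff_left hS
    have hcl := closed_diff hi hS hc
    by_cases hx : rep cs h w (sr i) ∈ s
    · have e1 : ((s.erase (rep cs h w (sr i)) : Finset (I → ℤ)) : Set (I → ℤ)) =
          (s : Set (I → ℤ)) \ {rep cs h w (sr i)} := Finset.coe_erase _ s
      have key := ih (w * cs.simple i) (s := s.erase (rep cs h w (sr i))) (by rw [e1]; exact hsub)
        (by rw [e1]; exact hcl) hcard
      rw [e1] at key
      rw [← Finset.mul_prod_erase s _ hx, ← key]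
      have hpos : (s : Set (I → ℤ)) ⊆ Pos cs h := hS.trans (fut_subset_pos w)
      have hinf : X (rep cs h w (sr i)) ⊓ Sup X ((s : Set (I → ℤ)) \ {rep cs h w (sr i)}) = ⊥ := by
        rw [eq_bot_iff, ← tail_inf R (w := w) (i := i)]
        exact inf_le_inf_left _ (Sup_mono hsub)
      refine card_mul_of_disjoint
        (inf_le_inf_right _ (le_Sup (S := (s : Set (I → ℤ))) (Finset.mem_coe.2 hx)))
        (inf_le_inf_right _ (Sup_mono Set.sdiff_subset)) ?_ ?_
      · rintro g ⟨hg, hgf⟩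
        obtain ⟨a, ha, b, hb, rfl⟩ := (mem_peel R hpos hc (Finset.mem_coe.2 hx)).1 hg
        have hfix : ∀ t ∈ Q, MulAut.conj t a = a ∧ MulAut.conj t b = b := fun t ht =>
          fix_split R (diag_of_mem R (hQ ht)) (Finset.mem_coe.2 hx) hpos hsub ha hb (mem_cent_iff.1 hgf t ht)
        exact ⟨a, ⟨ha, mem_cent_iff.2 fun t ht => (hfix t ht).1⟩, b, ⟨hb, mem_cent_iff.2 fun t ht => (hfix t ht).2⟩, rfl⟩
      · rw [eq_bot_iff, ← hinf]
        exact inf_le_inf inf_le_left inf_le_left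
    · have hs : (s : Set (I → ℤ)) \ {rep cs h w (sr i)} = s :=
        Set.sdiff_singleton_eq_self (fun h => hx (Finset.mem_coe.1 h))
      rw [hs] at hsub
      exact ih (w * cs.simple i) hsub hc hcard

theorem card_fix_fam_NW_modEq [Finite W] {Q : Set Y} (hQ : Q ⊆ T) {k : ℕ}
    (hk : ∀ x, IsRoot cs h x → Nat.card ↥(X x ⊓ Subgroup.centralizer Q) ≡ 1 [MOD k]) (w : W) :
    Nat.card ↥(Sup X (NW cs h w) ⊓ Subgroup.centralizer Q) ≡ 1 [MOD k] := by
  classical
  have h1 := card_fix_fam_fut R hQ 1 (s := (finite_NW w).toFinset) (by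
    rw [fut_one, Set.Finite.coe_toFinset]
    exact fun x hx => ⟨hx.1, hx.2.1⟩) (by
    rw [Set.Finite.coe_toFinset]
    exact closed_NW w)
  rw [Set.Finite.coe_toFinset] at h1
  rw [h1]
  have h2 : ∀ s : Finset (I → ℤ), (∀ x ∈ s, IsRoot cs h x) →
      ∏ x ∈ s, Nat.card ↥(X x ⊓ Subgroup.centralizer Q) ≡ 1 [MOD k] := by
    intro s
    induction s using Finset.induction_on with
    | empty => intro _; rw [Finset.prod_empty]
    | insert a s ha ih =>
      intro hs
      rw [Finset.prod_insert ha]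
      have := (hk a (hs a (Finset.mem_insert_self a s))).mul (ih fun x hx => hs x (Finset.mem_insert_of_mem hx))
      rwa [one_mul] at this
  exact h2 _ fun x hx => ((Set.Finite.mem_toFinset _).1 hx).1

section Chambers

variable [Finite Y] [Fact p.Prime]

/-- **The number of chambers fixed by `Q ⊆ T`.** -/
theorem card_fix_fam [Fintype W] (hG : GG cs h T X = ⊤) {Q : Set Y} (hQ : Q ⊆ T) :
    Nat.card {S : Sylow p Y // ∀ a ∈ Q, MulAut.conj a • S = S} =
      ∑ w : W, Nat.card ↥(Sup X (NW cs h w) ⊓ Subgroup.centralizer Q) := by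
  classical
  obtain ⟨P, hP⟩ := exists_sylow_eq R hG
  have hex : ∀ w : W, ∃ k, Rp cs R.nsys w k := fun w => exists_rp cs R.nsys w
  choose k hk using hex
  let f : (Σ w : W, ↥(Sup X (NW cs h w) ⊓ Subgroup.centralizer Q)) →
      {S : Sylow p Y // ∀ a ∈ Q, MulAut.conj a • S = S} := fun q =>
    ⟨(k q.1 * q.2)⁻¹ • P, fun a ha => by
      have h1 : MulAut.conj a (q.2 : Y) = q.2 := mem_cent_iff.1 q.2.2.2 a ha
      rw [act_cell R hG hP (diag_of_mem R (hQ ha)) (hk _), h1]⟩
  have hf : Function.Bijective f := by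
    constructor
    · rintro ⟨w, ⟨v, hv, hvf⟩⟩ ⟨w', ⟨v', hv', hvf'⟩⟩ e
      have e1 : (k w * v)⁻¹ • P = (k w' * v')⁻¹ • P := congrArg Subtype.val e
      obtain ⟨rfl, rfl⟩ := cell_inj R hG hP (hk w) (hk w') hv hv' e1
      rfl
    · rintro ⟨S, hS⟩
      obtain ⟨w, hw⟩ := exists_cell R hG hP S
      obtain ⟨v, hv, rfl⟩ := hw (k w) (hk w)
      exact ⟨⟨w, ⟨v, hv, mem_cent_iff.2 fun a ha => fix_cell R hG hP (diag_of_mem R (hQ ha)) (hk w) hv (hS a ha)⟩⟩, rfl⟩
  rw [← Nat.card_congr (Equiv.ofBijective f hf), Nat.card_sigma]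

theorem card_fix_fam_modEq [Finite W] (hG : GG cs h T X = ⊤) {Q : Set Y} (hQ : Q ⊆ T) {k : ℕ}
    (hk : ∀ x, IsRoot cs h x → Nat.card ↥(X x ⊓ Subgroup.centralizer Q) ≡ 1 [MOD k]) :
    Nat.card {S : Sylow p Y // ∀ a ∈ Q, MulAut.conj a • S = S} ≡ Nat.card W [MOD k] := by
  classical
  have := Fintype.ofFinite W
  rw [card_fix_fam R hG hQ]
  have h2 : ∀ s : Finset W, ∑ w ∈ s, Nat.card ↥(Sup X (NW cs h w) ⊓ Subgroup.centralizer Q) ≡
      s.card [MOD k] := by
    intro s
    induction s using Finset.induction_on with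
    | empty => rw [Finset.sum_empty, Finset.card_empty]
    | insert a s ha ih =>
      rw [Finset.sum_insert ha, Finset.card_insert_of_notMem ha, Nat.add_comm s.card 1]
      exact (card_fix_fam_NW_modEq R hQ hk a).add ih
  have := h2 Finset.univ
  rwa [Finset.card_univ, ← Nat.card_eq_fintype_card] at this

/-- **A chamber fixed by `Q` and by an element of prime order `b ∤ |W|` commuting with `Q`.** -/
theorem exists_fix_fam [Finite W] (hG : GG cs h T X = ⊤) {b : ℕ} (hb : b.Prime) {Q : Set Y} (hQ : Q ⊆ T) {s : Y}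
    (hs : s ^ b = 1) (hsQ : ∀ a ∈ Q, s * a = a * s)
    (hk : ∀ x, IsRoot cs h x → Nat.card ↥(X x ⊓ Subgroup.centralizer Q) ≡ 1 [MOD b])
    (hW : ¬ b ∣ Nat.card W) : ∃ S : Sylow p Y, (∀ a ∈ Q, MulAut.conj a • S = S) ∧ MulAut.conj s • S = S := by
  classical
  have h1 := card_fix_fam_modEq R hG hQ hk
  let C := {S : Sylow p Y // ∀ a ∈ Q, MulAut.conj a • S = S}
  have hst : ∀ a ∈ Q, MulAut.conj s * MulAut.conj a = MulAut.conj a * MulAut.conj s := fun a ha => by
    rw [← map_mul, ← map_mul, hsQ a ha]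
  let τ : Equiv.Perm C :=
    { toFun := fun S => ⟨MulAut.conj s • S.1, fun a ha => by rw [← mul_smul, ← hst a ha, mul_smul, S.2 a ha]⟩
      invFun := fun S => ⟨(MulAut.conj s)⁻¹ • S.1, fun a ha => by
        rw [← mul_smul, show MulAut.conj a * (MulAut.conj s)⁻¹ = (MulAut.conj s)⁻¹ * MulAut.conj a by
          rw [mul_inv_eq_iff_eq_mul, mul_assoc, ← hst a ha, inv_mul_cancel_left], mul_smul, S.2 a ha]⟩
      left_inv := fun S => Subtype.ext (inv_smul_smul _ S.1)
      right_inv := fun S => Subtype.ext (smul_inv_smul _ S.1) }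
  have hτ : ∀ (k : ℕ) (S : C), ((τ ^ k) S).1 = (MulAut.conj s ^ k) • S.1 := by
    intro k
    induction k with
    | zero => intro S; rw [pow_zero, pow_zero, one_smul]; rfl
    | succ k ih =>
      intro S
      rw [pow_succ, Equiv.Perm.mul_apply, ih, pow_succ, mul_smul]
      rfl
  have hτ1 : τ ^ b ^ 1 = 1 := by
    rw [pow_one]
    ext1 S
    apply Subtype.ext
    rw [hτ, ← map_pow, hs, map_one, one_smul]
    rfl
  have hf : Fact b.Prime := ⟨hb⟩
  have : Fintype C := Fintype.ofFinite C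
  obtain ⟨S, hS⟩ := Equiv.Perm.exists_fixed_point_of_prime (p := b) (n := 1) (α := C) (by
    rw [← Nat.card_eq_fintype_card]
    intro hd
    exact hW (Nat.modEq_zero_iff_dvd.1 (h1.symm.trans (Nat.modEq_zero_iff_dvd.2 hd)))) (σ := τ) hτ1
  exact ⟨S.1, S.2, congrArg Subtype.val hS⟩

/-- **Simultaneous conjugation into `T`.** -/
theorem exists_conj_fam [Finite W] (hG : GG cs h T X = ⊤) {b : ℕ} (hb : b.Prime) (hbp : b ≠ p) {Q : Subgroup Y}
    (hQ : Q ≤ T) {s : Y} (hs : s ^ b = 1) (hsQ : ∀ a ∈ Q, s * a = a * s)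
    (hk : ∀ x, IsRoot cs h x → Nat.card ↥(X x ⊓ Subgroup.centralizer (Q : Set Y)) ≡ 1 [MOD b])
    (hW : ¬ b ∣ Nat.card W) : ∃ g : Y, (∀ a ∈ Q, g * a * g⁻¹ ∈ T) ∧ g * s * g⁻¹ ∈ T := by
  have hpp : p.Prime := Fact.out
  obtain ⟨S, hS1, hS2⟩ := exists_fix_fam R hG hb (Q := (Q : Set Y)) hQ hs hsQ hk hW
  obtain ⟨P, hP⟩ := exists_sylow_eq R hG
  obtain ⟨g, hg⟩ := MulAction.exists_smul_eq Y P S
  -- the subgroup
  set E : Subgroup Y := Q ⊔ Subgroup.zpowers s with hE
  have hform : ∀ x ∈ E, ∃ a ∈ Q, ∃ j : ℤ, x = a * s ^ j := by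
    intro x hx
    have hN : Subgroup.zpowers s ≤ Subgroup.normalizer (Q : Set Y) := by
      rw [Subgroup.zpowers_le, Subgroup.mem_normalizer_iff]
      intro a
      constructor
      · intro ha
        have : s * a * s⁻¹ = a := by rw [hsQ a ha]; group
        rw [this]; exact ha
      · intro ha
        have h1 := hsQ _ ha
        have h2 : a = s * a * s⁻¹ := by
          have h3 : s * (s * a * s⁻¹) = s * a := by rw [h1]; group
          exact (mul_left_cancel h3).symm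
        rw [h2]; exact ha
    have h1 : x ∈ ((Q ⊔ Subgroup.zpowers s : Subgroup Y) : Set Y) := hx
    rw [Subgroup.coe_mul_of_right_le_normalizer_left _ _ hN, Set.mem_mul] at h1
    obtain ⟨a, ha, c, ⟨j, rfl⟩, rfl⟩ := h1
    exact ⟨a, ha, j, rfl⟩
  have hpowE : ∀ x ∈ E, x ^ (Nat.card Q * b) = 1 := by
    intro x hx
    obtain ⟨a, ha, j, rfl⟩ := hform x hx
    have hc : Commute a (s ^ j) := Commute.zpow_right (hsQ a ha).symm j
    rw [hc.mul_pow]
    have h1 : a ^ Nat.card Q = 1 := by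
      have := pow_card_eq_one' (x := (⟨a, ha⟩ : Q))
      exact congrArg Subtype.val this
    have h2 : (s ^ j) ^ b = 1 := by
      rw [← zpow_natCast, ← zpow_mul, mul_comm, zpow_mul, zpow_natCast, hs, one_zpow]
    rw [pow_mul, h1, one_pow, mul_comm (Nat.card Q), pow_mul, h2, one_pow, one_mul]
  have hcopm : (Nat.card Q * b).Coprime p := by
    refine Nat.Coprime.mul_left ?_ ((Nat.coprime_primes hb hpp).2 hbp)
    exact Nat.Coprime.coprime_dvd_left (Subgroup.card_dvd_of_le hQ) R.tcop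
  have hcop : (Nat.card E).Coprime p := by
    rw [Nat.coprime_comm, Nat.Prime.coprime_iff_not_dvd hpp]
    intro hd
    obtain ⟨x, hx⟩ := exists_prime_orderOf_dvd_card' p hd
    have h1 : (x : Y) ^ (Nat.card Q * b) = 1 := hpowE _ x.2
    have h2 := orderOf_dvd_of_pow_eq_one h1
    rw [Subgroup.orderOf_coe, hx] at h2
    exact (Nat.Prime.coprime_iff_not_dvd hpp).1 hcopm.symm h2
  -- the conjugate
  have hfix : ∀ x ∈ E, MulAut.conj x • S = S := by
    have h1 : E ≤ (MulAction.stabilizer Y S) := by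
      refine sup_le (fun a ha => ?_) (Subgroup.zpowers_le.2 ?_)
      · exact hS1 a ha
      · exact hS2
    exact fun x hx => h1 hx
  have hB : ∀ x ∈ E, g⁻¹ * x * g ∈ RGD.B cs h T X := by
    intro x hx
    rw [← smul_eq_iff_mem_B R hG hP, mul_smul, mul_smul, hg]
    have h1 : x • S = S := hfix x hx
    rw [h1, ← hg, inv_smul_smul]
  obtain ⟨g', hg'⟩ := exists_conj_sub (p := p) (U := RGD.Sup X (RGD.Pos cs h)) (T := T)
    (Q := E.map (MulAut.conj g⁻¹).toMonoidHom) R.T_le_normalizer_U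
    (Cfsg.Agent.H904.TorPQ.U_inf_T R) R.isPGroup_Upos (by
      rintro _ ⟨x, hx, rfl⟩
      have h1 := hB x hx
      obtain ⟨t, ht, u, hu, e⟩ := R.mem_B.1 h1
      refine ⟨t * u * t⁻¹, (Subgroup.mem_normalizer_iff.1 (R.T_le_normalizer_U ht) u).1 hu, t, ht, ?_⟩
      show g⁻¹ * x * g⁻¹⁻¹ = _
      rw [inv_inv, e]; group) (by
      have h1 : Nat.card ↥(E.map (MulAut.conj g⁻¹).toMonoidHom) = Nat.card E :=
        (Nat.card_congr (E.equivMapOfInjective _ (MulAut.conj g⁻¹).injective).toEquiv).symm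
      rw [h1]; exact hcop)
  have key : ∀ x ∈ E, (g' * g⁻¹) * x * (g' * g⁻¹)⁻¹ ∈ T := by
    intro x hx
    have h1 := hg' ((MulAut.conj g⁻¹).toMonoidHom x) ⟨x, hx, rfl⟩
    have h2 : g' * (MulAut.conj g⁻¹).toMonoidHom x * g'⁻¹ = (g' * g⁻¹) * x * (g' * g⁻¹)⁻¹ := by
      show g' * (g⁻¹ * x * g⁻¹⁻¹) * g'⁻¹ = _
      group
    rwa [h2] at h1
  exact ⟨g' * g⁻¹, fun a ha => key a (Subgroup.mem_sup_left ha),
    key s (Subgroup.mem_sup_right (Subgroup.mem_zpowers s))⟩

end Chambers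

end RG

section Chev

open Cfsg.Lie Cfsg.Agent.ChevalleyStructure Cfsg.Agent.ChevalleyStructure.Elts
  Cfsg.Agent.Nodes.RGDChev Cfsg.Agent.KFacts.RgdField Cfsg.Agent.KFacts.RgdChevCoord
  Cfsg.Agent.CpAut.RgdSub Cfsg.Agent.ChevStructure.FieldMap Cfsg.Agent.BpExc.TorAll

universe u

variable {D : ChevalleyDatum} {l : ℕ} {M : CoxeterMatrix (Fin l)} (hp : IsType D l M)
  (p : ℕ) [Fact p.Prime]

section Fin

variable {K : Type u} [Field K] [Finite K] [CharP K p] {W : Type*} [Group W] (cs : CoxeterSystem M W)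

include p in
/-- the centralizer of a subset of the torus on a root group -/
theorem card_cent_root {Q : Set ↥(D.group K)} (hQ : Q ⊆ TT D K) {a : Fin l → ℤ} (ha : IsRoot cs hp.isCartan a) {b : ℕ}
    (hb : Nat.card K ≡ 1 [MOD b]) : Nat.card ↥(XX D l K a ⊓ Subgroup.centralizer Q) ≡ 1 [MOD b] := by
  have C := coords (K := K) hp cs p
  have Ca := C.coord _ ha
  by_cases h1 : ∀ t ∈ Q, ch hp a t = 1
  · have h2 : Nat.card ↥(XX D l K a ⊓ Subgroup.centralizer Q) = Nat.card K := by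
      symm
      refine Nat.card_congr (Equiv.ofBijective (fun s : K => ⟨xc hp a s, ⟨(Ca.mem _).2 ⟨_, rfl⟩, ?_⟩⟩) ⟨?_, ?_⟩)
      · refine mem_cent_iff.2 fun t ht => ?_
        show t * xc hp a s * t⁻¹ = xc hp a s
        rw [Ca.act t (hQ ht), h1 t ht, one_mul]
      · intro s s' e
        exact Ca.inj (congrArg Subtype.val e)
      · rintro ⟨y, hy, hy'⟩
        obtain ⟨s, rfl⟩ := (Ca.mem y).1 hy
        exact ⟨s, rfl⟩
    rw [h2]
    exact hb
  · have h2 : XX D l K a ⊓ Subgroup.centralizer Q = ⊥ := by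
      rw [eq_bot_iff]
      rintro y ⟨hy, hy'⟩
      obtain ⟨s, rfl⟩ := (Ca.mem y).1 hy
      push Not at h1
      obtain ⟨t, ht, h1⟩ := h1
      have h3 : t * xc hp a s * t⁻¹ = xc hp a s := mem_cent_iff.1 hy' t ht
      rw [Ca.act t (hQ ht)] at h3
      have h4 := Ca.inj h3
      have h5 : s = 0 := by
        by_contra hs
        exact h1 (mul_right_cancel₀ hs (by rw [h4, one_mul]))
      rw [Subgroup.mem_bot, h5, Ca.zero]
    rw [h2, Subgroup.card_bot]

include hp in
theorem exists_conj_fin {b : ℕ} (hb : b.Prime) (hbp : b ≠ p) (hK : Nat.card K ≡ 1 [MOD b])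
    (hW : ¬ b ∣ Nat.card M.Group) {Q : Subgroup ↥(D.group K)} (hQ : Q ≤ TT D K) {s : ↥(D.group K)} (hs : s ^ b = 1)
    (hsQ : ∀ a ∈ Q, s * a = a * s) : ∃ g : ↥(D.group K), (∀ a ∈ Q, g * a * g⁻¹ ∈ TT D K) ∧ g * s * g⁻¹ ∈ TT D K := by
  have hWfin := finite_W hp (M.toCoxeterSystem)
  have R : RGD M.toCoxeterSystem hp.isCartan p (TT D K) (nc hp K) (XX D l K) := rgd (K := K) hp M.toCoxeterSystem p
  have hG : GG M.toCoxeterSystem hp.isCartan (TT D K) (XX D l K) = ⊤ :=
    GG_eq_top (T := TT D K) (G1_eq_top (K := K) hp M.toCoxeterSystem)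
  have h1 : ∀ a, IsRoot M.toCoxeterSystem hp.isCartan a →
      Nat.card ↥(XX D l K a ⊓ Subgroup.centralizer (Q : Set ↥(D.group K))) ≡ 1 [MOD b] := by
    intro a ha
    exact card_cent_root hp p M.toCoxeterSystem (Q := (Q : Set ↥(D.group K))) (SetLike.coe_subset_coe.2 hQ) ha hK
  exact exists_conj_fam R hG hb hbp hQ hs hsQ h1 hW

end Fin

variable {k : Type u} [Field k] [IsAlgClosed k] [CharP k p]

include hp in
/-- **Simultaneous torality**: a finite subgroup `Q` of the torus and an element of prime order `b ∤ |W|` commuting with it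
are simultaneously conjugate into the torus. -/
theorem exists_conj_TT_fam (hk : HAlg p k) {b : ℕ} (hb : b.Prime) (hbp : b ≠ p) (hW : ¬ b ∣ Nat.card M.Group)
    {Q : Subgroup ↥(D.group k)} [hQf : Finite Q] (hQ : Q ≤ TT D k) {y : ↥(D.group k)} (hy : y ^ b = 1)
    (hyQ : ∀ a ∈ Q, y * a = a * y) :
    ∃ g : ↥(D.group k), (∀ a ∈ Q, g * a * g⁻¹ ∈ TT D k) ∧ g * y * g⁻¹ ∈ TT D k := by
  classical
  have hpp : p.Prime := Fact.out
  obtain ⟨m0, hm0, x0, hx0, hxx0⟩ := exists_level hp p hk y.2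
  have hlev : ∀ a : Q, ∃ m, 0 < m ∧
      ((a : ↥(D.group k)) : GL D.Idx k) ∈ (D.diagonalSubgroup ↥(EE p m : Subfield k)).map (glm D (EE p m)) :=
    fun a => exists_diag_level hp p hk (hQ a.2)
  choose m1 hm1 h1 using hlev
  have hQfin : Fintype Q := Fintype.ofFinite Q
  obtain ⟨N, hNdef⟩ : ∃ N, N = m0 * (∏ a : Q, m1 a) * b.totient := ⟨_, rfl⟩
  have hN : 0 < N := by
    rw [hNdef]
    exact Nat.mul_pos (Nat.mul_pos hm0 (Finset.prod_pos fun a _ => hm1 a)) (Nat.totient_pos.2 hb.pos)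
  have h0N : m0 ∣ N := by rw [hNdef, mul_assoc]; exact dvd_mul_right _ _
  have h1N : ∀ a, m1 a ∣ N := fun a => by
    have h2 : m1 a ∣ ∏ a : Q, m1 a := Finset.dvd_prod_of_mem _ (Finset.mem_univ a)
    rw [hNdef]
    exact (h2.mul_left _).mul_right _
  obtain ⟨y', hy', hyy'⟩ := map_group_mono hp p h0N
    (show (y : GL D.Idx k) ∈ (D.group ↥(EE p m0 : Subfield k)).map (glm D (EE p m0)) from ⟨x0, hx0, hxx0⟩)
  have hfinN : Finite ↥(EE p N : Subfield k) := finite_EE p hN
  have : CharP ↥(EE p N : Subfield k) p := charP_fixF p _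
  have : Finite (GL D.Idx ↥(EE p N : Subfield k)) := inferInstance
  have hGfin : Finite ↥(D.group ↥(EE p N : Subfield k)) := inferInstance
  have hinj := glm_injective (D := D) (EE p N : Subfield k)
  -- the embedding
  obtain ⟨ι, hιd⟩ : ∃ ι : ↥(D.group ↥(EE p N : Subfield k)) →* ↥(D.group k),
      ∀ g, ((ι g : ↥(D.group k)) : GL D.Idx k) = glm D (EE p N) (g : GL D.Idx ↥(EE p N : Subfield k)) :=
    ⟨{ toFun := fun g => ⟨glm D (EE p N) (g : GL D.Idx ↥(EE p N : Subfield k)), map_group_le hp p ⟨_, g.2, rfl⟩⟩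
       map_one' := Subtype.ext (map_one _)
       map_mul' := fun a b => Subtype.ext (map_mul _ _ _) }, fun _ => rfl⟩
  have hι : Function.Injective ι := fun a b e => Subtype.ext (hinj (by rw [← hιd, ← hιd, e]))
  have hιT : ∀ t, t ∈ TT D ↥(EE p N : Subfield k) → ι t ∈ TT D k := fun t ht => by
    rw [Subgroup.mem_subgroupOf, hιd]
    exact glm_diag hp (EE p N) ht
  have hlift : ∀ a ∈ Q, ∃ a' ∈ TT D ↥(EE p N : Subfield k), ι a' = a := by
    intro a ha
    obtain ⟨t', ht', htt'⟩ := map_diag_mono hp p (h1N ⟨a, ha⟩) (h1 ⟨a, ha⟩)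
    have hmem : t' ∈ D.group ↥(EE p N : Subfield k) := by
      have h2 : ((a : ↥(D.group k)) : GL D.Idx k) ∈ (D.diagonalSubgroup ↥(EE p N : Subfield k)).map (glm D (EE p N)) :=
        map_diag_mono hp p (h1N ⟨a, ha⟩) (h1 ⟨a, ha⟩)
      exact diagonal_le_group hp.inList _ ht'
    exact ⟨⟨t', hmem⟩, ht', Subtype.ext (by rw [hιd]; exact htt')⟩
  have hQT : Q.comap ι ≤ TT D ↥(EE p N : Subfield k) := by
    intro a ha
    obtain ⟨a', ha', e⟩ := hlift _ ha
    rw [← hι e]
    exact ha'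
  have hyι : ι ⟨y', hy'⟩ = y := Subtype.ext (by rw [hιd]; exact hyy')
  have hcard : Nat.card ↥(EE p N : Subfield k) ≡ 1 [MOD b] := by
    rw [card_EE p hN, hNdef, mul_comm, pow_mul]
    have h1 := (Nat.ModEq.pow_totient ((Nat.coprime_primes hpp hb).2 (Ne.symm hbp))).pow (m0 * ∏ a : Q, m1 a)
    rwa [one_pow] at h1
  have hs1 : (⟨y', hy'⟩ : ↥(D.group ↥(EE p N : Subfield k))) ^ b = 1 := by
    apply hι
    rw [map_pow, hyι, hy, map_one]
  have hs2 : ∀ a ∈ Q.comap ι, (⟨y', hy'⟩ : ↥(D.group ↥(EE p N : Subfield k))) * a = a * ⟨y', hy'⟩ := by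
    intro a ha
    apply hι
    rw [map_mul, map_mul, hyι]
    exact hyQ _ ha
  obtain ⟨g, hg1, hg2⟩ := exists_conj_fin hp p hb hbp hcard hW hQT hs1 hs2
  refine ⟨ι g, fun a ha => ?_, ?_⟩
  · obtain ⟨a', ha', e⟩ := hlift a ha
    rw [← e, ← map_mul, ← map_inv, ← map_mul]
    exact hιT _ (hg1 a' (by rw [Subgroup.mem_comap, e]; exact ha))
  · rw [← hyι, ← map_mul, ← map_inv, ← map_mul]
    exact hιT _ hg2

end Chev

end Cfsg.Agent.H234.TorFam

private theorem dce_a621cb39dded : _root_.True := by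
  try have : _root_.True := by simp only [_root_.Cfsg.Agent.KFacts.RgdChevCoord.ch.congr_simp]
  exact _root_.True.intro
end

-- part: H942/E8Tab
section
set_option linter.all false

/-!
# The tables of `E₈`
-/

set_option autoImplicit false
set_option linter.unusedSectionVars false
set_option maxRecDepth 100000

namespace Cfsg.Agent.H942.E8Tab

open Cfsg.Agent.ChevalleyStructure.CoxeterGeom Cfsg.Agent.Tits.Roots
  Cfsg.Agent.Nodes.RGDChev
open Cfsg.Lie Cfsg.Agent.ChevalleyStructure Cfsg.Agent.ChevalleyStructure.Elts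
  Cfsg.Agent.ChevalleyStructure.RootVec Cfsg.Agent.ChevalleyStructure.RootVecTab
  Cfsg.Agent.ChevalleyStructure.NPerm Cfsg.Agent.ChevalleyStructure.CoxeterGeomTypes
open Cfsg.Agent.H944.RootVals Cfsg.Agent.H944.Kac Cfsg.Agent.H944.Tab

/-- The positive roots of `E₈`. -/
def R8 : List (List ℕ) :=
  [[0, 0, 0, 0, 0, 0, 0, 1], [0, 0, 0, 0, 0, 0, 1, 0], [0, 0, 0, 0, 0, 0, 1, 1], [0, 0, 0, 0, 0, 1, 0, 0],
   [0, 0, 0, 0, 0, 1, 1, 0], [0, 0, 0, 0, 0, 1, 1, 1], [0, 0, 0, 0, 1, 0, 0, 0], [0, 0, 0, 0, 1, 1, 0, 0],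
   [0, 0, 0, 0, 1, 1, 1, 0], [0, 0, 0, 0, 1, 1, 1, 1], [0, 0, 0, 1, 0, 0, 0, 0], [0, 0, 0, 1, 1, 0, 0, 0],
   [0, 0, 0, 1, 1, 1, 0, 0], [0, 0, 0, 1, 1, 1, 1, 0], [0, 0, 0, 1, 1, 1, 1, 1], [0, 0, 1, 0, 0, 0, 0, 0],
   [0, 0, 1, 1, 0, 0, 0, 0], [0, 0, 1, 1, 1, 0, 0, 0], [0, 0, 1, 1, 1, 1, 0, 0], [0, 0, 1, 1, 1, 1, 1, 0],
   [0, 0, 1, 1, 1, 1, 1, 1], [0, 1, 0, 0, 0, 0, 0, 0], [0, 1, 0, 1, 0, 0, 0, 0], [0, 1, 0, 1, 1, 0, 0, 0],
   [0, 1, 0, 1, 1, 1, 0, 0], [0, 1, 0, 1, 1, 1, 1, 0], [0, 1, 0, 1, 1, 1, 1, 1], [0, 1, 1, 1, 0, 0, 0, 0],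
   [0, 1, 1, 1, 1, 0, 0, 0], [0, 1, 1, 1, 1, 1, 0, 0], [0, 1, 1, 1, 1, 1, 1, 0], [0, 1, 1, 1, 1, 1, 1, 1],
   [0, 1, 1, 2, 1, 0, 0, 0], [0, 1, 1, 2, 1, 1, 0, 0], [0, 1, 1, 2, 1, 1, 1, 0], [0, 1, 1, 2, 1, 1, 1, 1],
   [0, 1, 1, 2, 2, 1, 0, 0], [0, 1, 1, 2, 2, 1, 1, 0], [0, 1, 1, 2, 2, 1, 1, 1], [0, 1, 1, 2, 2, 2, 1, 0],
   [0, 1, 1, 2, 2, 2, 1, 1], [0, 1, 1, 2, 2, 2, 2, 1], [1, 0, 0, 0, 0, 0, 0, 0], [1, 0, 1, 0, 0, 0, 0, 0],
   [1, 0, 1, 1, 0, 0, 0, 0], [1, 0, 1, 1, 1, 0, 0, 0], [1, 0, 1, 1, 1, 1, 0, 0], [1, 0, 1, 1, 1, 1, 1, 0],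
   [1, 0, 1, 1, 1, 1, 1, 1], [1, 1, 1, 1, 0, 0, 0, 0], [1, 1, 1, 1, 1, 0, 0, 0], [1, 1, 1, 1, 1, 1, 0, 0],
   [1, 1, 1, 1, 1, 1, 1, 0], [1, 1, 1, 1, 1, 1, 1, 1], [1, 1, 1, 2, 1, 0, 0, 0], [1, 1, 1, 2, 1, 1, 0, 0],
   [1, 1, 1, 2, 1, 1, 1, 0], [1, 1, 1, 2, 1, 1, 1, 1], [1, 1, 1, 2, 2, 1, 0, 0], [1, 1, 1, 2, 2, 1, 1, 0],
   [1, 1, 1, 2, 2, 1, 1, 1], [1, 1, 1, 2, 2, 2, 1, 0], [1, 1, 1, 2, 2, 2, 1, 1], [1, 1, 1, 2, 2, 2, 2, 1],
   [1, 1, 2, 2, 1, 0, 0, 0], [1, 1, 2, 2, 1, 1, 0, 0], [1, 1, 2, 2, 1, 1, 1, 0], [1, 1, 2, 2, 1, 1, 1, 1],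
   [1, 1, 2, 2, 2, 1, 0, 0], [1, 1, 2, 2, 2, 1, 1, 0], [1, 1, 2, 2, 2, 1, 1, 1], [1, 1, 2, 2, 2, 2, 1, 0],
   [1, 1, 2, 2, 2, 2, 1, 1], [1, 1, 2, 2, 2, 2, 2, 1], [1, 1, 2, 3, 2, 1, 0, 0], [1, 1, 2, 3, 2, 1, 1, 0],
   [1, 1, 2, 3, 2, 1, 1, 1], [1, 1, 2, 3, 2, 2, 1, 0], [1, 1, 2, 3, 2, 2, 1, 1], [1, 1, 2, 3, 2, 2, 2, 1],
   [1, 1, 2, 3, 3, 2, 1, 0], [1, 1, 2, 3, 3, 2, 1, 1], [1, 1, 2, 3, 3, 2, 2, 1], [1, 1, 2, 3, 3, 3, 2, 1],
   [1, 2, 2, 3, 2, 1, 0, 0], [1, 2, 2, 3, 2, 1, 1, 0], [1, 2, 2, 3, 2, 1, 1, 1], [1, 2, 2, 3, 2, 2, 1, 0],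
   [1, 2, 2, 3, 2, 2, 1, 1], [1, 2, 2, 3, 2, 2, 2, 1], [1, 2, 2, 3, 3, 2, 1, 0], [1, 2, 2, 3, 3, 2, 1, 1],
   [1, 2, 2, 3, 3, 2, 2, 1], [1, 2, 2, 3, 3, 3, 2, 1], [1, 2, 2, 4, 3, 2, 1, 0], [1, 2, 2, 4, 3, 2, 1, 1],
   [1, 2, 2, 4, 3, 2, 2, 1], [1, 2, 2, 4, 3, 3, 2, 1], [1, 2, 2, 4, 4, 3, 2, 1], [1, 2, 3, 4, 3, 2, 1, 0],
   [1, 2, 3, 4, 3, 2, 1, 1], [1, 2, 3, 4, 3, 2, 2, 1], [1, 2, 3, 4, 3, 3, 2, 1], [1, 2, 3, 4, 4, 3, 2, 1],
   [1, 2, 3, 5, 4, 3, 2, 1], [1, 3, 3, 5, 4, 3, 2, 1], [2, 2, 3, 4, 3, 2, 1, 0], [2, 2, 3, 4, 3, 2, 1, 1],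
   [2, 2, 3, 4, 3, 2, 2, 1], [2, 2, 3, 4, 3, 3, 2, 1], [2, 2, 3, 4, 4, 3, 2, 1], [2, 2, 3, 5, 4, 3, 2, 1],
   [2, 2, 4, 5, 4, 3, 2, 1], [2, 3, 3, 5, 4, 3, 2, 1], [2, 3, 4, 5, 4, 3, 2, 1], [2, 3, 4, 6, 4, 3, 2, 1],
   [2, 3, 4, 6, 5, 3, 2, 1], [2, 3, 4, 6, 5, 4, 2, 1], [2, 3, 4, 6, 5, 4, 3, 1], [2, 3, 4, 6, 5, 4, 3, 2]]

/-- The highest root of `E₈`. -/
def th8 : List ℕ := [2, 3, 4, 6, 5, 4, 3, 2]

private noncomputable def _root_.Cfsg.Agent.LsF.f7913f8_0 : {f // @Cfsg.Agent.ChevalleyStructure.RootVecTab.dig = f} := ⟨_, by first | (delta Cfsg.Agent.ChevalleyStructure.RootVecTab.dig; rewrite [Cfsg.Agent.LsF.nmul_pat]; exact rfl) | exact rfl⟩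
private noncomputable def _root_.Cfsg.Agent.LsF.f7913f8_1 : {f // @Cfsg.Agent.ChevalleyStructure.RootVecTab.packTab = f} := ⟨_, by first | (delta Cfsg.Agent.ChevalleyStructure.RootVecTab.packTab; rewrite [Cfsg.Agent.LsF.instDecEq_eq, Cfsg.Agent.LsF.ite_eq]; exact rfl) | exact rfl⟩
private noncomputable def _root_.Cfsg.Agent.LsF.f7913f8_2 : {f // @Cfsg.Agent.ChevalleyStructure.RootVecTab.code = f} := ⟨_, by first | (delta Cfsg.Agent.ChevalleyStructure.RootVecTab.code; rewrite [Cfsg.Agent.LsF.f7913f8_1.2, Cfsg.Agent.LsF.nmul_pat, Cfsg.Agent.LsF.npow_pat]; exact rfl) | exact rfl⟩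
private noncomputable def _root_.Cfsg.Agent.LsF.f7913f8_3 : {f // @Cfsg.Agent.ChevalleyStructure.RootVec.rt = f} := ⟨_, by first | (delta Cfsg.Agent.ChevalleyStructure.RootVec.rt; rewrite [Cfsg.Agent.LsF.f7913f8_0.2, Cfsg.Agent.LsF.f7913f8_2.2, Cfsg.Agent.LsF.nsub_pat, Cfsg.Agent.LsF.isub_pat, Cfsg.Agent.LsF.icast_pat, Cfsg.Agent.LsF.decLt_eq, Cfsg.Agent.LsF.dAnd_eq, Cfsg.Agent.LsF.ite_eq]; exact rfl) | exact rfl⟩
private noncomputable def _root_.Cfsg.Agent.LsF.f7913f8_4 : {f // @Cfsg.Agent.H944.Tab.chkTab = f} := ⟨_, by first | (delta Cfsg.Agent.H944.Tab.chkTab; rewrite [Cfsg.Agent.LsF.f7913f8_3.2, Cfsg.Agent.LsF.ineg_pat, Cfsg.Agent.LsF.icast_pat, Cfsg.Agent.LsF.lappend_pat, Cfsg.Agent.LsF.map_eq, Cfsg.Agent.LsF.reverse_eq, Cfsg.Agent.LsF.range_eq, Cfsg.Agent.LsF.instIDecEq_eq, Cfsg.Agent.LsF.dListEq_eq, Cfsg.Agent.LsF.decide_eq]; exact rfl) | exact rfl⟩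
theorem tab8 : chkTab chevE8 8 R8 = true := by ((try (rewrite [Cfsg.Agent.LsF.f7913f8_4.2])); decide +kernel)

theorem len8 : ∀ r ∈ R8, r.length ≤ 8 := by decide +kernel

private noncomputable def _root_.Cfsg.Agent.LsF.f7913f8_5 : {f // @Cfsg.Agent.Nodes.RGDChev.vec = f} := ⟨_, by first | (delta Cfsg.Agent.Nodes.RGDChev.vec; rewrite [Cfsg.Agent.LsF.f7913f8_3.2]; exact rfl) | exact rfl⟩
theorem theta8 : ∀ i : Fin 8, ∑ s : Fin chevE8.nroots, (∑ k, vec chevE8 8 s k * (![0, 0, 0, 0, 0, 0, 0, 1] : Fin 8 → ℤ) k) *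
    vec chevE8 8 s i = 60 * (![2, 3, 4, 6, 5, 4, 3, 2] : Fin 8 → ℤ) i := by (refine of_decide_eq_true ?_; (try (rewrite [Cfsg.Agent.LsF.sumF_pat, Cfsg.Agent.LsF.sumF_pat, Cfsg.Agent.LsF.f7913f8_5.2, Cfsg.Agent.LsF.iadd_pat, Cfsg.Agent.LsF.imul_pat, Cfsg.Agent.LsF.vecCons_eq, Cfsg.Agent.LsF.iACM_eq, Cfsg.Agent.LsF.instIDecEq_eq, Cfsg.Agent.LsF.dForallFin_eq, Cfsg.Agent.LsF.decide_eq])); decide +kernel)

private noncomputable def _root_.Cfsg.Agent.LsF.f7913f8_6 : {f // @Cfsg.Lie.ChevalleyDatum.cartan = f} := ⟨_, by first | (delta Cfsg.Lie.ChevalleyDatum.cartan; rewrite [Cfsg.Agent.LsF.agetD_eq]; exact rfl) | exact rfl⟩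
private noncomputable def _root_.Cfsg.Agent.LsF.f7913f8_7 : {f // @Cfsg.Lie.ChevalleyDatum.simple = f} := ⟨_, by first | (delta Cfsg.Lie.ChevalleyDatum.simple; rewrite [Cfsg.Agent.LsF.agetD_eq]; exact rfl) | exact rfl⟩
private noncomputable def _root_.Cfsg.Agent.LsF.f7913f8_8 : {f // @Cfsg.Agent.ChevalleyStructure.CoxeterGeomTypes.cartanOf = f} := ⟨_, by first | (delta Cfsg.Agent.ChevalleyStructure.CoxeterGeomTypes.cartanOf; rewrite [Cfsg.Agent.LsF.f7913f8_6.2, Cfsg.Agent.LsF.f7913f8_7.2]; exact rfl) | exact rfl⟩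
theorem pos8 : ∀ j : Fin 8, 0 < ∑ i, cartanOf chevE8 8 j i *
    ∑ s ∈ (Finset.univ : Finset (Fin chevE8.nroots)).filter (fun s : Fin chevE8.nroots => 120 ≤ (s : ℕ)), vec chevE8 8 s i := by
  (refine of_decide_eq_true ?_; (try (rewrite [Cfsg.Agent.LsF.sumF_pat, Cfsg.Agent.LsF.f7913f8_8.2, Cfsg.Agent.LsF.f7913f8_5.2, Cfsg.Agent.LsF.iadd_pat, Cfsg.Agent.LsF.imul_pat, Cfsg.Agent.LsF.finFintype_eq, Cfsg.Agent.LsF.fsum_eq, Cfsg.Agent.LsF.ffilter_eq, Cfsg.Agent.LsF.iACM_eq, Cfsg.Agent.LsF.decLe_eq, Cfsg.Agent.LsF.idecLt_eq, Cfsg.Agent.LsF.dForallFin_eq, Cfsg.Agent.LsF.decide_eq])); decide +kernel)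

theorem e8T : IsType chevE8 8 CoxeterMatrix.E₈ := by simp [IsType, typeList]

end Cfsg.Agent.H942.E8Tab
end

-- part: H943/E8Tab
section
set_option linter.all false

/-!
# Tables for `E8` (helper943)
-/

set_option autoImplicit false
set_option maxRecDepth 100000

namespace Cfsg.Agent.H943.E8Tab

open Cfsg.Agent.ChevalleyStructure.CoxeterGeom Cfsg.Agent.Tits.Roots
  Cfsg.Agent.Nodes.RGDChev
open Cfsg.Lie Cfsg.Agent.ChevalleyStructure Cfsg.Agent.ChevalleyStructure.Elts
  Cfsg.Agent.ChevalleyStructure.RootVec Cfsg.Agent.ChevalleyStructure.RootVecTab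
  Cfsg.Agent.ChevalleyStructure.NPerm Cfsg.Agent.ChevalleyStructure.CoxeterGeomTypes
open Cfsg.Agent.H944.RootVals Cfsg.Agent.H944.Kac Cfsg.Agent.H944.Tab

/-- The positive roots of `E₈`. -/
def R8 : List (List ℕ) :=
  [[0, 0, 0, 0, 0, 0, 0, 1], [0, 0, 0, 0, 0, 0, 1, 0], [0, 0, 0, 0, 0, 0, 1, 1], [0, 0, 0, 0, 0, 1, 0, 0],
    [0, 0, 0, 0, 0, 1, 1, 0], [0, 0, 0, 0, 0, 1, 1, 1], [0, 0, 0, 0, 1, 0, 0, 0], [0, 0, 0, 0, 1, 1, 0, 0],
    [0, 0, 0, 0, 1, 1, 1, 0], [0, 0, 0, 0, 1, 1, 1, 1], [0, 0, 0, 1, 0, 0, 0, 0], [0, 0, 0, 1, 1, 0, 0, 0],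
    [0, 0, 0, 1, 1, 1, 0, 0], [0, 0, 0, 1, 1, 1, 1, 0], [0, 0, 0, 1, 1, 1, 1, 1], [0, 0, 1, 0, 0, 0, 0, 0],
    [0, 0, 1, 1, 0, 0, 0, 0], [0, 0, 1, 1, 1, 0, 0, 0], [0, 0, 1, 1, 1, 1, 0, 0], [0, 0, 1, 1, 1, 1, 1, 0],
    [0, 0, 1, 1, 1, 1, 1, 1], [0, 1, 0, 0, 0, 0, 0, 0], [0, 1, 0, 1, 0, 0, 0, 0], [0, 1, 0, 1, 1, 0, 0, 0],
    [0, 1, 0, 1, 1, 1, 0, 0], [0, 1, 0, 1, 1, 1, 1, 0], [0, 1, 0, 1, 1, 1, 1, 1], [0, 1, 1, 1, 0, 0, 0, 0],
    [0, 1, 1, 1, 1, 0, 0, 0], [0, 1, 1, 1, 1, 1, 0, 0], [0, 1, 1, 1, 1, 1, 1, 0], [0, 1, 1, 1, 1, 1, 1, 1],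
    [0, 1, 1, 2, 1, 0, 0, 0], [0, 1, 1, 2, 1, 1, 0, 0], [0, 1, 1, 2, 1, 1, 1, 0], [0, 1, 1, 2, 1, 1, 1, 1],
    [0, 1, 1, 2, 2, 1, 0, 0], [0, 1, 1, 2, 2, 1, 1, 0], [0, 1, 1, 2, 2, 1, 1, 1], [0, 1, 1, 2, 2, 2, 1, 0],
    [0, 1, 1, 2, 2, 2, 1, 1], [0, 1, 1, 2, 2, 2, 2, 1], [1, 0, 0, 0, 0, 0, 0, 0], [1, 0, 1, 0, 0, 0, 0, 0],
    [1, 0, 1, 1, 0, 0, 0, 0], [1, 0, 1, 1, 1, 0, 0, 0], [1, 0, 1, 1, 1, 1, 0, 0], [1, 0, 1, 1, 1, 1, 1, 0],
    [1, 0, 1, 1, 1, 1, 1, 1], [1, 1, 1, 1, 0, 0, 0, 0], [1, 1, 1, 1, 1, 0, 0, 0], [1, 1, 1, 1, 1, 1, 0, 0],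
    [1, 1, 1, 1, 1, 1, 1, 0], [1, 1, 1, 1, 1, 1, 1, 1], [1, 1, 1, 2, 1, 0, 0, 0], [1, 1, 1, 2, 1, 1, 0, 0],
    [1, 1, 1, 2, 1, 1, 1, 0], [1, 1, 1, 2, 1, 1, 1, 1], [1, 1, 1, 2, 2, 1, 0, 0], [1, 1, 1, 2, 2, 1, 1, 0],
    [1, 1, 1, 2, 2, 1, 1, 1], [1, 1, 1, 2, 2, 2, 1, 0], [1, 1, 1, 2, 2, 2, 1, 1], [1, 1, 1, 2, 2, 2, 2, 1],
    [1, 1, 2, 2, 1, 0, 0, 0], [1, 1, 2, 2, 1, 1, 0, 0], [1, 1, 2, 2, 1, 1, 1, 0], [1, 1, 2, 2, 1, 1, 1, 1],
    [1, 1, 2, 2, 2, 1, 0, 0], [1, 1, 2, 2, 2, 1, 1, 0], [1, 1, 2, 2, 2, 1, 1, 1], [1, 1, 2, 2, 2, 2, 1, 0],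
    [1, 1, 2, 2, 2, 2, 1, 1], [1, 1, 2, 2, 2, 2, 2, 1], [1, 1, 2, 3, 2, 1, 0, 0], [1, 1, 2, 3, 2, 1, 1, 0],
    [1, 1, 2, 3, 2, 1, 1, 1], [1, 1, 2, 3, 2, 2, 1, 0], [1, 1, 2, 3, 2, 2, 1, 1], [1, 1, 2, 3, 2, 2, 2, 1],
    [1, 1, 2, 3, 3, 2, 1, 0], [1, 1, 2, 3, 3, 2, 1, 1], [1, 1, 2, 3, 3, 2, 2, 1], [1, 1, 2, 3, 3, 3, 2, 1],
    [1, 2, 2, 3, 2, 1, 0, 0], [1, 2, 2, 3, 2, 1, 1, 0], [1, 2, 2, 3, 2, 1, 1, 1], [1, 2, 2, 3, 2, 2, 1, 0],
    [1, 2, 2, 3, 2, 2, 1, 1], [1, 2, 2, 3, 2, 2, 2, 1], [1, 2, 2, 3, 3, 2, 1, 0], [1, 2, 2, 3, 3, 2, 1, 1],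
    [1, 2, 2, 3, 3, 2, 2, 1], [1, 2, 2, 3, 3, 3, 2, 1], [1, 2, 2, 4, 3, 2, 1, 0], [1, 2, 2, 4, 3, 2, 1, 1],
    [1, 2, 2, 4, 3, 2, 2, 1], [1, 2, 2, 4, 3, 3, 2, 1], [1, 2, 2, 4, 4, 3, 2, 1], [1, 2, 3, 4, 3, 2, 1, 0],
    [1, 2, 3, 4, 3, 2, 1, 1], [1, 2, 3, 4, 3, 2, 2, 1], [1, 2, 3, 4, 3, 3, 2, 1], [1, 2, 3, 4, 4, 3, 2, 1],
    [1, 2, 3, 5, 4, 3, 2, 1], [1, 3, 3, 5, 4, 3, 2, 1], [2, 2, 3, 4, 3, 2, 1, 0], [2, 2, 3, 4, 3, 2, 1, 1],
    [2, 2, 3, 4, 3, 2, 2, 1], [2, 2, 3, 4, 3, 3, 2, 1], [2, 2, 3, 4, 4, 3, 2, 1], [2, 2, 3, 5, 4, 3, 2, 1],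
    [2, 2, 4, 5, 4, 3, 2, 1], [2, 3, 3, 5, 4, 3, 2, 1], [2, 3, 4, 5, 4, 3, 2, 1], [2, 3, 4, 6, 4, 3, 2, 1],
    [2, 3, 4, 6, 5, 3, 2, 1], [2, 3, 4, 6, 5, 4, 2, 1], [2, 3, 4, 6, 5, 4, 3, 1], [2, 3, 4, 6, 5, 4, 3, 2]]

/-- The highest root of `E₈`. -/
def th8 : List ℕ := [2, 3, 4, 6, 5, 4, 3, 2]

theorem tab8 : chkTab chevE8 8 R8 = true := by decide +kernel

theorem len8 : ∀ r ∈ R8, r.length ≤ 8 := by decide +kernel

theorem theta8 : ∀ i : Fin 8, ∑ s : Fin chevE8.nroots, (∑ k, vec chevE8 8 s k * (![0, 0, 0, 0, 0, 0, 0, 1] : Fin 8 → ℤ) k) *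
    vec chevE8 8 s i = 60 * (![2, 3, 4, 6, 5, 4, 3, 2] : Fin 8 → ℤ) i := by decide +kernel

theorem pos8 : ∀ j : Fin 8, 0 < ∑ i, cartanOf chevE8 8 j i *
    ∑ s ∈ (Finset.univ : Finset (Fin chevE8.nroots)).filter (fun s : Fin chevE8.nroots => 120 ≤ (s : ℕ)), vec chevE8 8 s i := by
  decide +kernel

theorem e8T : IsType chevE8 8 CoxeterMatrix.E₈ := by simp [IsType, typeList]

end Cfsg.Agent.H943.E8Tab
end

-- part: H943/TorDim
section
prune_inst 0x3010750464e2000800182000f2003e62f6000400004b8c000c010a4c0d892c41ad018e21b3e02103daf088d40039804811100100420000000a000000011d04810002120082080008660098000104000000000000000000000000000000000000200000000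
set_option linter.all false
open scoped Cfsg.Agent.FastGrp

/-!
# Root values and the dimensions of the eigenspaces (helper943)

`exists_vals_dim` : the vector of `H944.RootVals.exists_vals` relative to a given primitive root of unity, with the
dimensions of the eigenspaces over the algebraic closure.
-/

set_option autoImplicit false
set_option linter.unusedSectionVars false

namespace Cfsg.Agent.H943.TorDim

open Cfsg.Agent.ChevalleyStructure.CoxeterGeom Cfsg.Agent.Tits.Roots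
  Cfsg.Agent.Nodes.Reps Cfsg.Agent.Nodes.BNOf Cfsg.Agent.Nodes.RGDChev Cfsg.Agent.KFacts.RgdChevCoord
open Cfsg.Lie Cfsg.Agent.ChevalleyStructure Cfsg.Agent.ChevalleyStructure.Elts
  Cfsg.Agent.ChevalleyStructure.RootVecTab
  Cfsg.Agent.ChevalleyStructure.CoxeterGeomTypes
  Cfsg.Agent.BpExc.TorAll Cfsg.Agent.BpExc.TorChev
open Cfsg.Agent.GpExc.Field (glMap emb coe_emb coe_glMap emb_injective)
open Cfsg.Agent.H944.RootVals

universe u

theorem finrank_ker_conj_diag {ι K : Type*} [Fintype ι] [DecidableEq ι] [Field K] [DecidableEq K] (P : GL ι K)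
    (d : ι → K) {A : Matrix ι ι K}
    (hA : (P : Matrix ι ι K) * A * ((P⁻¹ : GL ι K) : Matrix ι ι K) = Matrix.diagonal d) (μ : K) :
    Module.finrank K (LinearMap.ker (Matrix.toLin' A - μ • (1 : Module.End K (ι → K)))) =
      (Finset.univ.filter fun i => d i = μ).card := by
  have e1 : Matrix.toLin' A - μ • (1 : Module.End K (ι → K)) = Matrix.toLin' (A - Matrix.scalar ι μ) := by
    rw [map_sub]
    congr 1
    ext i j
    simp only [Matrix.toLin'_apply, Matrix.scalar_apply, Matrix.mulVec_diagonal, _root_.LinearMap.coe_comp, _root_.LinearMap.coe_smul, _root_.LinearMap.coe_single, _root_.Function.comp_apply, _root_.Pi.smul_apply, _root_.Module.End.one_apply, _root_.smul_eq_mul, _root_.Matrix.scalar_apply, _root_.Matrix.toLin'_apply, _root_.Matrix.mulVec_diagonal]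
  have e2 : (A - Matrix.scalar ι μ).rank = Fintype.card {i // d i - μ ≠ 0} := by
    rw [← Matrix.rank_diagonal]
    have h1 : Matrix.diagonal (fun i => d i - μ) = (P : Matrix ι ι K) * (A - Matrix.scalar ι μ) *
        ((P⁻¹ : GL ι K) : Matrix ι ι K) := by
      rw [Matrix.mul_sub, Matrix.sub_mul, hA]
      have h2 : (P : Matrix ι ι K) * Matrix.scalar ι μ * ((P⁻¹ : GL ι K) : Matrix ι ι K) = Matrix.diagonal fun _ => μ := by
        have h3 : (P : Matrix ι ι K) * Matrix.scalar ι μ = Matrix.scalar ι μ * (P : Matrix ι ι K) := by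
          exact ((Matrix.scalar_commute μ (fun r => mul_comm _ _) _)).symm.eq
        rw [h3, Matrix.mul_assoc, ← Units.val_mul, mul_inv_cancel, Units.val_one, mul_one]
        rfl
      rw [h2, Matrix.diagonal_sub]
    rw [h1]
    have hP : IsUnit ((P : Matrix ι ι K)).det := (Matrix.isUnit_iff_isUnit_det _).1 P.isUnit
    have hP' : IsUnit (((P⁻¹ : GL ι K) : Matrix ι ι K)).det := (Matrix.isUnit_iff_isUnit_det _).1 (P⁻¹).isUnit
    rw [Matrix.rank_mul_eq_left_of_isUnit_det _ _ hP', Matrix.rank_mul_eq_right_of_isUnit_det _ _ hP]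
  have e3 : (A - Matrix.scalar ι μ).rank + Module.finrank K (LinearMap.ker (Matrix.toLin' (A - Matrix.scalar ι μ))) =
      Fintype.card ι := by
    have := LinearMap.finrank_range_add_finrank_ker (Matrix.toLin' (A - Matrix.scalar ι μ))
    rw [Module.finrank_fintype_fun_eq_card] at this
    rw [← this]
    rfl
  rw [e1]
  have e4 : Fintype.card {i // d i - μ ≠ 0} = (Finset.univ.filter fun i => ¬ d i = μ).card := by
    rw [Fintype.card_subtype]
    congr 1
    ext i
    simp only [sub_eq_zero, _root_.ne_eq, _root_.sub_eq_zero, _root_.Finset.mem_filter, _root_.Finset.mem_univ, _root_.true_and]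
  have e5 := Finset.card_filter_add_card_filter_not (s := (Finset.univ : Finset ι)) (fun i => d i = μ)
  rw [Finset.card_univ] at e5
  omega

theorem card_filter_eq_count {ι K : Type*} [Fintype ι] [DecidableEq K] (d : ι → K) (μ : K) :
    (Finset.univ.filter fun i => d i = μ).card = ((Finset.univ : Finset ι).val.map d).count μ := by
  rw [Multiset.count_map]
  show (Multiset.filter (fun i => d i = μ) Finset.univ.val).card = _
  congr 1
  exact Multiset.filter_congr fun i _ => eq_comm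

theorem univ_elim {m : ℕ} {β K : Type*} [Fintype β] [Field K] (f : β → K) :
    (Finset.univ : Finset (Fin m ⊕ β)).val.map (Sum.elim (fun _ => (1 : K)) f) =
      Multiset.replicate m (1 : K) + (Finset.univ : Finset β).val.map f := by
  rw [← Finset.univ_disjSum_univ, Finset.val_disjSum, Multiset.disjSum, Multiset.map_add, Multiset.map_map,
    Multiset.map_map]
  congr 1
  have : (Sum.elim (fun _ : Fin m => (1 : K)) f ∘ Sum.inl) = fun _ => (1 : K) := rfl
  rw [this, Multiset.map_const']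
  congr 1
  exact Finset.card_fin m

variable {D : ChevalleyDatum} {l : ℕ} {M : CoxeterMatrix (Fin l)} (hp : IsType D l M)

include hp in
/-- **Root values of an element of order prime to `p`, with the dimensions of the eigenspaces.** -/
theorem exists_vals_dim (p : ℕ) [Fact p.Prime] {F : Type u} [Field F] [Finite F] [CharP F p] {x : ↥(D.group F)} {N : ℕ}
    (hN0 : N ≠ 0) (hN : N.Coprime p) (hx : x ^ N = 1) {ζ : AlgebraicClosure F} (hζ : IsPrimitiveRoot ζ N)
    [DecidableEq (AlgebraicClosure F)] :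
    ∃ v : Fin l → ZMod N, Vals (l := l) x N v ∧ ∀ μ : AlgebraicClosure F,
      Module.finrank (AlgebraicClosure F) (LinearMap.ker (Matrix.toLin' ((((x : ↥(D.group F)) : GL D.Idx F) :
        Matrix D.Idx D.Idx F).map (algebraMap F (AlgebraicClosure F))) - μ • (1 : Module.End (AlgebraicClosure F)
          (D.Idx → AlgebraicClosure F)))) =
        (Multiset.replicate D.rank (1 : AlgebraicClosure F) + (ms D l v).map (fun b => ζ ^ b.val)).count μ := by
  classical
  have : NeZero N := ⟨hN0⟩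
  have : Fintype F := Fintype.ofFinite F
  let k := AlgebraicClosure F
  have hkch : CharP k p := charP_of_injective_algebraMap (algebraMap F k).injective p
  have hk' : HAlg p k := hAlg_closure p F
  set f : F →+* k := algebraMap F k with hf
  set x' : ↥(D.group k) := emb hp.inList f x with hx'
  have hxN : x' ^ N = 1 := by rw [hx', ← map_pow, hx, map_one]
  obtain ⟨g, hg⟩ := Cfsg.Agent.H944.TorAnyChev.exists_conj_mem_TT hp p hk' hN0 hN hxN
  set t := g * x' * g⁻¹ with ht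
  obtain ⟨c, hc⟩ := TT_diag hp hg
  have htN : t ^ N = 1 := by rw [ht, conj_pow, hxN, mul_one, mul_inv_cancel]
  -- the powers of `t`
  have hpow : ∀ d : ℕ, (((t ^ d : ↥(D.group k)) : GL D.Idx k) : Matrix D.Idx D.Idx k) =
      Matrix.diagonal (Sum.elim (fun _ => (1 : k)) (fun s : Fin D.nroots =>
        ((∏ i, c i ^ (vec D l s i) : kˣ) : k) ^ d)) := by
    intro d
    rw [Subgroup.coe_pow, Units.val_pow_eq_pow_val, hc, Matrix.diagonal_pow]
    congr 1
    funext i
    rcases i with i | i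
    · simp only [_root_.Units.coe_prod, _root_.Units.val_zpow_eq_zpow_val, _root_.Pi.pow_apply, _root_.Sum.elim_inl, _root_.one_pow]
    · simp only [_root_.Units.coe_prod, _root_.Units.val_zpow_eq_zpow_val, _root_.Pi.pow_apply, _root_.Sum.elim_inr]
  -- the value on the simple roots
  have hsimple : ∀ j : Fin l, ∃ s : Fin D.nroots, (∏ i, c i ^ (vec D l s i) : kˣ) = c j := by
    intro j
    have hlt := NPerm.simple_lt hp.inList (lt_rank hp j)
    refine ⟨⟨D.simple j, hlt⟩, ?_⟩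
    show (∏ i, c i ^ (vec D l (D.simple j) i) : kˣ) = c j
    rw [vec_simple hp j, Finset.prod_eq_single j]
    · rw [sr_self, zpow_one]
    · intro i _ hij
      rw [sr_ne hij, zpow_zero]
    · intro h
      exact absurd (Finset.mem_univ j) h
  have hcN : ∀ d : ℕ, t ^ d = 1 ↔ ∀ j, c j ^ d = 1 := by
    intro d
    constructor
    · intro h1 j
      obtain ⟨s, hs⟩ := hsimple j
      have h2 := hpow d
      rw [h1, Subgroup.coe_one, Units.val_one] at h2
      have h3 := congrFun (congrFun h2 (Sum.inr s)) (Sum.inr s)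
      rw [Matrix.one_apply_eq, Matrix.diagonal_apply_eq, Sum.elim_inr, hs, ← Units.val_pow_eq_pow_val] at h3
      exact Units.ext h3.symm
    · intro h1
      apply Subtype.ext
      apply Units.ext
      rw [hpow, Subgroup.coe_one, Units.val_one, ← Matrix.diagonal_one]
      congr 1
      funext i
      rcases i with i | i
      · rfl
      · rw [Sum.elim_inr, ← Units.val_pow_eq_pow_val, ← Finset.prod_pow]
        have : ∀ j ∈ (Finset.univ : Finset (Fin l)), (c j ^ vec D l i j) ^ d = 1 := by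
          intro j _
          rw [← zpow_natCast, ← zpow_mul, mul_comm, zpow_mul, zpow_natCast, h1, one_zpow]
        rw [Finset.prod_congr rfl this, Finset.prod_const_one, Units.val_one]
  have hcN' : ∀ j, c j ^ N = 1 := (hcN N).1 htN
  -- a primitive root of unity
  have hNk : ((N : ℕ) : k) ≠ 0 := by
    intro h0
    have h1 : p ∣ N := (CharP.cast_eq_zero_iff k p N).1 h0
    have h2 : p ∣ 1 := by
      rw [← hN]
      exact Nat.dvd_gcd h1 dvd_rfl
    exact (Fact.out : p.Prime).one_lt.ne' (Nat.dvd_one.1 h2)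
  have : NeZero ((N : ℕ) : k) := ⟨hNk⟩
  have hζu : IsPrimitiveRoot (hζ.toRootsOfUnity : kˣ) N := by
    rw [IsPrimitiveRoot.coe_units_iff.symm]
    exact hζ
  set z : kˣ := (hζ.toRootsOfUnity : kˣ) with hz
  have hex : ∀ j, ∃ a : ℕ, z ^ a = c j := by
    intro j
    have h1 : ((c j : kˣ) : k) ^ N = 1 := by
      rw [← Units.val_pow_eq_pow_val, hcN' j, Units.val_one]
    obtain ⟨a, -, ha⟩ := hζ.eq_pow_of_pow_eq_one h1
    refine ⟨a, Units.ext ?_⟩
    rw [Units.val_pow_eq_pow_val, ← ha]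
    rfl
  choose a ha using hex
  let v : Fin l → ZMod N := fun j => (a j : ZMod N)
  -- the values
  let pw : ZMod N → k := fun b => ((z ^ b.val : kˣ) : k)
  have hzpow : ∀ m : ℤ, z ^ m = z ^ ((m : ZMod N).val) := by
    intro m
    rw [← zpow_natCast, ZMod.val_intCast]
    have h1 : z ^ (N : ℤ) = 1 := by rw [zpow_natCast]; exact hζu.pow_eq_one
    conv_lhs => rw [← Int.emod_add_mul_ediv m N]
    rw [zpow_add, zpow_mul, h1, one_zpow, mul_one]
  have hpw_inj : Function.Injective pw := by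
    intro b b' h
    have h1 : z ^ b.val = z ^ b'.val := Units.ext h
    exact ZMod.val_injective N (hζu.pow_inj (ZMod.val_lt b) (ZMod.val_lt b') h1)
  have hval : ∀ s : Fin D.nroots, ((∏ i, c i ^ (vec D l s i) : kˣ) : k) =
      pw (∑ i, (vec D l s i : ZMod N) * v i) := by
    intro s
    have h1 : ∏ i, c i ^ (vec D l s i) = z ^ (∑ i, vec D l s i * (a i : ℤ)) := by
      have h2 : ∀ S : Finset (Fin l), ∏ i ∈ S, c i ^ (vec D l s i) = z ^ (∑ i ∈ S, vec D l s i * (a i : ℤ)) := by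
        intro S
        induction S using Finset.induction_on with
        | empty => simp
        | insert b S hb ih =>
          rw [Finset.prod_insert hb, Finset.sum_insert hb, zpow_add, ih, ← ha b, mul_comm (vec D l s b), zpow_mul,
            zpow_natCast]
      exact h2 _
    rw [h1, hzpow]
    congr 3
    push_cast
    rfl
  have hpwmul : ∀ (m : ℕ) (b : ZMod N), pw b ^ m = pw ((m : ZMod N) * b) := by
    intro m b
    show (((z ^ b.val : kˣ) : k)) ^ m = ((z ^ ((m : ZMod N) * b).val : kˣ) : k)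
    rw [← Units.val_pow_eq_pow_val, ← pow_mul]
    congr 1
    have h1 := hzpow ((b.val * m : ℕ) : ℤ)
    rw [zpow_natCast] at h1
    rw [h1]
    congr 2
    push_cast
    rw [ZMod.natCast_zmod_val, mul_comm]
  -- multisets
  have hms : ∀ m : ℕ, (Finset.univ : Finset (Fin D.nroots)).val.map
      (fun s : Fin D.nroots => ((∏ i, c i ^ (vec D l s i) : kˣ) : k) ^ m) = ((ms D l v).map (fun b => (m : ZMod N) * b)).map pw := by
    intro m
    unfold ms
    rw [Multiset.map_map, Multiset.map_map]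
    refine Multiset.map_congr rfl fun s _ => ?_
    simp only [Function.comp_apply]
    rw [hval, hpwmul]
  have hms1 : (Finset.univ : Finset (Fin D.nroots)).val.map
      (fun s : Fin D.nroots => ((∏ i, c i ^ (vec D l s i) : kˣ) : k)) = (ms D l v).map pw := by
    unfold ms
    rw [Multiset.map_map]
    refine Multiset.map_congr rfl fun s _ => ?_
    exact hval s
  -- the characteristic polynomial of `t`
  have hchart : ∀ d : ℕ, (((t ^ d : ↥(D.group k)) : GL D.Idx k) : Matrix D.Idx D.Idx k).charpoly =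
      ((((x ^ d : ↥(D.group F)) : GL D.Idx F) : Matrix D.Idx D.Idx F).charpoly).map f := by
    intro d
    have h1 : t ^ d = g * x' ^ d * g⁻¹ := by rw [ht, conj_pow]
    rw [h1, Subgroup.coe_mul, Subgroup.coe_mul, Subgroup.coe_inv, Units.val_mul, Units.val_mul,
      Matrix.coe_units_inv]
    have h2 := Matrix.charpoly_units_conj ((g : GL D.Idx k)) (((x' ^ d : ↥(D.group k)) : GL D.Idx k) : Matrix D.Idx D.Idx k)
    rw [h2, ← Matrix.charpoly_map]
    congr 1
    rw [hx', ← map_pow, coe_emb, coe_glMap]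
  refine ⟨v, ⟨?_, ?_, ?_⟩, ?_⟩
  · intro d
    have h1 : x ^ d = 1 ↔ t ^ d = 1 := by
      have h2 : t ^ d = g * x' ^ d * g⁻¹ := by rw [ht, conj_pow]
      rw [h2, conj_eq_one_iff, hx', ← map_pow]
      constructor
      · intro h; rw [h, map_one]
      · intro h
        exact emb_injective hp.inList f (by rw [h, map_one])
    rw [h1, hcN]
    refine forall_congr' fun j => ?_
    have h3 : c j ^ d = z ^ (((d : ZMod N) * v j).val) := by
      rw [← ha j, ← pow_mul]
      have h4 := hzpow ((a j * d : ℕ) : ℤ)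
      rw [zpow_natCast] at h4
      rw [h4]
      congr 2
      show (((a j * d : ℕ) : ℤ) : ZMod N) = (d : ZMod N) * (a j : ZMod N)
      push_cast
      rw [mul_comm]
    rw [h3]
    constructor
    · intro h; rw [h, ZMod.val_zero, pow_zero]
    · intro h
      have h5 : z ^ (((d : ZMod N) * v j).val) = z ^ (0 : ZMod N).val := by rw [h, ZMod.val_zero, pow_zero]
      have h6 := hζu.pow_inj (ZMod.val_lt _) (ZMod.val_lt _) h5
      exact ZMod.val_injective N h6
  · -- Frobenius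
    have hq : Nat.card F = Fintype.card F := Nat.card_eq_fintype_card
    obtain ⟨⟨m, hm⟩, hp', hcard⟩ := FiniteField.card F p
    simp only [PNat.mk_coe] at hcard
    let φ : k →+* k := iterateFrobenius k p m
    have hφf : ∀ b : F, φ (f b) = f b := by
      intro b
      show iterateFrobenius k p m (f b) = f b
      rw [iterateFrobenius_def, ← map_pow, ← hcard, FiniteField.pow_card]
    have h1 := hchart 1
    rw [pow_one, pow_one] at h1
    have h2 : ((((t : ↥(D.group k)) : GL D.Idx k) : Matrix D.Idx D.Idx k).map φ).charpoly =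
        (((t : ↥(D.group k)) : GL D.Idx k) : Matrix D.Idx D.Idx k).charpoly := by
      rw [Matrix.charpoly_map, h1, Polynomial.map_map]
      congr 1
      ext b
      exact hφf b
    rw [hc, Matrix.diagonal_map (map_zero φ)] at h2
    have h3 := diag_multiset h2
    have h4 : (φ ∘ Sum.elim (fun _ : Fin D.rank => (1 : k)) (fun s : Fin D.nroots => ((∏ i, c i ^ (vec D l s i) : kˣ) : k))) =
        Sum.elim (fun _ : Fin D.rank => (1 : k)) (fun s : Fin D.nroots => ((∏ i, c i ^ (vec D l s i) : kˣ) : k) ^ (Nat.card F)) := by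
      funext i
      rcases i with i | i
      · simp only [_root_.Units.coe_prod, _root_.Units.val_zpow_eq_zpow_val, _root_.Function.comp_apply, _root_.Sum.elim_inl, _root_.map_one, _root_.Nat.card_eq_fintype_card]
      · simp only [Function.comp_apply, Sum.elim_inr]
        show iterateFrobenius k p m _ = _
        rw [iterateFrobenius_def, hq, hcard]
    have h3' : (Finset.univ : Finset (Fin D.rank ⊕ Fin D.nroots)).val.map
        (φ ∘ Sum.elim (fun _ => (1 : k)) (fun s : Fin D.nroots => ((∏ i, c i ^ (vec D l s i) : kˣ) : k))) =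
        (Finset.univ : Finset (Fin D.rank ⊕ Fin D.nroots)).val.map
        (Sum.elim (fun _ => (1 : k)) (fun s : Fin D.nroots => ((∏ i, c i ^ (vec D l s i) : kˣ) : k))) := h3
    rw [h4] at h3'
    have h5 := cancel_inl h3'
    rw [hms1, hms] at h5
    exact (Multiset.map_injective hpw_inj h5).symm
  · -- conjugation
    rintro b ⟨g', hg'⟩
    have h1 := hchart 1
    rw [pow_one, pow_one] at h1
    have h2 : (((t ^ b : ↥(D.group k)) : GL D.Idx k) : Matrix D.Idx D.Idx k).charpoly =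
        (((t : ↥(D.group k)) : GL D.Idx k) : Matrix D.Idx D.Idx k).charpoly := by
      rw [hchart, h1, ← hg', Subgroup.coe_mul, Subgroup.coe_mul, Subgroup.coe_inv, Units.val_mul, Units.val_mul,
        Matrix.coe_units_inv, Matrix.charpoly_units_conj]
    rw [hpow, hc] at h2
    have h3 := cancel_inl (diag_multiset h2)
    rw [hms1, hms] at h3
    exact (Multiset.map_injective hpw_inj h3).symm
  · -- the dimensions of the eigenspaces
    intro μ
    have h1 : ((g : GL D.Idx k) : Matrix D.Idx D.Idx k) * (((x : ↥(D.group F)) : GL D.Idx F) :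
        Matrix D.Idx D.Idx F).map (algebraMap F (AlgebraicClosure F)) * ((((g : GL D.Idx k))⁻¹ : GL D.Idx k) : Matrix D.Idx D.Idx k) =
        Matrix.diagonal (Sum.elim (fun _ => (1 : k)) (fun s : Fin D.nroots =>
        ((∏ i, c i ^ (vec D l s i) : kˣ) : k))) := by
      rw [← hc, ht, Subgroup.coe_mul, Subgroup.coe_mul, Subgroup.coe_inv, Units.val_mul, Units.val_mul, hx', coe_emb,
        coe_glMap]
    rw [finrank_ker_conj_diag _ _ h1 μ, card_filter_eq_count, univ_elim, hms1]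
    have hpw : pw = fun b => ζ ^ b.val := by
      funext b
      show ((z ^ b.val : kˣ) : k) = ζ ^ b.val
      rw [Units.val_pow_eq_pow_val]
      rfl
    rw [hpw]

end Cfsg.Agent.H943.TorDim
end

-- part: H943/E8Alc
section
set_option linter.all false
open scoped Cfsg.Agent.FastGrp

/-!
# Alcove points for `E8` (helper943)
-/

set_option autoImplicit false
set_option maxRecDepth 100000

namespace Cfsg.Agent.H943.E8Tab

open Cfsg.Agent.ChevalleyStructure.CoxeterGeom Cfsg.Agent.Tits.Roots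
  Cfsg.Agent.Nodes.RGDChev
open Cfsg.Lie Cfsg.Agent.ChevalleyStructure Cfsg.Agent.ChevalleyStructure.Elts
  Cfsg.Agent.ChevalleyStructure.RootVec Cfsg.Agent.ChevalleyStructure.RootVecTab
  Cfsg.Agent.ChevalleyStructure.NPerm Cfsg.Agent.ChevalleyStructure.CoxeterGeomTypes
open Cfsg.Agent.H944.RootVals Cfsg.Agent.H944.Kac Cfsg.Agent.H944.Tab

/-- a list as a vector modulo `N` -/
def vecOf (N : ℕ) (Y : List ℕ) : Fin 8 → ZMod N := fun i => ((Y.getD i 0 : ℕ) : ZMod N)

/-- **the alcove points of `E8`** -/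
theorem alcove8 {N : ℕ} (hN : 0 < N) (P : (Fin 8 → ZMod N) → Prop) (hP : ∀ v j, P v → P (srefl chevE8 8 j v))
    {v₀ : Fin 8 → ZMod N} (h0 : P v₀) : ∃ Y : List ℕ, Y.length = 8 ∧ dotN th8 Y ≤ N ∧ P (vecOf N Y) := by
  obtain ⟨y, hy, hθ⟩ := exists_alcove e8T hN _ _ 60 (by norm_num) theta8 (by decide) _ pos8 P hP h0
  let Y : List ℕ := List.ofFn y
  have hY : ∀ i : Fin 8, Y.getD i 0 = y i := by
    intro i
    rw [List.getD_eq_getElem _ _ (by rw [List.length_ofFn]; exact i.2), List.getElem_ofFn]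
  refine ⟨Y, List.length_ofFn, ?_, ?_⟩
  · rw [dotN_eq 8 th8 Y (by decide)]
    have h2 : ∑ i : Fin 8, th8.getD i 0 * Y.getD i 0 = ∑ i : Fin 8, th8.getD i 0 * y i :=
      Finset.sum_congr rfl fun i _ => by rw [hY]
    rw [h2]
    simp only [Fin.sum_univ_eight, Matrix.cons_val] at hθ ⊢
    simp only [th8, List.getD_cons_zero, List.getD_cons_succ, Fin.val_zero, Fin.val_one, Fin.val_two] at hθ ⊢
    norm_num at hθ ⊢
    omega
  · convert hy using 2 with i
    unfold vecOf
    rw [hY]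

theorem dotF_vecOf {N : ℕ} {r : List ℕ} (hr : r.length ≤ 8) (Y : List ℕ) :
    dotF r (vecOf N Y) = ((dotN r Y : ℕ) : ZMod N) := by
  rw [dotN_eq 8 r Y hr]
  unfold dotF vecOf
  push_cast
  rfl

theorem sum_vecOf {N : ℕ} {A : Type*} [AddCommMonoid A] (Y : List ℕ) (g : ZMod N → A) :
    ((ms chevE8 8 (vecOf N Y)).map g).sum =
      (R8.map fun r => g ((dotN r Y : ℕ) : ZMod N) + g (-((dotN r Y : ℕ) : ZMod N))).sum := by
  rw [sum_ms tab8]
  congr 1
  exact List.map_congr_left fun r hr => by rw [dotF_vecOf (len8 r hr)]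

theorem count_eq_sum {N : ℕ} (v : Fin 8 → ZMod N) (a : ZMod N) :
    (ms chevE8 8 v).count a = ((ms chevE8 8 v).map fun b => if b = a then 1 else 0).sum := by
  rw [Multiset.count_eq_card_filter_eq]
  generalize ms chevE8 8 v = s
  induction s using Multiset.induction_on with
  | empty => simp
  | cons b s ih =>
    rw [Multiset.map_cons, Multiset.sum_cons, ← ih]
    by_cases h : b = a
    · subst h
      rw [Multiset.filter_cons_of_pos _ rfl, Multiset.card_cons, if_pos rfl]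
      ring
    · rw [Multiset.filter_cons_of_neg _ (fun h' => h h'.symm), if_neg h, zero_add]

theorem check2 : allAlc th8 2 (fun y => (y == [0, 0, 0, 0, 0, 0, 0, 0] || y == [0, 0, 0, 0, 0, 0, 0, 1] ||
    y == [1, 0, 0, 0, 0, 0, 0, 0])) = true := by decide +kernel

/-- **the values of an involution** -/
theorem count_two {v : Fin 8 → ZMod 2} (hv : v ≠ 0) :
    (ms chevE8 8 v).count 0 = 128 ∨ (ms chevE8 8 v).count 0 = 112 := by
  obtain ⟨Y, hYl, hYθ, hms, hY0⟩ := alcove8 (N := 2) (by norm_num)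
    (fun w => ms chevE8 8 w = ms chevE8 8 v ∧ w ≠ 0)
    (fun w j h => ⟨by rw [ms_srefl e8T, h.1], fun h0 => h.2 (srefl_eq_zero e8T h0)⟩) ⟨rfl, hv⟩
  have h1 := allAlc_spec th8 2 _ (by decide) check2 Y hYl hYθ
  simp only [Bool.or_eq_true, beq_iff_eq] at h1
  rw [← hms, count_eq_sum, sum_vecOf]
  rcases h1 with (h1 | h1) | h1
  · refine absurd ?_ hY0
    subst h1
    funext i
    fin_cases i <;> rfl
  · left
    subst h1
    decide +kernel
  · right
    subst h1
    decide +kernel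

end Cfsg.Agent.H943.E8Tab

private theorem dce_bb7d5f258dbb : _root_.True := by
  try have : _root_.True := by simp only [_root_.Cfsg.Agent.H943.E8Tab.th8.eq_1]
  exact _root_.True.intro
end
end
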