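import Cfsg.Agent.BpExc.TorCent
set_option linter.all false

/-!
# Directed unions of root group data (S1332-EXC, helper12)

`Tow cs h r T n X` : a directed family of root group data `RGD cs h r (T j) n (X j)` inside ONE ambient group `Y`
(`T j`, `X j a` subgroups of `Y`, the same `n i`): e.g. `Y = D.group k`, `k` algebraically closed, `X j a = x_a(E j)`,
`E j` the finite subfields. `TL = ⋃ T j`, `XL a = ⋃ X j a`.

* `nsys : NSys M (TL T) n`, `rp_up`, `rp_down`;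
* `mem_Sup`, `mem_GG` : membership is decided at a finite level;
* `exists_normal_form`, `normal_form_unique` (Bruhat decomposition in the union);
* `conj_form` : `c s = t c`, `s t ∈ TL` : `c = u k v`, `u ∈ C(t)`, `k s = t k`, `v ∈ C(s)`.
-/

set_option autoImplicit false
set_option linter.unusedSectionVars false
set_option linter.dupNamespace false

namespace Cfsg.Agent.BpExc.Tow

open CoxeterSystem Cfsg.Agent.ChevalleyStructure.CoxeterGeom Cfsg.Agent.Tits.Roots Cfsg.Agent.Tits.Core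
  Cfsg.Agent.Tits.RootComb Cfsg.Agent.Tits.Exchange Cfsg.Agent.Nodes.Reps Cfsg.Agent.Nodes.BNOf
  Cfsg.Agent.Nodes.StabComb Cfsg.Agent.Nodes.Bruhat Cfsg.Agent.Nodes.OppDec Cfsg.Agent.Nodes.LeviDec
  Cfsg.Agent.Nodes.NormalForm Cfsg.Agent.Nodes.SubComb Cfsg.Agent.KFacts.RgdField
open scoped commutatorElement

variable {I W Y : Type*} [Fintype I] [DecidableEq I] [Group W] [Group Y] {M : CoxeterMatrix I}
  {cs : CoxeterSystem M W} {A : I → I → ℤ} {h : IsCartan M A} {p : ℕ}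

/-! ### finite level -/

section Fin

variable {T : Subgroup Y} {n : I → Y} {X : (I → ℤ) → Subgroup Y} (R : RGD cs h p T n X)

include R

/-- The normal form of an element conjugating `s ∈ T` to `t ∈ T`. -/
theorem conj_form' [Finite W] {s t : Y} (hs : s ∈ T) (ht : t ∈ T) {w : W} {u k v : Y}
    (hu : u ∈ RGD.Sup X (RGD.Pos cs h)) (hk : Rp cs R.nsys w k) (hv : v ∈ RGD.Sup X (NW cs h w))
    (hc : u * k * v * s = t * (u * k * v)) : t * u = u * t ∧ k * s = t * k ∧ s * v = v * s := by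
  have key : t * u * t⁻¹ = u ∧ t * k * s⁻¹ = k ∧ s * v * s⁻¹ = v := by
    refine normal_form_unique R ((Subgroup.mem_normalizer_iff.1 (R.T_le_normalizer_U ht) u).1 hu) hu ?_ hk
      ((Subgroup.mem_normalizer_iff.1 (R.T_le_normalizer (S := NW cs h w) (fun x hx => hx.1) hs) v).1 hv) hv ?_
    · have h2 := (rp_of_mem (cs := cs) (hN := R.nsys) ht).mul (hk.mul_mem_right (inv_mem hs))
      rw [one_mul] at h2
      rw [mul_assoc]; exact h2
    · have e : t * u * t⁻¹ * (t * k * s⁻¹) * (s * v * s⁻¹) = t * (u * k * v) * s⁻¹ := by group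
      rw [e, ← hc]; group
  obtain ⟨h1, h2, h3⟩ := key
  refine ⟨mul_inv_eq_iff_eq_mul.1 h1, ?_, mul_inv_eq_iff_eq_mul.1 h3⟩
  exact (mul_inv_eq_iff_eq_mul.1 h2).symm

/-- **Elements of `T` conjugate in `GG` are conjugate in `N`.** -/
theorem conj_form [Finite W] {s t : Y} (hs : s ∈ T) (ht : t ∈ T) {c : Y} (hc : c ∈ GG cs h T X)
    (e : c * s = t * c) :
    ∃ u ∈ RGD.Sup (fun x => X x ⊓ Subgroup.centralizer {t}) (RGD.Pos cs h),
      ∃ w k, Rp cs R.nsys w k ∧ k * s = t * k ∧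
      ∃ v ∈ RGD.Sup (fun x => X x ⊓ Subgroup.centralizer {s}) (RGD.Pos cs h), c = u * k * v := by
  obtain ⟨w, hw⟩ := (mem_GG R).1 hc
  obtain ⟨u, hu, k, hk, v, hv, rfl⟩ := exists_normal_form R hw
  obtain ⟨h1, h2, h3⟩ := conj_form' R hs ht hu hk hv e
  have hv' : v ∈ RGD.Sup X (RGD.Pos cs h) :=
    RGD.Sup_mono (S := NW cs h w) (S' := RGD.Pos cs h) (fun x hx => ⟨hx.1, hx.2.1⟩) hv
  refine ⟨u, ?_, w, k, hk, h2, v, ?_, rfl⟩
  · rw [← centralizer_U R (Set.singleton_subset_iff.2 ht)]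
    exact ⟨hu, Subgroup.mem_centralizer_singleton_iff.2 h1.symm⟩
  · rw [← centralizer_U R (Set.singleton_subset_iff.2 hs)]
    exact ⟨hv', Subgroup.mem_centralizer_singleton_iff.2 h3.symm⟩

end Fin

/-! ### the tower -/

section Lim

variable {J : Type*} [Preorder J]

/-- A directed family of root group data in one ambient group. -/
structure Tow (cs : CoxeterSystem M W) (h : IsCartan M A) (p : ℕ) (T : J → Subgroup Y) (n : I → Y)
    (X : J → (I → ℤ) → Subgroup Y) : Prop where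
  ne : Nonempty J
  dir : ∀ a b : J, ∃ c, a ≤ c ∧ b ≤ c
  rgd : ∀ j, RGD cs h p (T j) n (X j)
  monoT : Monotone T
  monoX : ∀ a, Monotone fun j => X j a

/-- the union of the tori -/
def TL (T : J → Subgroup Y) : Subgroup Y := ⨆ j, T j

/-- the union of the root groups -/
def XL (X : J → (I → ℤ) → Subgroup Y) (a : I → ℤ) : Subgroup Y := ⨆ j, X j a

variable {T : J → Subgroup Y} {n : I → Y} {X : J → (I → ℤ) → Subgroup Y} (H : Tow cs h p T n X)

include H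

theorem Tow.directed {S : J → Subgroup Y} (hS : Monotone S) : Directed (· ≤ ·) S := fun a b => by
  obtain ⟨c, h1, h2⟩ := H.dir a b
  exact ⟨c, hS h1, hS h2⟩

theorem Tow.mem_iSup {S : J → Subgroup Y} (hS : Monotone S) {y : Y} : y ∈ ⨆ j, S j ↔ ∃ j, y ∈ S j := by
  have := H.ne
  exact Subgroup.mem_iSup_of_directed (H.directed hS)

theorem Tow.mem_TL {y : Y} : y ∈ TL T ↔ ∃ j, y ∈ T j := H.mem_iSup H.monoT

theorem Tow.mem_XL {a : I → ℤ} {y : Y} : y ∈ XL X a ↔ ∃ j, y ∈ X j a := H.mem_iSup (H.monoX a)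

omit H in
theorem le_TL (j : J) : T j ≤ TL T := le_iSup T j

omit H in
theorem le_XL (j : J) (a : I → ℤ) : X j a ≤ XL X a := le_iSup (fun j => X j a) j

omit H in
theorem Sup_le_SupL (j : J) (S : Set (I → ℤ)) : RGD.Sup (X j) S ≤ RGD.Sup (XL X) S :=
  RGD.Sup_le fun a ha => le_trans (le_XL j a) (RGD.le_Sup (X := XL X) ha)

omit H in
theorem Sup_eq (S : Set (I → ℤ)) : RGD.Sup (XL X) S = ⨆ j, RGD.Sup (X j) S := by
  unfold RGD.Sup XL
  exact iSup_comm

theorem Tow.mono_Sup (S : Set (I → ℤ)) : Monotone fun j => RGD.Sup (X j) S := fun _ _ hab =>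
  RGD.Sup_le fun a ha => le_trans (H.monoX a hab) (RGD.le_Sup ha)

theorem Tow.mem_Sup {S : Set (I → ℤ)} {y : Y} : y ∈ RGD.Sup (XL X) S ↔ ∃ j, y ∈ RGD.Sup (X j) S := by
  rw [Sup_eq]
  exact H.mem_iSup (H.mono_Sup S)

omit H in
theorem GG_eq : GG cs h (TL T) (XL X) = ⨆ j, GG cs h (T j) (X j) := by
  unfold GG TL
  rw [Sup_eq, iSup_sup_eq]

theorem Tow.mono_GG : Monotone fun j => GG cs h (T j) (X j) := fun _ _ hab =>
  sup_le_sup (H.monoT hab) (H.mono_Sup _ hab)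

theorem Tow.mem_GG {y : Y} : y ∈ GG cs h (TL T) (XL X) ↔ ∃ j, y ∈ GG cs h (T j) (X j) := by
  rw [GG_eq]
  exact H.mem_iSup H.mono_GG

/-- every finite set of elements lies in one level -/
theorem Tow.exists_level {ι : Type*} [Finite ι] {S : J → Set Y} (hS : Monotone S) {f : ι → Y}
    (hf : ∀ i, ∃ j, f i ∈ S j) : ∃ j, ∀ i, f i ∈ S j := by
  have := H.ne
  have := Fintype.ofFinite ι
  choose g hg using hf
  have key : ∀ s : Finset ι, ∃ j, ∀ i ∈ s, g i ≤ j := by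
    classical
    intro s
    induction s using Finset.induction_on with
    | empty => exact ⟨Classical.arbitrary J, fun i hi => absurd hi (Finset.notMem_empty i)⟩
    | insert a s _ ih =>
      obtain ⟨j, hj⟩ := ih
      obtain ⟨c, h1, h2⟩ := H.dir j (g a)
      refine ⟨c, fun i hi => ?_⟩
      rcases Finset.mem_insert.1 hi with rfl | hi
      · exact h2
      · exact le_trans (hj i hi) h1
  obtain ⟨j, hj⟩ := key Finset.univ
  exact ⟨j, fun i => hS (hj i (Finset.mem_univ i)) (hg i)⟩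

theorem Tow.nsys : NSys M (TL T) n where
  norm := by
    intro i
    rw [Subgroup.mem_normalizer_iff]
    intro y
    constructor
    · intro hy
      obtain ⟨j, hj⟩ := H.mem_TL.1 hy
      exact le_TL j ((Subgroup.mem_normalizer_iff.1 ((H.rgd j).nsys.norm i) y).1 hj)
    · intro hy
      obtain ⟨j, hj⟩ := H.mem_TL.1 hy
      exact le_TL j ((Subgroup.mem_normalizer_iff.1 ((H.rgd j).nsys.norm i) y).2 hj)
  rel := fun i j => le_TL (Classical.choice H.ne) ((H.rgd _).nsys.rel i j)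

theorem Tow.rp_word (j : J) (ω : List I) : ∃ k, Rp cs (H.rgd j).nsys (cs.wordProd ω) k ∧
    (∀ j', Rp cs (H.rgd j').nsys (cs.wordProd ω) k) ∧ Rp cs H.nsys (cs.wordProd ω) k := by
  induction ω with
  | nil =>
    rw [wordProd_nil]
    exact ⟨1, rp_one, fun _ => rp_one, rp_one⟩
  | cons i ω ih =>
    obtain ⟨k, h1, h2, h3⟩ := ih
    rw [wordProd_cons]
    exact ⟨n i * k, (rp_simple cs _ i).mul h1, fun j' => (rp_simple cs _ i).mul (h2 j'), (rp_simple cs _ i).mul h3⟩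

/-- representatives at all levels -/
theorem Tow.exists_rp (w : W) : ∃ k, (∀ j, Rp cs (H.rgd j).nsys w k) ∧ Rp cs H.nsys w k := by
  obtain ⟨ω, rfl⟩ := cs.wordProd_surjective w
  obtain ⟨k, -, h1, h2⟩ := H.rp_word (Classical.choice H.ne) ω
  exact ⟨k, h1, h2⟩

theorem Tow.rp_up {j : J} {w : W} {g : Y} (hg : Rp cs (H.rgd j).nsys w g) : Rp cs H.nsys w g := by
  obtain ⟨k, h1, h2⟩ := H.exists_rp w
  have h3 := (h1 j).unique hg
  have e : g = k * (k⁻¹ * g) := by group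
  rw [e]
  exact h2.mul_mem_right (le_TL j h3)

theorem Tow.rp_mono {j j' : J} (hj : j ≤ j') {w : W} {g : Y} (hg : Rp cs (H.rgd j).nsys w g) :
    Rp cs (H.rgd j').nsys w g := by
  obtain ⟨k, h1, h2⟩ := H.exists_rp w
  have h3 := (h1 j).unique hg
  have e : g = k * (k⁻¹ * g) := by group
  rw [e]
  exact (h1 j').mul_mem_right (H.monoT hj h3)

theorem Tow.rp_down {w : W} {g : Y} (hg : Rp cs H.nsys w g) : ∃ j, Rp cs (H.rgd j).nsys w g := by
  obtain ⟨k, h1, h2⟩ := H.exists_rp w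
  obtain ⟨j, hj⟩ := H.mem_TL.1 (h2.unique hg)
  have e : g = k * (k⁻¹ * g) := by group
  refine ⟨j, ?_⟩
  rw [e]
  exact (h1 j).mul_mem_right hj

/-- `N` conjugates the root groups -/
theorem Tow.conj_rp {w : W} {g : Y} (hg : Rp cs H.nsys w g) {x : I → ℤ} (hx : IsRoot cs h x) :
    cj g (XL X x) = XL X (rep cs h w x) := by
  obtain ⟨j₀, hj₀⟩ := H.rp_down hg
  apply le_antisymm
  · intro y hy
    obtain ⟨j, hj⟩ := H.mem_XL.1 (mem_cj.1 hy)
    obtain ⟨c, h1, h2⟩ := H.dir j₀ j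
    have h3 := H.rp_mono h1 hj₀
    have h4 : y ∈ cj g (X c x) := mem_cj.2 (H.monoX x h2 hj)
    rw [(H.rgd c).conj_rp h3 hx] at h4
    exact le_XL c _ h4
  · intro y hy
    obtain ⟨j, hj⟩ := H.mem_XL.1 hy
    obtain ⟨c, h1, h2⟩ := H.dir j₀ j
    have h3 := H.rp_mono h1 hj₀
    have h4 : y ∈ X c (rep cs h w x) := H.monoX _ h2 hj
    rw [← (H.rgd c).conj_rp h3 hx] at h4
    exact mem_cj.2 (le_XL c _ (mem_cj.1 h4))

/-- `T` normalises the root groups -/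
theorem Tow.cj_T {t : Y} (ht : t ∈ TL T) {x : I → ℤ} (hx : IsRoot cs h x) : cj t (XL X x) = XL X x := by
  have h1 := H.conj_rp (rp_of_mem (cs := cs) (hN := H.nsys) ht) hx
  rwa [map_one, Module.End.one_apply] at h1

theorem Tow.T_le_normalizer {S : Set (I → ℤ)} (hS : ∀ x ∈ S, IsRoot cs h x) :
    TL T ≤ Subgroup.normalizer (RGD.Sup (XL X) S : Set Y) := by
  intro t ht
  obtain ⟨j₀, hj₀⟩ := H.mem_TL.1 ht
  rw [Subgroup.mem_normalizer_iff]
  intro y
  constructor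
  · intro hy
    obtain ⟨j, hj⟩ := H.mem_Sup.1 hy
    obtain ⟨c, h1, h2⟩ := H.dir j₀ j
    exact Sup_le_SupL c S ((Subgroup.mem_normalizer_iff.1 ((H.rgd c).T_le_normalizer hS (H.monoT h1 hj₀)) y).1
      (H.mono_Sup S h2 hj))
  · intro hy
    obtain ⟨j, hj⟩ := H.mem_Sup.1 hy
    obtain ⟨c, h1, h2⟩ := H.dir j₀ j
    exact Sup_le_SupL c S ((Subgroup.mem_normalizer_iff.1 ((H.rgd c).T_le_normalizer hS (H.monoT h1 hj₀)) y).2
      (H.mono_Sup S h2 hj))

/-- **Bruhat decomposition in the union.** -/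
theorem Tow.exists_normal_form [Finite W] {g : Y} (hg : g ∈ GG cs h (TL T) (XL X)) :
    ∃ w, ∃ u ∈ RGD.Sup (XL X) (RGD.Pos cs h), ∃ k, Rp cs H.nsys w k ∧ ∃ v ∈ RGD.Sup (XL X) (NW cs h w),
      g = u * k * v := by
  obtain ⟨j, hj⟩ := H.mem_GG.1 hg
  obtain ⟨w, hw⟩ := (Cfsg.Agent.Nodes.Bruhat.mem_GG (H.rgd j)).1 hj
  obtain ⟨u, hu, k, hk, v, hv, e⟩ := Cfsg.Agent.Nodes.NormalForm.exists_normal_form (H.rgd j) hw
  exact ⟨w, u, Sup_le_SupL j _ hu, k, H.rp_up hk, v, Sup_le_SupL j _ hv, e⟩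

/-- **Uniqueness in the Bruhat decomposition.** -/
theorem Tow.normal_form_unique [Finite W] {w w' : W} {u u' k k' v v' : Y}
    (hu : u ∈ RGD.Sup (XL X) (RGD.Pos cs h)) (hu' : u' ∈ RGD.Sup (XL X) (RGD.Pos cs h))
    (hk : Rp cs H.nsys w k) (hk' : Rp cs H.nsys w' k') (hv : v ∈ RGD.Sup (XL X) (NW cs h w))
    (hv' : v' ∈ RGD.Sup (XL X) (NW cs h w')) (e : u * k * v = u' * k' * v') :
    w = w' ∧ u = u' ∧ k = k' ∧ v = v' := by
  obtain ⟨j1, h1⟩ := H.mem_Sup.1 hu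
  obtain ⟨j2, h2⟩ := H.mem_Sup.1 hu'
  obtain ⟨j3, h3⟩ := H.rp_down hk
  obtain ⟨j4, h4⟩ := H.rp_down hk'
  obtain ⟨j5, h5⟩ := H.mem_Sup.1 hv
  obtain ⟨j6, h6⟩ := H.mem_Sup.1 hv'
  obtain ⟨a, a1, a2⟩ := H.dir j1 j2
  obtain ⟨b, b1, b2⟩ := H.dir j3 j4
  obtain ⟨c, c1, c2⟩ := H.dir j5 j6
  obtain ⟨d, d1, d2⟩ := H.dir a b
  obtain ⟨f, f1, f2⟩ := H.dir c d
  have g1 := H.mono_Sup _ (a1.trans (d1.trans f2)) h1
  have g2 := H.mono_Sup _ (a2.trans (d1.trans f2)) h2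
  have g3 := H.rp_mono (b1.trans (d2.trans f2)) h3
  have g4 := H.rp_mono (b2.trans (d2.trans f2)) h4
  have g5 := H.mono_Sup _ (c1.trans f1) h5
  have g6 := H.mono_Sup _ (c2.trans f1) h6
  have hB : ∀ {w : W} {v : Y}, v ∈ RGD.Sup (X f) (NW cs h w) → v ∈ RGD.B cs h (T f) (X f) := fun hv =>
    (le_sup_right : RGD.Sup (X f) (RGD.Pos cs h) ≤ RGD.B cs h (T f) (X f))
      (RGD.Sup_mono (S := NW cs h _) (S' := RGD.Pos cs h) (fun x hx => ⟨hx.1, hx.2.1⟩) hv)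
  have hU : ∀ {u : Y}, u ∈ RGD.Sup (X f) (RGD.Pos cs h) → u ∈ RGD.B cs h (T f) (X f) := fun hu =>
    (le_sup_right : RGD.Sup (X f) (RGD.Pos cs h) ≤ RGD.B cs h (T f) (X f)) hu
  have c1 : Cell (H.rgd f).nsys cs h (X f) w (u * k * v) := ⟨u, hU g1, k, g3, v, hB g5, rfl⟩
  have c2 : Cell (H.rgd f).nsys cs h (X f) w' (u * k * v) := ⟨u', hU g2, k', g4, v', hB g6, e⟩
  have hw : w = w' := Cell.unique (H.rgd f) c1 c2
  subst hw
  exact ⟨rfl, Cfsg.Agent.Nodes.NormalForm.normal_form_unique (H.rgd f) g1 g2 g3 g4 g5 g6 e⟩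

end Lim

end Cfsg.Agent.BpExc.Tow
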